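import Mathlib
import Cfsg.Agent.Deg.Over
import Cfsg.Agent.Ch.TripleRel
import Cfsg.Agent.Ch.RelGlaub

/-!
# Counting characters over a fixed character

`Ov f χ ν` : `χ` lies over `ν` along `f`; `cnt p f ν` : number of irreducible characters of degree
prime to `p` lying over `ν`; `Ext U ν` : `ν` extends to `U`.  Transport lemmas, the Clifford
reduction, the passage to a triple cover and the commutator count over an invariant linear
character.
-/

set_option autoImplicit false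
set_option linter.unusedSectionVars false

namespace Cfsg.Agent.Deg

open Cfsg Cfsg.Agent.Ch Cfsg.Agent.Ch.Glb
open scoped ComplexConjugate commutatorElement

section Defs
variable {L H L' H' : Type*} [Group L] [Group H] [Group L'] [Group H']

/-- `χ` lies over `ν` along `f`. -/
def Ov (f : L →* H) (χ : H → ℂ) (ν : L → ℂ) : Prop :=
  (∑ᶠ l, χ (f l) * conj (ν l)) ≠ 0

theorem ov_iff [Fintype L] {f : L →* H} {χ : H → ℂ} {ν : L → ℂ} :
    Ov f χ ν ↔ classInner (fun l => χ (f l)) ν ≠ 0 := by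
  rw [Ov, finsum_eq_sum_of_fintype, ← card_mul_classInner (fun l => χ (f l)) ν]
  simp

/-- The number of irreducible characters of degree prime to `p` over `ν`. -/
noncomputable def cnt (p : ℕ) (f : L →* H) (ν : L → ℂ) : ℕ :=
  Nat.card {χ : IrrCharacter H // ¬ p ∣ charDegree χ.1 ∧ Ov f χ.1 ν}

theorem ov_congr [Finite L] [Finite L'] (e : H → H') (e' : L ≃* L') {f : L →* H} {f' : L' →* H'}
    (h : ∀ l, e (f l) = f' (e' l)) {ν : L → ℂ} {ν' : L' → ℂ} (hν : ∀ l, ν l = ν' (e' l))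
    (χ : H' → ℂ) : Ov f (fun x => χ (e x)) ν ↔ Ov f' χ ν' := by
  have := Fintype.ofFinite L
  have := Fintype.ofFinite L'
  rw [ov_iff, ov_iff, ← classInner_comp_mulEquiv e' (fun l => χ (f' l)) ν']
  simp only [h, ← hν]

theorem cnt_congr [Finite L] [Finite L'] (p : ℕ) (e : H ≃* H') (e' : L ≃* L') {f : L →* H}
    {f' : L' →* H'} (h : ∀ l, e (f l) = f' (e' l)) {ν : L → ℂ} {ν' : L' → ℂ}
    (hν : ∀ l, ν l = ν' (e' l)) : cnt p f ν = cnt p f' ν' := by
  refine (Nat.card_congr ((irrCongr e).subtypeEquiv fun χ => ?_)).symm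
  have h1 : charDegree (irrCongr e χ).1 = charDegree χ.1 :=
    charDegree_congr (by rw [irrCongr_apply, map_one])
  rw [h1, ← ov_congr e e' h hν χ.1]
  rfl

end Defs

variable {Γ : Type*} [Group Γ]

/-- The character `ν` of `L` extends to `U`. -/
def Ext (U : Subgroup Γ) {L : Subgroup Γ} (ν : L → ℂ) : Prop :=
  ∃ η : U → ℂ, IsCharacter U η ∧ ∀ (l : L) (h : (l : Γ) ∈ U), η ⟨l, h⟩ = ν l

theorem Ext.mono {U V L : Subgroup Γ} {ν : L → ℂ} (h : Ext U ν) (hV : V ≤ U) : Ext V ν := by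
  obtain ⟨η, hη, h⟩ := h
  exact ⟨fun v => η ⟨v, hV v.2⟩, isCharacter_res_of_le hV hη, fun l hl => h l (hV hl)⟩

theorem Ext.inv {U L : Subgroup Γ} {ν : L → ℂ} (h : Ext U ν) (hL : L ≤ U) : Inv U ν := by
  obtain ⟨η, hη, h⟩ := h
  intro s hs g g' hg
  rw [← h g (hL g.2), ← h g' (hL g'.2), ← hη.isClassFunction.conj_eq ⟨g, hL g.2⟩ ⟨s, hs⟩]
  congr 1
  exact Subtype.ext hg

theorem ext_self {L : Subgroup Γ} {ν : L → ℂ} (h : IsCharacter L ν) : Ext L ν :=
  ⟨ν, h, fun _ _ => rfl⟩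

theorem Ext.trans {U V L : Subgroup Γ} {ν : L → ℂ} {ξ : V → ℂ} (h : Ext U ξ) (hLV : L ≤ V)
    (hξ : ∀ l : L, ξ ⟨l, hLV l.2⟩ = ν l) : Ext U ν := by
  obtain ⟨η, hη, h⟩ := h
  exact ⟨η, hη, fun l hl => (h ⟨l, hLV l.2⟩ hl).trans (hξ l)⟩

theorem isIrr_of_res_irr [Finite Γ] {L U : Subgroup Γ} (hLU : L ≤ U) {η : U → ℂ}
    (hη : IsCharacter U η) (h : IsIrrCharacter L fun l : L => η ⟨l, hLU l.2⟩) :
    IsIrrCharacter U η :=
  IsIrrCharacter.of_comp (f := Subgroup.inclusion hLU) hη h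

theorem cnt_subOf [Finite Γ] (p : ℕ) {L U : Subgroup Γ} (hLU : L ≤ U) (ν : L → ℂ) :
    cnt p (L.subgroupOf U).subtype (subOf U ν) = cnt p (Subgroup.inclusion hLU) ν :=
  cnt_congr p (MulEquiv.refl U) (Subgroup.subgroupOfEquivOfLe hLU) (fun _ => rfl) fun _ => rfl

theorem cnt_subOf_subOf [Finite Γ] (p : ℕ) {L V U : Subgroup Γ} (hLV : L ≤ V) (hVU : V ≤ U)
    (h : L.subgroupOf U ≤ V.subgroupOf U) (ν : L → ℂ) :
    cnt p (Subgroup.inclusion h) (subOf U ν) = cnt p (Subgroup.inclusion hLV) ν :=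
  cnt_congr p (Subgroup.subgroupOfEquivOfLe hVU) (Subgroup.subgroupOfEquivOfLe (hLV.trans hVU))
    (fun _ => rfl) fun _ => rfl

theorem cnt_top [Finite Γ] (p : ℕ) {L : Subgroup Γ} (ν : L → ℂ) :
    cnt p (Subgroup.inclusion (le_top : L ≤ ⊤)) ν = cnt p L.subtype ν :=
  cnt_congr p Subgroup.topEquiv (MulEquiv.refl L) (fun _ => rfl) fun _ => rfl

theorem cnt_eq_of_eq [Finite Γ] (p : ℕ) {L U V : Subgroup Γ} (h : U = V) (hU : L ≤ U) (hV : L ≤ V)
    (ν : L → ℂ) : cnt p (Subgroup.inclusion hU) ν = cnt p (Subgroup.inclusion hV) ν := by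
  subst h; rfl

theorem ext_subOf {L U : Subgroup Γ} (hLU : L ≤ U) (V : Subgroup U) (ν : L → ℂ) :
    Ext V (subOf U ν) ↔ Ext (V.map U.subtype) ν := by
  let e : V ≃* V.map U.subtype := V.equivMapOfInjective _ U.subtype_injective
  constructor
  · rintro ⟨η, hη, h⟩
    refine ⟨fun x => η (e.symm x), hη.comp_mulEquiv _, fun l hl => ?_⟩
    obtain ⟨v, hv, hvl⟩ := hl
    have h1 : (⟨l, hLU l.2⟩ : U) = v := Subtype.ext hvl.symm
    have h2 := h ⟨⟨l, hLU l.2⟩, l.2⟩ (h1 ▸ hv)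
    refine Eq.trans (congrArg η ?_) h2
    rw [MulEquiv.symm_apply_eq]
    rfl
  · rintro ⟨η, hη, h⟩
    exact ⟨fun x => η (e x), hη.comp_mulEquiv _, fun l hl =>
      h ⟨(l : U), l.2⟩ (Subgroup.mem_map_of_mem _ hl)⟩

theorem ext_top_iff {L : Subgroup Γ} (ν : L → ℂ) :
    Ext ⊤ ν ↔ ∃ η : Γ → ℂ, IsCharacter Γ η ∧ ∀ l : L, η l = ν l := by
  constructor
  · rintro ⟨η, hη, h⟩
    exact ⟨fun x => η (Subgroup.topEquiv.symm x), hη.comp_mulEquiv _, fun l => h l trivial⟩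
  · rintro ⟨η, hη, h⟩
    exact ⟨fun x => η x, hη.restrict _, fun l _ => h l⟩

theorem ext_iff_subOf {L U : Subgroup Γ} (hLU : L ≤ U) (ν : L → ℂ) :
    Ext U ν ↔ ∃ η : U → ℂ, IsCharacter U η ∧ ∀ l : L.subgroupOf U, η l = subOf U ν l := by
  rw [← ext_top_iff, ext_subOf hLU, ← MonoidHom.range_eq_map, Subgroup.range_subtype]

theorem inv_subOf {L U : Subgroup Γ} [hn : (L.subgroupOf U).Normal] {ν : L → ℂ} (h : Inv U ν)
    (g : U) (n : L.subgroupOf U) :
    subOf U ν ⟨g * n * g⁻¹, hn.conj_mem n n.2 g⟩ = subOf U ν n :=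
  h g g.2 _ _ rfl

theorem mem_inertia_subOf {L U : Subgroup Γ} (hLU : L ≤ U)
    (hU : U ≤ Subgroup.normalizer (L : Set Γ)) [(L.subgroupOf U).Normal] {ν : L → ℂ} {g : U} :
    g ∈ inertia (L.subgroupOf U) (subOf U ν) ↔ (g : Γ) ∈ invSub ν := by
  rw [mem_inertia]
  refine ⟨fun h => ⟨hU g.2, fun a b hab => ?_⟩, fun h n => h.2 _ _ rfl⟩
  have := h ⟨⟨a, hLU a.2⟩, a.2⟩
  refine Eq.trans (congrArg ν (Subtype.ext ?_)) this
  exact hab

theorem inertia_eq_invSub {L : Subgroup Γ} [hL : L.Normal] (ν : L → ℂ) :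
    inertia L ν = invSub ν := by
  ext g
  rw [mem_inertia]
  refine ⟨fun h => ⟨by rw [Subgroup.normalizer_eq_top]; trivial, fun a b hab => ?_⟩,
    fun h n => h.2 _ _ rfl⟩
  exact Eq.trans (congrArg ν (Subtype.ext hab)) (h a)

section Fin
variable [Finite Γ]

theorem prime_dvd_card_of_dvd_det {L : Type*} [Group L] [Finite L] {θ : L → ℂ}
    (hθ : IsIrrCharacter L θ) {q : ℕ} (hq : q.Prime) (h : q ∣ detOrder θ * charDegree θ) :
    q ∣ Nat.card L := by
  rcases (Nat.Prime.dvd_mul hq).1 h with h | h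
  · exact h.trans hθ.isCharacter.detOrder_dvd_card
  · exact h.trans hθ.charDegree_dvd_card

/-- Extension from subgroups of `q'`-index, for the primes `q` dividing `|L|`. -/
theorem ext_of_primes {L W : Subgroup Γ} (hLW : L ≤ W) (hW : W ≤ Subgroup.normalizer (L : Set Γ))
    {ν : L → ℂ} (hν : IsIrrCharacter L ν) (hinv : Inv W ν)
    (h : ∀ q : ℕ, q.Prime → q ∣ Nat.card L →
      ∃ U : Subgroup Γ, L ≤ U ∧ U ≤ W ∧ ¬ q ∣ U.relIndex W ∧ Ext U ν) : Ext W ν := by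
  have : (L.subgroupOf W).Normal := (Subgroup.normal_subgroupOf_iff_le_normalizer hLW).2 hW
  have hν' : IsIrrCharacter (L.subgroupOf W) (subOf W ν) := isIrrCharacter_subgroupOf hLW hν
  obtain ⟨χ, hχ, h'⟩ := extends_of_primes hν' (inv_subOf hinv) fun q hq _ hd => by
    have h1 := prime_dvd_card_of_dvd_det hν' hq hd
    rw [card_subgroupOf_eq hLW] at h1
    obtain ⟨U, hLU, hUW, hi, hE⟩ := h q hq h1
    have h2 : Ext (U.subgroupOf W) (subOf W ν) := by
      rw [ext_subOf hLW, Subgroup.subgroupOf_map_subtype, inf_eq_left.2 hUW]; exact hE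
    obtain ⟨η, hη, h3⟩ := h2
    exact ⟨U.subgroupOf W, fun x hx => hLU hx, η, hi, hη, fun n => h3 n _⟩
  exact (ext_iff_subOf hLW ν).2 ⟨χ, hχ.isCharacter, h'⟩

theorem ext_of_cyclic {L : Subgroup Γ} {s : Γ} (hs : s ∈ Subgroup.normalizer (L : Set Γ))
    {ν : L → ℂ} (hν : IsIrrCharacter L ν) (hinv : Inv (Subgroup.zpowers s) ν) :
    Ext (L ⊔ Subgroup.zpowers s) ν := by
  obtain ⟨a, ha, h⟩ := RG.exists_cx hs hν hinv
  exact ⟨fun x => a x, ha, fun l _ => congrFun h l⟩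

/-- The Clifford reduction. -/
theorem cnt_inertia {p : ℕ} (hp : p.Prime) {L T : Subgroup Γ} [L.Normal] {ν : L → ℂ}
    (hν : IsIrrCharacter L ν) (hT : T = inertia L ν) (hLT : L ≤ T) (hi : ¬ p ∣ T.index) :
    cnt p L.subtype ν = cnt p (Subgroup.inclusion hLT) ν := by
  have := Fintype.ofFinite Γ
  have := Fintype.ofFinite L
  have := Fintype.ofFinite T
  let e := cliffordEquiv hν hT hLT
  have e1 : {χ : IrrCharacter Γ // ¬ p ∣ charDegree χ.1 ∧ Ov L.subtype χ.1 ν} ≃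
      {χ : {χ : IrrCharacter Γ // classInner (fun n : L => (χ : Γ → ℂ) n) ν ≠ 0} //
        ¬ p ∣ charDegree χ.1.1} :=
    (Equiv.subtypeEquivRight fun χ => by rw [ov_iff, and_comm]; rfl).trans
      (Equiv.subtypeSubtypeEquivSubtypeInter _ fun χ : IrrCharacter Γ =>
        ¬ p ∣ charDegree χ.1).symm
  have e2 : {χ : IrrCharacter T // ¬ p ∣ charDegree χ.1 ∧ Ov (Subgroup.inclusion hLT) χ.1 ν} ≃
      {χ : {χ : IrrCharacter T // classInner (fun n : L => (χ : T → ℂ) ⟨n, hLT n.2⟩) ν ≠ 0} //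
        ¬ p ∣ charDegree χ.1.1} :=
    (Equiv.subtypeEquivRight fun χ => by rw [ov_iff, and_comm]; rfl).trans
      (Equiv.subtypeSubtypeEquivSubtypeInter _ fun χ : IrrCharacter T =>
        ¬ p ∣ charDegree χ.1).symm
  rw [cnt, cnt, Nat.card_congr e1, Nat.card_congr e2]
  refine (Nat.card_congr (e.subtypeEquiv fun ψ => ?_)).symm
  have h1 : charDegree (e ψ).1.1 = T.index * charDegree ψ.1.1 := by
    rw [← charDegree_indFun T ψ.1.2.isCharacter]
    exact congrArg charDegree (cliffordEquiv_apply hν hT hLT ψ)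
  rw [h1, hp.dvd_mul]
  tauto

theorem cnt_inertia_rel {p : ℕ} (hp : p.Prime) {L T U : Subgroup Γ} (hLU : L ≤ U)
    (hU : U ≤ Subgroup.normalizer (L : Set Γ)) {ν : L → ℂ} (hν : IsIrrCharacter L ν)
    (hT : T = U ⊓ invSub ν) (hLT : L ≤ T) (hi : ¬ p ∣ T.relIndex U) :
    cnt p (Subgroup.inclusion hLU) ν = cnt p (Subgroup.inclusion hLT) ν := by
  have : (L.subgroupOf U).Normal := (Subgroup.normal_subgroupOf_iff_le_normalizer hLU).2 hU
  have hTU : T ≤ U := hT ▸ inf_le_left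
  have h1 : T.subgroupOf U = inertia (L.subgroupOf U) (subOf U ν) := by
    ext g
    rw [mem_inertia_subOf hLU hU, Subgroup.mem_subgroupOf, hT]
    exact ⟨fun h => h.2, fun h => ⟨g.2, h⟩⟩
  have h2 : L.subgroupOf U ≤ T.subgroupOf U := fun x hx => hLT hx
  have hν' : IsIrrCharacter (L.subgroupOf U) (subOf U ν) := isIrrCharacter_subgroupOf hLU hν
  rw [← cnt_subOf p hLU, cnt_inertia hp hν' h1 h2 hi, cnt_subOf_subOf p hLT hTU]

end Fin

section Cover
universe u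
variable {G : Type u} [Group G] [Finite G] {N : Subgroup G} [N.Normal] {θ : N → ℂ}

theorem cor_degree {T : TripleCover N θ} {V : Subgroup T.Q} {U : Subgroup G} {β : V → ℂ}
    {χ : U → ℂ} (h : T.Cor β χ) : χ 1 = β 1 * θ 1 := by
  have := h 1 (by rw [map_one]; exact one_mem _) (by rw [map_one]; exact one_mem _)
  rw [T.ext_one] at this
  refine Eq.trans (congrArg χ (Subtype.ext (map_one _).symm)) (this.trans ?_)
  exact congrArg (fun x => β x * θ 1) (Subtype.ext (map_one _))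

theorem cnt_cover {p : ℕ} (T : TripleCover N θ) (hθ : IsIrrCharacter N θ)
    (hp : ∀ d, p ∣ d * charDegree θ ↔ p ∣ d) {U : Subgroup G} (hU : N ≤ U) :
    cnt p (Subgroup.inclusion hU) θ =
      cnt p (Subgroup.inclusion (T.Z_le_up U)) (fun z => T.mu z) := by
  have := Fintype.ofFinite N
  have := Fintype.ofFinite T.Z
  have hVU := T.down_up hU
  have hdeg : ∀ {β : T.up U → ℂ} {χ : U → ℂ}, IsIrrCharacter _ β → IsIrrCharacter U χ →
      T.Cor β χ → (¬ p ∣ charDegree χ ↔ ¬ p ∣ charDegree β) := by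
    intro β χ hβ hχ h
    have h1 : charDegree χ = charDegree β * charDegree θ := by
      rw [hχ.isCharacter.charDegree_eq_iff, cor_degree h, Nat.cast_mul, hβ.coe_charDegree,
        hθ.coe_charDegree]
    rw [h1, hp]
  have hov : ∀ {χ : U → ℂ}, Ov (Subgroup.inclusion hU) χ θ ↔
      classInner (fun n : N => χ ⟨n, hU n.2⟩) θ ≠ 0 := ov_iff
  have hov' : ∀ {β : T.up U → ℂ}, IsIrrCharacter _ β →
      (Ov (Subgroup.inclusion (T.Z_le_up U)) β (fun z => T.mu z) ↔ T.Over β) := fun hβ =>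
    ov_iff.trans (TripleCover.over_iff_of_le (T.Z_le_up U) hβ).symm
  have hup : ∀ χ : {χ : IrrCharacter U // ¬ p ∣ charDegree χ.1 ∧
      Ov (Subgroup.inclusion hU) χ.1 θ}, ∃ β : {β : IrrCharacter (T.up U) //
        ¬ p ∣ charDegree β.1 ∧ Ov (Subgroup.inclusion (T.Z_le_up U)) β.1 fun z => T.mu z},
      T.Cor β.1.1 χ.1.1 := by
    rintro ⟨χ, h1, h2⟩
    obtain ⟨β, hβ, hc, ho⟩ := TripleCover.exists_cor_up hθ hVU hU χ.2 (hov.1 h2)
    exact ⟨⟨⟨β, hβ⟩, (hdeg hβ χ.2 hc).1 h1, (hov' hβ).2 ho⟩, hc⟩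
  choose F hF using hup
  refine Nat.card_congr (Equiv.ofBijective F ⟨fun a b hab => ?_, ?_⟩)
  · have h1 := hF a
    rw [hab] at h1
    exact Subtype.ext (Subtype.ext (h1.eq_right hVU (hF b)))
  · rintro ⟨β, h1, h2⟩
    obtain ⟨χ, hχ, hc, ho⟩ := TripleCover.exists_cor_down hθ hVU hU β.2 ((hov' β.2).1 h2)
    refine ⟨⟨⟨χ, hχ⟩, (hdeg β.2 hχ hc).2 h1, hov.2 ho⟩, ?_⟩
    exact Subtype.ext (Subtype.ext ((hF _).eq_left hθ hVU hc))

theorem ext_cover (T : TripleCover N θ) (hθ : IsIrrCharacter N θ) {U : Subgroup G} (hU : N ≤ U) :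
    Ext U θ ↔ Ext (T.up U) (fun z : T.Z => (T.mu z : ℂ)) := by
  have := Fintype.ofFinite N
  have := Fintype.ofFinite T.Z
  have hVU := T.down_up hU
  constructor
  · rintro ⟨η, hη, h⟩
    have h1 : (fun n : N => η ⟨n, hU n.2⟩) = θ := funext fun n => h n _
    have hη' : IsIrrCharacter U η := isIrr_of_res_irr hU hη (h1 ▸ hθ)
    obtain ⟨β, hβ, hc, ho⟩ := TripleCover.exists_cor_up hθ hVU hU hη'
      (by rw [h1, hθ.classInner_self]; exact one_ne_zero)
    have h2 := cor_degree hc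
    have h3 : η 1 = θ 1 := h 1 (one_mem _)
    have h4 : β 1 = 1 := mul_right_cancel₀ hθ.apply_one_ne_zero (by rw [← h2, h3, one_mul])
    exact ⟨β, hβ.isCharacter, fun z hz => by rw [ho z hz, h4, mul_one]⟩
  · rintro ⟨β, hβ, h⟩
    have h1 : β 1 = 1 := by
      have := h 1 (one_mem _)
      simp only [map_one, Units.val_one] at this
      exact this
    have hβ' := hβ.isIrr_of_apply_one h1
    obtain ⟨χ, hχ, hc, ho⟩ := TripleCover.exists_cor_down hθ hVU hU hβ'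
      (fun z hz => by rw [h z hz, h1, mul_one])
    have h2 := cor_degree hc
    rw [h1, one_mul] at h2
    have h3 := (isCharacter_res_of_le hU hχ.isCharacter).eq_irr_of_apply_one hθ ho h2
    exact ⟨χ, hχ.isCharacter, fun l _ => congrFun h3 l⟩

/-- The projection of the cover quotient onto `X = G / N`. -/
noncomputable def coverProj (T : TripleCover N θ) {X : Type*} [Group X] (π : G →* X)
    (hπ : π.ker = N) : T.Q →* X :=
  QuotientGroup.lift _ (π.comp T.π) (by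
    rintro _ ⟨n, rfl⟩
    rw [MonoidHom.mem_ker, MonoidHom.comp_apply, T.π_s, ← MonoidHom.mem_ker, hπ]
    exact n.2)

theorem coverProj_q (T : TripleCover N θ) {X : Type*} [Group X] (π : G →* X) (hπ : π.ker = N)
    (t : T.Γ) : coverProj T π hπ (T.q t) = π (T.π t) := rfl

theorem coverProj_surjective (T : TripleCover N θ) {X : Type*} [Group X] {π : G →* X}
    (hπ : π.ker = N) (hs : Function.Surjective π) : Function.Surjective (coverProj T π hπ) := by
  intro x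
  obtain ⟨g, rfl⟩ := hs x
  obtain ⟨t, rfl⟩ := T.surj g
  exact ⟨T.q t, rfl⟩

theorem comap_coverProj (T : TripleCover N θ) {X : Type*} [Group X] (π : G →* X) (hπ : π.ker = N)
    (U : Subgroup X) : U.comap (coverProj T π hπ) = T.up (U.comap π) := by
  ext x
  obtain ⟨t, rfl⟩ := T.q_surj x
  rw [T.mem_up (hπ ▸ Subgroup.ker_le_comap _ _)]
  rfl

theorem ker_coverProj (T : TripleCover N θ) {X : Type*} [Group X] (π : G →* X) (hπ : π.ker = N) :
    (coverProj T π hπ).ker = T.Z := by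
  rw [← MonoidHom.comap_bot, comap_coverProj, MonoidHom.comap_bot, hπ, T.up_self]

theorem not_dvd_card_Z {p m : ℕ} (hp : p.Prime) (T : TripleCover N θ) (hm : ¬ p ∣ m)
    (h : ∀ z : T.π.ker, z ^ m = 1) : ¬ p ∣ Nat.card T.Z := by
  rw [T.card_Z]
  intro hd
  have := Fact.mk hp
  obtain ⟨z, hz⟩ := exists_prime_orderOf_dvd_card' p hd
  exact hm (hz ▸ orderOf_dvd_of_pow_eq_one (h z))

end Cover

/-- Extension of a linear character to an overgroup, trivially on `D ≥ V'`. -/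
theorem exists_lin_ext [Finite Γ] {Z D V : Subgroup Γ} (hZ : Z ≤ V) (hD : ⁅V, V⁆ ≤ D)
    (μ : Z →* ℂˣ) (hμ : ∀ z : Z, (z : Γ) ∈ D → μ z = 1) :
    ∃ F : V →* ℂˣ, (∀ z : Z, F ⟨z, hZ z.2⟩ = μ z) ∧ ∀ v : V, (v : Γ) ∈ D → F v = 1 := by
  have hc : commutator V ≤ D.subgroupOf V := commutator_le_subgroupOf hD
  have : (D.subgroupOf V).Normal := Subgroup.Normal.of_commutator_le V hc
  let j : Z →* V ⧸ D.subgroupOf V := (QuotientGroup.mk' _).comp (Subgroup.inclusion hZ)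
  let μ' : j.range →* ℂˣ := j.rangeRestrict.liftOfSurjective j.rangeRestrict_surjective
    ⟨μ, fun z hz => by
      rw [MonoidHom.ker_rangeRestrict] at hz
      exact hμ z ((QuotientGroup.eq_one_iff (N := D.subgroupOf V) _).1 hz)⟩
  obtain ⟨F, hF⟩ := exists_monoidHom_units_extend (quotient_comm_of_commutator_le hc) j.range μ'
  refine ⟨F.comp (QuotientGroup.mk' _), fun z => ?_, fun v hv => ?_⟩
  · refine (hF (j.rangeRestrict z)).trans ?_
    exact MonoidHom.liftOfRightInverse_comp_apply _ _ _ _ _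
  · rw [MonoidHom.comp_apply, QuotientGroup.mk'_apply,
      (QuotientGroup.eq_one_iff (N := D.subgroupOf V) v).2 hv, map_one]

theorem nonempty_equiv_sigma_fibers {γ Θ : Type*} (E : Setoid Θ) (S : γ → Θ → Prop)
    (hS : ∀ a, ∃ t, S a t) (hS' : ∀ a t t', S a t → (S a t' ↔ E t t')) :
    Nonempty (γ ≃ Σ c : Quotient E, {a // S a c.out}) := by
  choose f hf using hS
  refine ⟨(Equiv.sigmaFiberEquiv fun a => Quotient.mk E (f a)).symm.trans
    (Equiv.sigmaCongrRight fun c => Equiv.subtypeEquivRight fun a => ?_)⟩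
  rw [hS' a _ _ (hf a), Quotient.mk_eq_iff_out]

/-- Counting by the fibres of an equivalence relation. -/
theorem card_eq_of_fibers {α β Θ : Type*} [Finite α] [Finite β] [Finite Θ] (E : Setoid Θ)
    (R : α → Θ → Prop) (R' : β → Θ → Prop) (h1 : ∀ a, ∃ t, R a t)
    (h2 : ∀ a t t', R a t → (R a t' ↔ E t t')) (h1' : ∀ b, ∃ t, R' b t)
    (h2' : ∀ b t t', R' b t → (R' b t' ↔ E t t'))
    (h : ∀ t, Nat.card {a // R a t} = Nat.card {b // R' b t}) : Nat.card α = Nat.card β := by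
  have := Fintype.ofFinite (Quotient E)
  obtain ⟨e⟩ := nonempty_equiv_sigma_fibers E R h1 h2
  obtain ⟨e'⟩ := nonempty_equiv_sigma_fibers E R' h1' h2'
  rw [Nat.card_congr e, Nat.card_congr e', Nat.card_sigma, Nat.card_sigma]
  exact Finset.sum_congr rfl fun c _ => h _

end Cfsg.Agent.Deg
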