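import Mathlib
import Cfsg.Agent.Deg.McK1

/-!
# Gallagher's count over an invariant linear character
-/

set_option autoImplicit false
set_option linter.unusedSectionVars false

namespace Cfsg.Agent.Deg

open Cfsg Cfsg.Agent.Ch Cfsg.Agent.Ch.Glb
open scoped ComplexConjugate commutatorElement

variable {Q : Type*} [Group Q]

/-- The elements commuting with `a` modulo `W`. -/
def relCent (W : Subgroup Q) [hW : W.Normal] (a : Q) : Subgroup Q where
  carrier := {b | ⁅a, b⁆ ∈ W}
  one_mem' := by simp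
  mul_mem' := by
    intro b c hb hc
    have : ⁅a, b * c⁆ = ⁅a, b⁆ * (b * ⁅a, c⁆ * b⁻¹) := by
      simp only [commutatorElement_def]; group
    change ⁅a, b * c⁆ ∈ W
    rw [this]
    exact mul_mem hb (hW.conj_mem _ hc b)
  inv_mem' := by
    intro b hb
    have : ⁅a, b⁻¹⁆ = b⁻¹ * ⁅a, b⁆⁻¹ * b⁻¹⁻¹ := by
      simp only [commutatorElement_def]; group
    change ⁅a, b⁻¹⁆ ∈ W
    rw [this]
    exact hW.conj_mem _ (inv_mem hb) _

theorem mem_relCent {W : Subgroup Q} [W.Normal] {a b : Q} : b ∈ relCent W a ↔ ⁅a, b⁆ ∈ W :=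
  Iff.rfl

/-- `b ↦ μ ⁅a, b⁆`. -/
def commHom {W : Subgroup Q} [hW : W.Normal] (μ : W →* ℂˣ)
    (hμ : ∀ (g : Q) (w : W), μ ⟨g * w * g⁻¹, hW.conj_mem w w.2 g⟩ = μ w) (a : Q) :
    relCent W a →* ℂˣ :=
  MonoidHom.mk' (fun b => μ ⟨⁅a, (b : Q)⁆, b.2⟩) fun b c => by
    rw [← hμ b ⟨⁅a, (c : Q)⁆, c.2⟩, ← map_mul]
    congr 1
    apply Subtype.ext
    simp only [commutatorElement_def, Subgroup.coe_mul]
    group

theorem ov_lin_iff [Finite Q] {W : Subgroup Q} [hW : W.Normal] (μ : W →* ℂˣ)
    (hμ : ∀ (g : Q) (w : W), μ ⟨g * w * g⁻¹, hW.conj_mem w w.2 g⟩ = μ w) {χ : Q → ℂ}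
    (hχ : IsIrrCharacter Q χ) :
    Ov W.subtype χ (fun w => μ w) ↔ ∀ w : W, χ w = μ w * χ 1 := by
  have := Fintype.ofFinite Q
  have := Fintype.ofFinite W
  rw [ov_iff]
  constructor
  · intro h
    have h1 := res_eq_smul_of_invariant hχ (isIrrCharacter_monoidHom_units μ)
      (fun g => funext fun w => by rw [conjChar_apply, hμ]) h
    have h2 := congrFun h1 1
    simp only [OneMemClass.coe_one, Pi.smul_apply, map_one, Units.val_one, smul_eq_mul,
      mul_one] at h2
    intro w
    have h3 := congrFun h1 w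
    simp only [Pi.smul_apply, smul_eq_mul] at h3
    rw [h3, ← h2, mul_comm]
  · intro h
    have h1 : (fun w : W => χ (W.subtype w)) = χ 1 • fun w => (μ w : ℂ) :=
      funext fun w => by rw [Subgroup.coe_subtype, h, mul_comm]; rfl
    rw [h1, classInner_smul_left, (isIrrCharacter_monoidHom_units μ).classInner_self, mul_one]
    exact hχ.apply_one_ne_zero

/-- The number of irreducible characters over an invariant linear character. -/
theorem card_ov_lin [Finite Q] {W : Subgroup Q} [hW : W.Normal] (μ : W →* ℂˣ)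
    (hμ : ∀ (g : Q) (w : W), μ ⟨g * w * g⁻¹, hW.conj_mem w w.2 g⟩ = μ w) :
    Nat.card {χ : IrrCharacter Q // Ov W.subtype χ.1 fun w => μ w} * (Nat.card Q * Nat.card W) =
      Nat.card {x : Q × Q // ⁅x.1, x.2⁆ ∈ W ∧ ∀ c (h : ⁅x.1, c⁆ ∈ W), μ ⟨_, h⟩ = 1} := by
  classical
  have := Fintype.ofFinite Q
  have := Fintype.ofFinite W
  have hQ := natCard_ne_zero Q
  let A : ℂ := ∑ w : W, conj (μ w : ℂ) * ∑ a, ∑ b, regChar Q (a * b * a⁻¹ * b⁻¹ * w)
  have h1 : A = (Nat.card Q : ℂ) ^ 2 * Nat.card W *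
      Nat.card {χ : IrrCharacter Q // Ov W.subtype χ.1 fun w => μ w} := by
    have e1 : ∀ w : W, ∑ a, ∑ b, regChar Q (a * b * a⁻¹ * b⁻¹ * w) =
        ∑ χ : IrrCharacter Q, (Nat.card Q : ℂ) ^ 2 * χ.1 w / χ.1 1 := fun w => by
      rw [← Fintype.sum_prod_type', sum_regChar_eq fun x : Q × Q => x.1 * x.2 * x.1⁻¹ * x.2⁻¹ * w]
      refine Finset.sum_congr rfl fun χ _ => ?_
      rw [Fintype.sum_prod_type, sum_commutator_mul χ.2]
      have := χ.2.apply_one_ne_zero
      field_simp
    simp only [A, e1, Finset.mul_sum]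
    rw [Finset.sum_comm, Nat.card_eq_fintype_card (α := {χ : IrrCharacter Q // _}),
      Fintype.card_subtype, Finset.card_eq_sum_ones, Finset.sum_filter]
    push_cast
    rw [Finset.mul_sum]
    refine Finset.sum_congr rfl fun χ _ => ?_
    have h0 := χ.2.apply_one_ne_zero
    have e2 : ∑ w : W, conj (μ w : ℂ) * ((Nat.card Q : ℂ) ^ 2 * χ.1 w / χ.1 1) =
        (Nat.card Q : ℂ) ^ 2 / χ.1 1 * (Nat.card W *
          classInner (fun w : W => χ.1 w) fun w => μ w) := by
      rw [card_mul_classInner, Finset.mul_sum]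
      exact Finset.sum_congr rfl fun w _ => by ring
    rw [e2]
    split_ifs with h
    · have h2 : (fun w : W => χ.1 w) = χ.1 1 • fun w => (μ w : ℂ) :=
        funext fun w => by rw [(ov_lin_iff μ hμ χ.2).1 h, mul_comm]; rfl
      rw [h2, classInner_smul_left, (isIrrCharacter_monoidHom_units μ).classInner_self]
      field_simp
    · have h2 : classInner (fun w : W => χ.1 w) (fun w => μ w) = 0 := by
        by_contra h'
        exact h (ov_iff.2 h')
      rw [h2]; ring
  have h2 : A = Nat.card Q *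
      Nat.card {x : Q × Q // ⁅x.1, x.2⁆ ∈ W ∧ ∀ c (h : ⁅x.1, c⁆ ∈ W), μ ⟨_, h⟩ = 1} := by
    have e1 : ∀ a b : Q, ∑ w : W, conj (μ w : ℂ) * regChar Q (a * b * a⁻¹ * b⁻¹ * w) =
        Nat.card Q * if h : ⁅a, b⁆ ∈ W then (μ ⟨_, h⟩ : ℂ) else 0 := fun a b => by
      split_ifs with h
      · rw [Finset.sum_eq_single (⟨_, h⟩ : W)⁻¹]
        · rw [← commutatorElement_def, Subgroup.coe_inv, mul_inv_cancel, regChar_one,
            conj_monoidHom_units, map_inv, Units.val_inv_eq_inv_val, inv_inv, mul_comm]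
        · intro w _ hw
          rw [regChar_of_ne, mul_zero]
          intro h'
          exact hw (Subtype.ext (eq_inv_of_mul_eq_one_right h'))
        · simp
      · rw [mul_zero]
        refine Finset.sum_eq_zero fun w _ => ?_
        rw [regChar_of_ne, mul_zero]
        intro h'
        apply h
        rw [commutatorElement_def, eq_inv_of_mul_eq_one_left h']
        exact inv_mem w.2
    have e2 : ∀ a : Q, ∑ b, (if h : ⁅a, b⁆ ∈ W then (μ ⟨_, h⟩ : ℂ) else 0) =
        ∑ b, if ⁅a, b⁆ ∈ W ∧ ∀ c (h : ⁅a, c⁆ ∈ W), μ ⟨_, h⟩ = 1 then (1 : ℂ) else 0 := fun a => by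
      by_cases hg : ∀ c (h : ⁅a, c⁆ ∈ W), μ ⟨_, h⟩ = 1
      · refine Finset.sum_congr rfl fun b _ => ?_
        by_cases h : ⁅a, b⁆ ∈ W
        · rw [dif_pos h, if_pos ⟨h, hg⟩, hg, Units.val_one]
        · rw [dif_neg h, if_neg fun h' => h h'.1]
      · rw [Finset.sum_eq_zero (f := fun b => if ⁅a, b⁆ ∈ W ∧ ∀ c (h : ⁅a, c⁆ ∈ W), μ ⟨_, h⟩ = 1
          then (1 : ℂ) else 0) fun b _ => if_neg fun h' => hg h'.2]
        have hne : commHom μ hμ a ≠ 1 := fun h => hg fun c hc => DFunLike.congr_fun h ⟨c, hc⟩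
        have := Fintype.ofFinite (relCent W a)
        refine Eq.trans ?_ (sum_monoidHom_units_eq_zero hne)
        rw [← sum_extendByZero]
        refine Finset.sum_congr rfl fun b _ => ?_
        split_ifs with h
        · rw [extendByZero_of_mem (relCent W a) _ h]; rfl
        · rw [extendByZero_of_not_mem (relCent W a) _ h]
    have e3 : A = ∑ a : Q, ∑ b : Q, ∑ w : W,
        conj (μ w : ℂ) * regChar Q (a * b * a⁻¹ * b⁻¹ * w) := by
      simp only [A, Finset.mul_sum]
      rw [Finset.sum_comm]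
      exact Finset.sum_congr rfl fun a _ => Finset.sum_comm
    rw [e3]
    simp only [e1, ← Finset.mul_sum, e2]
    rw [Nat.card_eq_fintype_card (α := {x : Q × Q // _}), Fintype.card_subtype,
      Finset.card_eq_sum_ones, Finset.sum_filter, Fintype.sum_prod_type]
    push_cast
    rfl
  have h3 := h1.symm.trans h2
  rw [pow_two, mul_assoc, mul_assoc] at h3
  have h4 := mul_left_cancel₀ hQ h3
  rw [← mul_assoc, mul_comm] at h4
  exact_mod_cast h4

theorem card_preimage_of_surjective {A B : Type*} [Group A] [Group B] [Finite A] (f : A →* B)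
    (hf : Function.Surjective f) (S : B → Prop) :
    Nat.card {a // S (f a)} = Nat.card f.ker * Nat.card {b // S b} := by
  classical
  have := Fintype.ofFinite A
  have : Finite B := Finite.of_surjective f hf
  have := Fintype.ofFinite B
  have h := sum_comp_surjective f hf fun b => if S b then 1 else 0
  rw [Finset.sum_boole, Finset.sum_boole, ← Fintype.card_subtype, ← Fintype.card_subtype,
    ← Nat.card_eq_fintype_card, ← Nat.card_eq_fintype_card] at h
  exact_mod_cast h

theorem card_pairs_preimage {A B : Type*} [Group A] [Group B] [Finite A] (f : A →* B)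
    (hf : Function.Surjective f) (S : B → B → Prop) :
    Nat.card {x : A × A // S (f x.1) (f x.2)} =
      Nat.card f.ker ^ 2 * Nat.card {y : B × B // S y.1 y.2} := by
  have h := card_preimage_of_surjective (f.prodMap f) (hf.prodMap hf) fun y => S y.1 y.2
  rw [MonoidHom.ker_prodMap, Nat.card_congr (Subgroup.prodEquiv _ _).toEquiv, Nat.card_prod,
    ← pow_two] at h
  exact h

/-- Commuting pairs whose first entry lies in a union of classes. -/
theorem card_comm_pairs {X : Type*} [Group X] [Finite X] (S : ConjClasses X → Prop) :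
    Nat.card {y : X × X // ⁅y.1, y.2⁆ = 1 ∧ S (ConjClasses.mk y.1)} =
      Nat.card {C // S C} * Nat.card X := by
  classical
  have := Fintype.ofFinite X
  have := Fintype.ofFinite (ConjClasses X)
  have h1 : Nat.card {y : X × X // ⁅y.1, y.2⁆ = 1 ∧ S (ConjClasses.mk y.1)} =
      ∑ x : X, if S (ConjClasses.mk x) then Nat.card (Subgroup.centralizer ({x} : Set X))
        else 0 := by
    rw [Nat.card_eq_fintype_card, Fintype.card_subtype, Finset.card_eq_sum_ones,
      Finset.sum_filter, Fintype.sum_prod_type]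
    refine Finset.sum_congr rfl fun x _ => ?_
    split_ifs with h
    · rw [Nat.card_eq_fintype_card, Fintype.card_subtype, Finset.card_eq_sum_ones,
        Finset.sum_filter]
      refine Finset.sum_congr rfl fun y _ => if_congr ?_ rfl rfl
      rw [Subgroup.mem_centralizer_singleton_iff, commutatorElement_eq_one_iff_mul_comm]
      exact ⟨fun h' => h'.1.symm, fun h' => ⟨h'.symm, h⟩⟩
    · exact Finset.sum_eq_zero fun y _ => if_neg fun h' => h h'.2
  rw [h1, sum_eq_sum_conjClasses, Nat.card_eq_fintype_card (α := {C // S C}),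
    Fintype.card_subtype, Finset.card_eq_sum_ones, Finset.sum_filter, Finset.sum_mul]
  · refine Finset.sum_congr rfl fun C _ => ?_
    rw [conjClasses_mk_out]
    split_ifs
    · rw [smul_eq_mul, Subgroup.index_mul_card, one_mul]
    · simp
  · intro g x h
    rw [ConjClasses.mk_eq_mk_iff_isConj.2 h, card_centralizer_eq_of_isConj h]

end Cfsg.Agent.Deg
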