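import Mathlib
import Cfsg.Agent.Deg.Basic
import Cfsg.Agent.Ch.Table
import Cfsg.Agent.GT.MinNormal
import Cfsg.Agent.GT.FrobeniusBasic

/-!
# Irreducible characters that are nonzero on exactly two conjugacy classes
-/

set_option autoImplicit false

namespace Cfsg.Agent.Deg

open Cfsg Cfsg.Agent.Ch
open scoped ComplexConjugate

variable {G : Type*} [Group G]

/-- `χ` is irreducible, nonzero exactly on `N ≠ 1`, whose nonidentity elements are conjugate. -/
structure Gag (χ : G → ℂ) (N : Subgroup G) : Prop where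
  irr : IsIrrCharacter G χ
  mem : ∀ g, g ∈ N ↔ χ g ≠ 0
  ne_bot : N ≠ ⊥
  isConj : ∀ x ∈ N, ∀ y ∈ N, x ≠ 1 → y ≠ 1 → IsConj x y
  two_lt : 2 < Nat.card G

theorem exists_two_classes {χ : G → ℂ} (hχ : IsIrrCharacter G χ)
    (h : Nat.card {C : ConjClasses G // ∃ g ∈ C.carrier, χ g ≠ 0} = 2) :
    ∃ x : G, x ≠ 1 ∧ ∀ g, χ g ≠ 0 ↔ g = 1 ∨ IsConj x g := by
  have h1 : ∃ g ∈ (ConjClasses.mk (1 : G)).carrier, χ g ≠ 0 :=
    ⟨1, ConjClasses.mem_carrier_mk, hχ.apply_one_ne_zero⟩
  obtain ⟨⟨C, x, hx, hx0⟩, hne, huniq⟩ := (Nat.card_eq_two_iff' (⟨_, h1⟩ :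
    {C : ConjClasses G // ∃ g ∈ C.carrier, χ g ≠ 0})).1 h
  rw [ConjClasses.mem_carrier_iff_mk_eq] at hx
  subst hx
  have hx1 : x ≠ 1 := by
    rintro rfl
    exact hne rfl
  refine ⟨x, hx1, fun g => ⟨fun hg => ?_, ?_⟩⟩
  · by_cases hg1 : g = 1
    · exact Or.inl hg1
    · right
      have := huniq ⟨ConjClasses.mk g, g, ConjClasses.mem_carrier_mk, hg⟩ (by
        intro he
        have := congrArg Subtype.val he
        simp only [ConjClasses.mk_eq_mk_iff_isConj, isConj_one_left] at this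
        exact hg1 this)
      have := congrArg Subtype.val this
      simp only [ConjClasses.mk_eq_mk_iff_isConj] at this
      exact this.symm
  · rintro (rfl | hg)
    · exact hχ.apply_one_ne_zero
    · rwa [← hχ.isClassFunction.eq_of_isConj hg]

theorem sum_mul_conj_of_two_classes [Fintype G] {χ ψ : G → ℂ} (hχ : IsClassFunction G χ)
    (hψ : IsClassFunction G ψ) {x : G} (hx : x ≠ 1) (hs : ∀ g, χ g ≠ 0 → g = 1 ∨ IsConj x g) :
    ∑ g, ψ g * conj (χ g) =
      ψ 1 * conj (χ 1) + (Subgroup.centralizer ({x} : Set G)).index * (ψ x * conj (χ x)) := by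
  classical
  have h1 := sum_classInd_mul x (hψ.mul hχ.complexConj)
  simp only [Pi.mul_apply] at h1
  rw [← h1]
  have h2 : ∀ g, ψ g * conj (χ g) = (if g = 1 then ψ 1 * conj (χ 1) else 0) +
      classInd x g * (ψ g * conj (χ g)) := by
    intro g
    by_cases hg : g = 1
    · subst hg
      rw [classInd_of_not_isConj (fun h => hx (isConj_one_left.1 h))]
      simp
    · by_cases hc : IsConj x g
      · rw [classInd_of_isConj hc]; simp [hg]
      · have : χ g = 0 := by
          by_contra h0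
          rcases hs g h0 with h | h
          exacts [hg h, hc h]
        simp [hg, this]
  rw [Finset.sum_congr rfl fun g _ => h2 g, Finset.sum_add_distrib]
  simp

theorem exists_gag [Finite G] (hG : 2 < Nat.card G) {χ : G → ℂ} (hχ : IsIrrCharacter G χ)
    (h : Nat.card {C : ConjClasses G // ∃ g ∈ C.carrier, χ g ≠ 0} = 2) :
    ∃ N : Subgroup G, Gag χ N := by
  classical
  have := Fintype.ofFinite G
  obtain ⟨x, hx, hs⟩ := exists_two_classes hχ h
  set k := (Subgroup.centralizer ({x} : Set G)).index with hk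
  have hsum : ∀ ψ : G → ℂ, IsIrrCharacter G ψ → ψ ≠ χ →
      ψ 1 * χ 1 + k * (ψ x * conj (χ x)) = 0 := by
    intro ψ hψ hne
    have h1 := card_mul_classInner ψ χ
    rw [hψ.classInner_eq_zero hχ hne, mul_zero, sum_mul_conj_of_two_classes hχ.isClassFunction
      hψ.isClassFunction hx (fun g hg => (hs g).1 hg), hχ.isCharacter.conj_apply_one] at h1
    exact h1.symm
  have hχ1 : (fun _ => (1 : ℂ)) ≠ χ := by
    intro he
    have h1 := card_mul_classInner χ χ
    rw [hχ.classInner_self, sum_mul_conj_of_two_classes hχ.isClassFunction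
      hχ.isClassFunction hx (fun g hg => (hs g).1 hg), ← he] at h1
    simp only [mul_one, map_one] at h1
    have h2 : Nat.card G = 1 + k := by exact_mod_cast h1
    have h3 : k ∣ 1 + k := h2 ▸ Subgroup.index_dvd_card _
    have h4 : k = 1 := Nat.dvd_one.1 ((Nat.dvd_add_left (dvd_refl k)).1 h3)
    omega
  have h1 := hsum _ IsIrrCharacter.one hχ1
  simp only [one_mul] at h1
  have hker : ∀ ψ : G → ℂ, IsIrrCharacter G ψ → ψ ≠ χ → ψ x = ψ 1 := by
    intro ψ hψ hne
    have h2 := hsum ψ hψ hne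
    have h3 : (ψ 1 - ψ x) * χ 1 = 0 := by linear_combination h2 - ψ x * h1
    exact (sub_eq_zero.1 ((mul_eq_zero.1 h3).resolve_right hχ.apply_one_ne_zero)).symm
  let N : Subgroup G := ⨅ ψ : {ψ : IrrCharacter G // (ψ : G → ℂ) ≠ χ}, charKer (ψ.1 : G → ℂ)
  have hN : ∀ g, g ∈ N ↔ χ g ≠ 0 := by
    intro g
    simp only [N, Subgroup.mem_iInf, Subtype.forall]
    constructor
    · intro hg h0
      have hg1 : g ≠ 1 := by
        rintro rfl
        exact hχ.apply_one_ne_zero h0
      have h2 := sum_degree_mul_apply_of_ne hg1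
      have h3 : ∀ ψ : IrrCharacter G, (ψ : G → ℂ) 1 * (ψ : G → ℂ) g =
          ((if (ψ : G → ℂ) = χ then 0 else charDegree (ψ : G → ℂ) ^ 2 : ℕ) : ℂ) := by
        intro ψ
        split_ifs with he
        · rw [he, h0]; simp
        · rw [apply_eq_of_mem_charKer (hg ψ.1 ψ.2 he), ← ψ.2.coe_charDegree]; push_cast; ring
      simp only [h3] at h2
      rw [← Nat.cast_sum, Nat.cast_eq_zero, Finset.sum_eq_zero_iff] at h2
      have := h2 (irrOne G) (Finset.mem_univ _)
      rw [coe_irrOne, if_neg hχ1] at this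
      simp at this
    · intro hg ψ hψ hne
      rw [hψ.mem_charKer]
      rcases (hs g).1 hg with rfl | hc
      · rfl
      · rw [← hψ.isClassFunction.eq_of_isConj hc, hker ψ hψ hne]
  refine ⟨N, hχ, hN, ?_, ?_, hG⟩
  · intro hb
    exact hx (Subgroup.mem_bot.1 (hb ▸ (hN x).2 ((hs x).2 (Or.inr (IsConj.refl x)))))
  · intro a ha b hb ha1 hb1
    exact (((hs a).1 ((hN a).1 ha)).resolve_left ha1).symm.trans
      (((hs b).1 ((hN b).1 hb)).resolve_left hb1)

theorem gag_of_mem [Finite G] (hG : 2 < Nat.card G) {χ : G → ℂ} (hχ : IsIrrCharacter G χ)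
    (h : Nat.card {C : ConjClasses G // ∃ g ∈ C.carrier, χ g ≠ 0} = 2) {N : Subgroup G}
    (hN : ∀ g, g ∈ N ↔ χ g ≠ 0) : Gag χ N := by
  obtain ⟨M, hM⟩ := exists_gag hG hχ h
  have : N = M := Subgroup.ext fun g => (hN g).trans (hM.mem g).symm
  exact this ▸ hM

namespace Gag

variable {χ : G → ℂ} {N : Subgroup G}

theorem normal (h : Gag χ N) : N.Normal :=
  ⟨fun n hn g => (h.mem _).2 (by rw [h.irr.isClassFunction n g]; exact (h.mem _).1 hn)⟩

theorem apply_eq_zero (h : Gag χ N) {g : G} (hg : g ∉ N) : χ g = 0 := by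
  by_contra h0
  exact hg ((h.mem g).2 h0)

variable [Finite G]

theorem le_of_normal (h : Gag χ N) (K : Subgroup G) [hK : K.Normal] (hK1 : K ≠ ⊥) : N ≤ K := by
  by_cases h1 : ∃ y ∈ K, y ≠ 1 ∧ y ∈ N
  · obtain ⟨y, hyK, hy1, hyN⟩ := h1
    intro n hn
    by_cases hn1 : n = 1
    · rw [hn1]; exact K.one_mem
    · obtain ⟨c, rfl⟩ := isConj_iff.1 (h.isConj y hyN n hn hy1 hn1)
      exact hK.conj_mem y hyK c
  · push Not at h1
    exact absurd (eq_bot_of_vanish h.irr K fun n hn hn1 => h.apply_eq_zero (h1 n hn hn1)) hK1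

theorem isMinNormal (h : Gag χ N) : GT.IsMinNormal N := by
  refine ⟨h.normal, h.ne_bot, fun K hK hle => ?_⟩
  by_cases hK1 : K = ⊥
  · exact Or.inl hK1
  · exact Or.inr (le_antisymm hle (h.le_of_normal K hK1))

theorem one_lt_card (h : Gag χ N) : 1 < Nat.card N :=
  (Subgroup.one_lt_card_iff_ne_bot N).2 h.ne_bot

theorem exists_isPGroup (h : Gag χ N) : ∃ p : ℕ, p.Prime ∧ IsPGroup p N := by
  obtain ⟨p, hp, hd⟩ := GT.exists_prime_dvd_card_of_ne_bot h.ne_bot
  obtain ⟨x, hx, ho⟩ := GT.exists_mem_orderOf_eq_prime hp hd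
  refine ⟨p, hp, GT.isPGroup_of_forall_pow_eq_one fun y hy => ?_⟩
  by_cases hy1 : y = 1
  · rw [hy1, one_pow]
  · have hx1 : x ≠ 1 := by
      rintro rfl
      rw [orderOf_one] at ho
      exact hp.one_lt.ne ho
    obtain ⟨c, rfl⟩ := isConj_iff.1 (h.isConj x hx y hy hx1 hy1)
    rw [conj_pow, ← ho, pow_orderOf_eq_one]; simp

theorem elementary (h : Gag χ N) {p : ℕ} (hp : p.Prime) (hN : IsPGroup p N) :
    IsElementaryAbelian p N :=
  h.isMinNormal.elementary_of_isPGroup hp hN

theorem comm (h : Gag χ N) : ∀ a ∈ N, ∀ b ∈ N, a * b = b * a := by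
  obtain ⟨p, hp, hN⟩ := h.exists_isPGroup
  intro a ha b hb
  exact congrArg Subtype.val ((h.elementary hp hN).1.is_comm.comm (⟨a, ha⟩ : N) ⟨b, hb⟩)

/-- The class of a nonidentity element of `N` has `|N| - 1` elements. -/
theorem index_centralizer (h : Gag χ N) {x : G} (hx : x ∈ N) (hx1 : x ≠ 1) :
    (Subgroup.centralizer ({x} : Set G)).index + 1 = Nat.card N := by
  classical
  rw [← card_isConj_eq_index]
  have e : {y : G // IsConj x y} ≃ {y : N // y ≠ 1} :=
    { toFun := fun y => ⟨⟨y.1, by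
          obtain ⟨c, hc⟩ := isConj_iff.1 y.2
          exact hc ▸ h.normal.conj_mem x hx c⟩, fun he => hx1 (by
          have h1 : y.1 = 1 := congrArg Subtype.val he
          have := y.2
          rwa [h1, isConj_one_left] at this)⟩
      invFun := fun y => ⟨y.1, h.isConj x hx y.1 y.1.2 hx1 fun he => y.2 (Subtype.ext he)⟩
      left_inv := fun _ => rfl
      right_inv := fun _ => rfl }
  rw [Nat.card_congr e]
  have := Fintype.ofFinite N
  rw [Nat.card_eq_fintype_card, Nat.card_eq_fintype_card, Fintype.card_subtype_compl]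
  have : 0 < Fintype.card N := Fintype.card_pos
  simp only [Fintype.card_unique]
  omega

theorem ne_one (h : Gag χ N) : χ ≠ fun _ => 1 := by
  intro he
  have hN : N = ⊤ := by
    rw [eq_top_iff]
    intro g _
    rw [h.mem, he]
    exact one_ne_zero
  obtain ⟨x, hx, hx1⟩ := (Subgroup.bot_or_exists_ne_one N).resolve_left h.ne_bot
  have h1 := h.index_centralizer hx hx1
  have h2 := h.two_lt
  rw [hN, Subgroup.card_top] at h1
  have h3 := Subgroup.index_dvd_card (Subgroup.centralizer ({x} : Set G))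
  rw [← h1] at h3
  have h4 := Nat.dvd_one.1 ((Nat.dvd_add_right (dvd_refl _)).1 h3)
  omega

theorem le_charKer (h : Gag χ N) {ψ : G → ℂ} (hψ : IsIrrCharacter G ψ) (hne : ψ ≠ χ) :
    N ≤ charKer ψ := by
  have := Fintype.ofFinite G
  intro x hx
  by_cases hx1 : x = 1
  · rw [hx1]; exact Subgroup.one_mem _
  have hsum : ∀ ψ : G → ℂ, IsIrrCharacter G ψ → ψ ≠ χ →
      ψ 1 * χ 1 + (Subgroup.centralizer ({x} : Set G)).index * (ψ x * conj (χ x)) = 0 := by
    intro ψ hψ hne
    have h1 := card_mul_classInner ψ χ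
    rw [hψ.classInner_eq_zero h.irr hne, mul_zero, sum_mul_conj_of_two_classes
      h.irr.isClassFunction hψ.isClassFunction hx1 (fun g hg => by
        by_cases hg1 : g = 1
        · exact Or.inl hg1
        · exact Or.inr (h.isConj x hx g ((h.mem g).2 hg) hx1 hg1)),
      h.irr.isCharacter.conj_apply_one] at h1
    exact h1.symm
  have h1 := hsum _ IsIrrCharacter.one h.ne_one.symm
  have h2 := hsum ψ hψ hne
  simp only [one_mul] at h1
  have h3 : (ψ 1 - ψ x) * χ 1 = 0 := by linear_combination h2 - ψ x * h1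
  rw [hψ.mem_charKer]
  exact (sub_eq_zero.1 ((mul_eq_zero.1 h3).resolve_right h.irr.apply_one_ne_zero)).symm

theorem not_le_charKer (h : Gag χ N) : ¬ N ≤ charKer χ := by
  intro hle
  obtain ⟨ψ, hψ⟩ := exists_irr_not_le_charKer h.ne_bot
  by_cases he : (ψ : G → ℂ) = χ
  · exact hψ (he ▸ hle)
  · exact hψ (h.le_charKer ψ.2 he)

theorem le_charKer_iff (h : Gag χ N) {ψ : G → ℂ} (hψ : IsIrrCharacter G ψ) :
    N ≤ charKer ψ ↔ ψ ≠ χ :=
  ⟨fun hle he => h.not_le_charKer (he ▸ hle), h.le_charKer hψ⟩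

theorem charKer_eq_bot (h : Gag χ N) : charKer χ = ⊥ := by
  by_contra hne
  have := h.irr.isCharacter.charKer_normal
  exact h.not_le_charKer (h.le_of_normal _ hne)

theorem eq_of_faithful (h : Gag χ N) {ψ : G → ℂ} (hψ : IsIrrCharacter G ψ)
    (hf : charKer ψ = ⊥) : ψ = χ := by
  by_contra hne
  exact h.ne_bot (le_bot_iff.1 (hf ▸ h.le_charKer hψ hne))

/-- The elements of a nontrivial coset of `N` are conjugate. -/
theorem isConj_mul (h : Gag χ N) {g n : G} (hg : g ∉ N) (hn : n ∈ N) : IsConj g (n * g) := by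
  rw [isConj_iff_forall_irr]
  intro ψ
  by_cases he : (ψ : G → ℂ) = χ
  · rw [he, h.apply_eq_zero hg, h.apply_eq_zero fun h1 => hg ((N.mul_mem_cancel_left hn).1 h1)]
  · rw [apply_mul_of_mem_charKer (h.le_charKer ψ.2 he hn)]

theorem card_centralizer_eq_quotient (h : Gag χ N) [N.Normal] {x : G} (hx : x ∉ N) :
    Nat.card (Subgroup.centralizer ({x} : Set G)) =
      Nat.card (Subgroup.centralizer ({(x : G ⧸ N)} : Set (G ⧸ N))) := by
  classical
  have h1 := sum_irr_norm_sq x
  have h2 := sum_irr_norm_sq (x : G ⧸ N)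
  have h3 := sum_irr_quotient N (fun ψ : G → ℂ => ‖ψ x‖ ^ 2)
  rw [h2, Finset.sum_filter_of_ne, h1] at h3
  · exact_mod_cast h3
  · intro ψ _ hne
    refine h.le_charKer ψ.2 fun he => hne ?_
    rw [he, h.apply_eq_zero hx]; simp

/-- The basic numerical invariants. -/
theorem exists_f (h : Gag χ N) : ∃ f : ℕ, 0 < f ∧ (∀ x ∈ N, x ≠ 1 → χ x = -f) ∧
    charDegree χ + f = f * Nat.card N ∧ N.index + f ^ 2 = f ^ 2 * Nat.card N ∧
    ∀ x ∈ N, x ≠ 1 → Nat.card (Subgroup.centralizer ({x} : Set G)) = f ^ 2 * Nat.card N := by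
  classical
  have := Fintype.ofFinite G
  have := h.normal
  obtain ⟨x, hx, hx1⟩ := (Subgroup.bot_or_exists_ne_one N).resolve_left h.ne_bot
  obtain ⟨m, hm⟩ : ∃ m, Nat.card N = m + 1 := ⟨Nat.card N - 1, by have := h.one_lt_card; omega⟩
  have hm0 : 0 < m := by have := h.one_lt_card; omega
  have hm0' : (m : ℂ) ≠ 0 := by exact_mod_cast hm0.ne'
  have h1 := h.irr.sum_normal_eq_zero N h.not_le_charKer 1
  simp only [mul_one] at h1
  have h2 : ∀ n : N, χ n = (if n = 1 then χ 1 - χ x else 0) + χ x := by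
    intro n
    split_ifs with hn
    · simp [hn]
    · rw [zero_add]
      exact h.irr.isClassFunction.eq_of_isConj
        (h.isConj _ n.2 x hx (fun he => hn (Subtype.ext he)) hx1)
  rw [Finset.sum_congr rfl fun n _ => h2 n, Finset.sum_add_distrib] at h1
  simp only [Finset.sum_ite_eq', Finset.mem_univ, if_true, Finset.sum_const, Finset.card_univ,
    nsmul_eq_mul, ← Nat.card_eq_fintype_card, hm] at h1
  push_cast at h1
  have h3 : (charDegree χ : ℂ) = m * (-χ x) := by
    rw [h.irr.coe_charDegree]; linear_combination h1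
  obtain ⟨f, hf⟩ := integral_nat_dvd_of_eq_mul (h.irr.isCharacter.isIntegral x).neg h3
  have hf0 : 0 < f := by
    have := h.irr.charDegree_pos
    rw [hf] at this
    exact Nat.pos_of_mul_pos_left this
  have h4 : χ x = -f := by
    rw [hf] at h3
    push_cast at h3
    have := mul_left_cancel₀ hm0' h3
    rw [this]; ring
  have h5 := sum_sq_charDegree (G := G)
  rw [← Finset.sum_filter_add_sum_filter_not Finset.univ
    (fun ψ : IrrCharacter G => N ≤ charKer ψ.1), sum_irr_le_charKer_sq] at h5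
  have h6 : (Finset.univ.filter fun ψ : IrrCharacter G => ¬ N ≤ charKer ψ.1) = {⟨χ, h.irr⟩} := by
    ext ψ
    simp only [Finset.mem_filter, Finset.mem_univ, true_and, Finset.mem_singleton,
      h.le_charKer_iff ψ.2, not_not, Subtype.ext_iff]
  rw [h6, Finset.sum_singleton, ← Subgroup.card_mul_index N, hm] at h5
  simp only [hf] at h5
  have h7 : N.index = f ^ 2 * m := by
    apply Nat.eq_of_mul_eq_mul_left hm0
    nlinarith
  refine ⟨f, hf0, fun y hy hy1 => ?_, by rw [hf, hm]; ring, by rw [h7, hm]; ring,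
    fun y hy hy1 => ?_⟩
  · rw [← h4]
    exact h.irr.isClassFunction.eq_of_isConj (h.isConj _ hy x hx hy1 hx1)
  · have h8 := h.index_centralizer hy hy1
    have h9 := Subgroup.card_mul_index (Subgroup.centralizer ({y} : Set G))
    rw [← Subgroup.card_mul_index N, h7, (by omega : (Subgroup.centralizer ({y} : Set G)).index = m)]
      at h9
    apply Nat.eq_of_mul_eq_mul_right hm0
    rw [h9]; ring

/-- The centralizer of a nonidentity element of `N` is a `p`-group. -/
theorem isPGroup_centralizer (h : Gag χ N) {p : ℕ} (hp : p.Prime) (hN : IsPGroup p N) {x : G}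
    (hx : x ∈ N) (hx1 : x ≠ 1) : IsPGroup p (Subgroup.centralizer ({x} : Set G)) := by
  classical
  obtain ⟨f, hf0, hf1, hf2, -, hf4⟩ := h.exists_f
  have := Fact.mk hp
  rw [GT.isPGroup_iff_isPiNum hp]
  intro q hq hqd
  by_contra hne
  have hqp : q ≠ p := hne
  have := Fact.mk hq
  set C := Subgroup.centralizer ({x} : Set G) with hC
  obtain ⟨Q⟩ : Nonempty (Sylow q C) := inferInstance
  obtain ⟨a, ha⟩ := IsPGroup.iff_card.1 hN
  set Z := Subgroup.zpowers x with hZ
  have hZN : Z ≤ N := by rwa [hZ, Subgroup.zpowers_le]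
  let φ : Z × (Q : Subgroup C) →* G := MonoidHom.noncommCoprod Z.subtype
    (C.subtype.comp (Q : Subgroup C).subtype) (by
      rintro ⟨z, k, rfl⟩ y
      have : Commute x (y.1 : G) := (Subgroup.mem_centralizer_singleton_iff.1 y.1.2).symm
      exact this.zpow_left k)
  have hφ : ∀ y, φ y = (y.1 : G) * (y.2.1 : G) := fun y => rfl
  have hZc : ∀ a b : Z, a * b = b * a := fun a b => mul_comm' a b
  obtain ⟨μ, hμ⟩ := exists_monoidHom_units_ne_one_of_comm hZc
    (g := ⟨x, Subgroup.mem_zpowers x⟩) (fun he => hx1 (congrArg Subtype.val he))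
  have hμ1 : μ ≠ 1 := fun he => hμ (by rw [he]; rfl)
  have := Fintype.ofFinite Z
  have := Fintype.ofFinite (Q : Subgroup C)
  obtain ⟨n, hn⟩ := (h.irr.isCharacter.comp φ).exists_nat_classInner
    (isCharacter_monoidHom_units (μ⁻¹.comp (MonoidHom.fst Z (Q : Subgroup C))))
  have h1 := card_mul_classInner (fun y => χ (φ y))
    (fun y => ((μ⁻¹.comp (MonoidHom.fst Z (Q : Subgroup C))) y : ℂ))
  rw [hn, Fintype.sum_prod_type] at h1
  have h2 : ∀ z : Z, ∑ y : (Q : Subgroup C), χ (φ (z, y)) *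
      conj ((μ⁻¹.comp (MonoidHom.fst Z (Q : Subgroup C))) (z, y) : ℂ) =
      (if z = 1 then (f * Nat.card N : ℂ) else 0) - f * μ z := by
    intro z
    rw [Finset.sum_eq_single 1]
    · rw [conj_monoidHom_units']
      simp only [hφ, OneMemClass.coe_one, mul_one, MonoidHom.inv_apply, MonoidHom.comp_apply,
        MonoidHom.coe_fst, inv_inv]
      split_ifs with hz
      · subst hz
        simp only [OneMemClass.coe_one, map_one, Units.val_one, mul_one]
        rw [← h.irr.coe_charDegree, eq_sub_iff_add_eq]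
        exact_mod_cast hf2
      · rw [hf1 z (hZN z.2) fun he => hz (Subtype.ext he)]; ring
    · intro y _ hy1
      rw [h.apply_eq_zero, zero_mul]
      intro hmem
      rw [hφ] at hmem
      have hyN : ((y.1 : C) : G) ∈ N := (N.mul_mem_cancel_left (hZN z.2)).1 hmem
      obtain ⟨k, hk⟩ := Q.isPGroup' y
      obtain ⟨l, hl⟩ := hN ⟨_, hyN⟩
      apply hy1
      have e1 : orderOf y ∣ q ^ k := orderOf_dvd_of_pow_eq_one hk
      have e2 : orderOf y ∣ p ^ l := by
        rw [← Subgroup.orderOf_coe, ← Subgroup.orderOf_coe]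
        exact orderOf_dvd_of_pow_eq_one (congrArg Subtype.val hl)
      rw [← orderOf_eq_one_iff]
      exact Nat.eq_one_of_dvd_coprimes
        (Nat.coprime_pow_primes k l hq hp hqp) e1 e2
    · simp
  rw [Finset.sum_congr rfl fun z _ => h2 z, Finset.sum_sub_distrib, ← Finset.mul_sum,
    sum_monoidHom_units_eq_zero hμ1] at h1
  simp only [Finset.sum_ite_eq', Finset.mem_univ, if_true, mul_zero, sub_zero, Nat.card_prod] at h1
  have h3 : Nat.card Z * Nat.card (Q : Subgroup C) * n = f * Nat.card N := by exact_mod_cast h1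
  have h4 : Nat.card (Q : Subgroup C) ∣ f * Nat.card N := by
    rw [← h3]
    exact (Dvd.intro_left _ rfl).mul_right n
  rw [Q.card_eq_multiplicity, ha] at h4
  have h5 := (Nat.coprime_pow_primes _ a hq hp hqp).dvd_of_dvd_mul_right h4
  rw [hq.pow_dvd_iff_le_factorization hf0.ne', hf4 x hx hx1, ha,
    Nat.factorization_mul (pow_pos hf0 2).ne' (pow_pos hp.pos a).ne', Nat.factorization_pow,
    Nat.factorization_pow, hp.factorization] at h5
  simp only [Finsupp.add_apply, Finsupp.smul_apply, smul_eq_mul, Finsupp.single_apply,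
    if_neg hqp.symm] at h5
  have h6 : f.factorization q = 0 := by omega
  rw [hf4 x hx hx1, ha] at hqd
  rcases hq.dvd_mul.1 hqd with h7 | h7
  · have := hq.factorization_pos_of_dvd hf0.ne' (hq.dvd_of_dvd_pow h7)
    omega
  · exact hqp ((Nat.prime_dvd_prime_iff_eq hq hp).1 (hq.dvd_of_dvd_pow h7))

theorem dvd_card (h : Gag χ N) {p : ℕ} (hp : p.Prime) (hN : IsPGroup p N) : p ∣ Nat.card N := by
  have := Fact.mk hp
  obtain ⟨a, ha⟩ := IsPGroup.iff_card.1 hN
  have := h.one_lt_card
  rw [ha] at this ⊢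
  exact dvd_pow_self p (by rintro rfl; simp at this)

theorem not_dvd_of_add_one (h : Gag χ N) {p : ℕ} (hp : p.Prime) (hN : IsPGroup p N) {k : ℕ}
    (hk : k + 1 = Nat.card N) : ¬ p ∣ k := fun hd =>
  hp.one_lt.ne' (Nat.dvd_one.1 ((Nat.dvd_add_right hd).1 (hk ▸ h.dvd_card hp hN)))

theorem exists_sylow_centralizer (h : Gag χ N) {p : ℕ} [hp : Fact p.Prime] (hN : IsPGroup p N)
    {x : G} (hx : x ∈ N) (hx1 : x ≠ 1) :
    ∃ P : Sylow p G, Subgroup.centralizer ({x} : Set G) = P :=
  ⟨(h.isPGroup_centralizer hp.out hN hx hx1).toSylow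
    (h.not_dvd_of_add_one hp.out hN (h.index_centralizer hx hx1)), rfl⟩

theorem index_inertia (h : Gag χ N) [N.Normal] {μ : N → ℂ} (hμ : IsIrrCharacter N μ)
    (hμ1 : μ ≠ fun _ => 1) : (inertia N μ).index + 1 = Nat.card N := by
  classical
  have := Fintype.ofFinite G
  obtain ⟨f, hf0, hf1, hf2, -, -⟩ := h.exists_f
  have hd : μ 1 = 1 := hμ.apply_one_eq_one_of_comm fun a b => Subtype.ext (h.comm _ a.2 _ b.2)
  have h1 : (fun n : N => χ n) = (f : ℂ) • regChar N - (f : ℂ) • fun _ => 1 := by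
    ext n
    by_cases hn : n = 1
    · subst hn
      simp only [OneMemClass.coe_one, Pi.sub_apply, Pi.smul_apply, regChar_one, smul_eq_mul,
        mul_one]
      rw [← h.irr.coe_charDegree, eq_sub_iff_add_eq]
      exact_mod_cast hf2
    · simp [regChar_of_ne hn, hf1 n n.2 fun he => hn (Subtype.ext he)]
  have h2 : classInner (fun n : N => χ n) μ = f := by
    rw [h1, classInner_sub_left, classInner_smul_left, classInner_smul_left,
      classInner_regChar_left, IsIrrCharacter.one.classInner_eq_zero hμ hμ1.symm, hd]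
    simp
  have hf0' : (f : ℂ) ≠ 0 := by exact_mod_cast hf0.ne'
  have h3 := clifford_apply_one h.irr hμ (h2 ▸ hf0')
  rw [h2, hd, mul_one, ← h.irr.coe_charDegree] at h3
  have h4 : charDegree χ = f * (inertia N μ).index := by exact_mod_cast h3
  apply Nat.eq_of_mul_eq_mul_left hf0
  rw [← hf2, h4]; ring

end Gag

end Cfsg.Agent.Deg
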