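import Mathlib
import Cfsg.Agent.Deg.Gagola
import Cfsg.Agent.GT.Zipper
import Cfsg.Agent.GT.FrobeniusFpf

/-!
# Characters nonzero on two classes: the doubly transitive Frobenius case
-/

set_option autoImplicit false

namespace Cfsg.Agent.Deg.Gag

open Cfsg Cfsg.Agent.Ch

variable {G : Type*} [Group G] [Finite G] {χ : G → ℂ} {N : Subgroup G}

theorem inf_centralizer_of_isComplement (h : Gag χ N) {H : Subgroup G} (hc : N.IsComplement' H)
    {y : G} (hy : y ∈ H) (hy1 : y ≠ 1) : N ⊓ Subgroup.centralizer {y} = ⊥ := by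
  have := h.normal
  have hd : ∀ {x : G}, x ∈ N → x ∈ H → x = 1 := Subgroup.disjoint_def.1 hc.disjoint
  have hyN : y ∉ N := fun h1 => hy1 (hd h1 hy)
  have h1 : Subgroup.centralizer ({(y : G ⧸ N)} : Set (G ⧸ N)) ≤
      (Subgroup.centralizer {y} ⊓ H).map (QuotientGroup.mk' N) := by
    intro g hg
    obtain ⟨g, rfl⟩ := QuotientGroup.mk_surjective g
    obtain ⟨⟨n, k⟩, rfl⟩ := hc.2 g
    have he : ((n * k : G) : G ⧸ N) = (k : G) := by
      rw [QuotientGroup.mk_mul, (QuotientGroup.eq_one_iff _).2 n.2, one_mul]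
    simp only at hg ⊢
    rw [he] at hg ⊢
    refine ⟨k, ⟨?_, k.2⟩, rfl⟩
    rw [Subgroup.mem_centralizer_singleton_iff, ← QuotientGroup.mk_mul, ← QuotientGroup.mk_mul,
      QuotientGroup.eq] at hg
    have h2 := hd hg (H.mul_mem (H.inv_mem (H.mul_mem k.2 hy)) (H.mul_mem hy k.2))
    exact Subgroup.mem_centralizer_singleton_iff.2 (inv_mul_eq_one.1 h2)
  have h2 : Nat.card (Subgroup.centralizer ({y} : Set G)) ≤
      Nat.card (Subgroup.centralizer {y} ⊓ H : Subgroup G) := by
    rw [h.card_centralizer_eq_quotient hyN]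
    exact (Subgroup.card_le_of_le h1).trans
      (Nat.le_of_dvd Nat.card_pos (Subgroup.card_map_dvd _ _))
  have h3 := GT.PG.eq_of_le_of_card_le inf_le_left h2
  rw [eq_bot_iff]
  rintro z ⟨hz, hz'⟩
  rw [← h3] at hz'
  exact hd hz hz'.2

theorem card_add_one_of_isComplement (h : Gag χ N) {H : Subgroup G} (hc : N.IsComplement' H) :
    Nat.card H + 1 = Nat.card N := by
  have := h.normal
  have h1 := GT.Frob.card_dvd_card_sub_one_of_fpf (A := H) (K := N)
    Subgroup.le_normalizer_of_normal fun a ha ha1 => h.inf_centralizer_of_isComplement hc ha ha1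
  obtain ⟨f, hf0, -, -, hf, -⟩ := h.exists_f
  rw [hc.symm.index_eq_card] at hf
  obtain ⟨m, hm⟩ : ∃ m, Nat.card N = m + 1 := ⟨Nat.card N - 1, by have := h.one_lt_card; omega⟩
  have hm0 : 0 < m := by have := h.one_lt_card; omega
  rw [hm] at hf h1 ⊢
  rw [Nat.add_sub_cancel] at h1
  have h2 := Nat.le_of_dvd hm0 h1
  have h3 : Nat.card H = f ^ 2 * m := by linarith
  have h4 : 1 ≤ f ^ 2 := Nat.one_le_pow _ _ hf0
  nlinarith

theorem frobenius_of_isComplement (h : Gag χ N) {H : Subgroup G} (hc : N.IsComplement' H) :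
    IsFrobeniusComplement H ∧ frobeniusKernel H = (N : Set G) ∧ Nat.card H + 1 = Nat.card N := by
  have := h.normal
  have h1 := h.card_add_one_of_isComplement hc
  have hH : H ≠ ⊥ := by
    intro hb
    have h2 := hc.card_mul_card
    have h3 := h.two_lt
    rw [hb, Subgroup.card_bot] at h1 h2
    omega
  have hF := GT.Frob.isFrobeniusComplement_of_fpf hc h.ne_bot hH
    fun a ha ha1 => h.inf_centralizer_of_isComplement hc ha ha1
  exact ⟨hF, hF.kernel_eq_of_isComplement' hc, h1⟩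

theorem isPGroup_centralizer_self (h : Gag χ N) {p : ℕ} (hp : p.Prime) (hN : IsPGroup p N) :
    IsPGroup p (Subgroup.centralizer (N : Set G)) := by
  obtain ⟨x, hx, hx1⟩ := (Subgroup.bot_or_exists_ne_one N).resolve_left h.ne_bot
  exact (h.isPGroup_centralizer hp hN hx hx1).to_le
    (Subgroup.centralizer_le (Set.singleton_subset_iff.2 hx))

theorem centralizer_eq_pCore (h : Gag χ N) {p : ℕ} (hp : p.Prime) (hN : IsPGroup p N) :
    Subgroup.centralizer (N : Set G) = pCore p G := by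
  have := h.normal
  have := Fact.mk hp
  refine le_antisymm (GT.le_pCore (h.isPGroup_centralizer_self hp hN)) ?_
  have := (GT.isPGroup_pCore (G := G) p).isNilpotent
  exact h.isMinNormal.le_centralizer_of_isNilpotent _

/-- An element whose order is prime to `p` has no nontrivial fixed point on `N`. -/
theorem inf_centralizer_eq_bot (h : Gag χ N) {p : ℕ} (hp : p.Prime) (hN : IsPGroup p N) {y : G}
    (hy : ∀ k, y ^ p ^ k ≠ 1) : N ⊓ Subgroup.centralizer {y} = ⊥ := by
  rw [eq_bot_iff]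
  rintro x ⟨hx, hxy⟩
  by_contra hx1
  obtain ⟨k, hk⟩ := h.isPGroup_centralizer hp hN hx hx1 ⟨y,
    Subgroup.mem_centralizer_singleton_iff.2 (Subgroup.mem_centralizer_singleton_iff.1 hxy).symm⟩
  exact hy k (congrArg Subtype.val hk)

theorem exists_isComplement_of_odd (h : Gag χ N) {p : ℕ} (hp : p.Prime) (hN : IsPGroup p N)
    (hp2 : p ≠ 2) (hC : Subgroup.centralizer (N : Set G) ≤ N) :
    ∃ H : Subgroup G, N.IsComplement' H := by
  have hn := h.normal
  have := Fact.mk hp
  obtain ⟨x, hx, hx1⟩ := (Subgroup.bot_or_exists_ne_one N).resolve_left h.ne_bot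
  obtain ⟨a, ha⟩ := IsPGroup.iff_card.1 hN
  have hodd : ∀ k, Odd (p ^ k) := fun k => (hp.odd_of_ne_two hp2).pow
  have h1 : 2 ∣ Nat.card G := by
    have h2 := h.index_centralizer hx hx1
    refine Dvd.dvd.trans ?_ (Subgroup.index_dvd_card (Subgroup.centralizer ({x} : Set G)))
    obtain ⟨b, hb⟩ := hodd a
    exact ⟨b, by omega⟩
  obtain ⟨t, ht⟩ := exists_prime_orderOf_dvd_card' 2 h1
  have htp : ∀ k, t ^ p ^ k ≠ 1 := fun k hk => by
    have := orderOf_dvd_of_pow_eq_one hk
    rw [ht] at this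
    exact (Nat.not_even_iff_odd.2 (hodd k)) (even_iff_two_dvd.2 this)
  have htN : t ∉ N := fun h2 => by
    obtain ⟨k, hk⟩ := hN ⟨t, h2⟩
    exact htp k (congrArg Subtype.val hk)
  have ht2 : t * t = 1 := by rw [← sq, ← ht, pow_orderOf_eq_one]
  have hb := h.inf_centralizer_eq_bot hp hN htp
  have hinv := (GT.Frob.conj_eq_inv_of_fpf (Subgroup.le_normalizer_of_normal (Subgroup.mem_top t))
    ht2 hb).1
  have hcen : Subgroup.centralizer ({(t : G ⧸ N)} : Set (G ⧸ N)) = ⊤ := by
    rw [eq_top_iff]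
    intro g _
    obtain ⟨g, rfl⟩ := QuotientGroup.mk_surjective g
    rw [Subgroup.mem_centralizer_singleton_iff, ← QuotientGroup.mk_mul, ← QuotientGroup.mk_mul,
      QuotientGroup.eq]
    refine hC fun n hn' => ?_
    have e1 := hinv _ (hn.conj_mem n hn' g)
    have e2 := hinv _ hn'
    have e3 : t * g * n * (t * g)⁻¹ = g * t * n * (g * t)⁻¹ := by
      calc t * g * n * (t * g)⁻¹ = t * (g * n * g⁻¹) * t⁻¹ := by group
        _ = g * (t * n * t⁻¹) * g⁻¹ := by rw [e1, e2]; group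
        _ = _ := by group
    calc n * ((g * t)⁻¹ * (t * g)) = (g * t)⁻¹ * (g * t * n * (g * t)⁻¹) * (t * g) := by group
      _ = _ := by rw [← e3]; group
  refine ⟨Subgroup.centralizer {t}, Subgroup.isComplement'_of_card_mul_and_disjoint ?_
    (disjoint_iff.2 hb)⟩
  rw [h.card_centralizer_eq_quotient htN, hcen, Subgroup.card_top]
  exact Subgroup.card_mul_index N

theorem card_lt_sq_of_two (h : Gag χ N) (hN : IsPGroup 2 N)
    (hC : Subgroup.centralizer (N : Set G) ≤ N) {u : G} (hu : u ∉ N) (hu2 : u * u ∈ N) :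
    Nat.card N < Nat.card (N ⊓ Subgroup.centralizer {u} : Subgroup G) ^ 2 := by
  have hn := h.normal
  have hel := (h.elementary Nat.prime_two hN).2
  have hc := h.comm
  have hinv : ∀ n ∈ N, n⁻¹ = n := fun n hn' => by
    rw [inv_eq_iff_mul_eq_one, ← sq, hel n hn']
  let φ : N →* G :=
    { toFun := fun n => n * (u * n * u⁻¹)
      map_one' := by simp
      map_mul' := fun a b => by
        have := hc _ b.2 _ (hn.conj_mem _ a.2 u)
        simp only [Subgroup.coe_mul]
        calc (a : G) * b * (u * (a * b) * u⁻¹) = a * (b * (u * a * u⁻¹)) * (u * b * u⁻¹) := by group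
          _ = _ := by rw [this]; group }
  have hφ : ∀ n : N, φ n = n * (u * n * u⁻¹) := fun _ => rfl
  set A := N ⊓ Subgroup.centralizer {u} with hA
  have hker : φ.ker = A.subgroupOf N := by
    ext n
    rw [MonoidHom.mem_ker, hφ, Subgroup.mem_subgroupOf, hA, Subgroup.mem_inf,
      Subgroup.mem_centralizer_singleton_iff, mul_eq_one_iff_inv_eq, hinv _ n.2,
      eq_mul_inv_iff_mul_eq]
    simp
  have hsq : ∀ n : N, (n * u) * (n * u) = φ n * (u * u) := fun n => by rw [hφ]; group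
  have hrange : φ.range ≤ A := by
    rintro _ ⟨n, rfl⟩
    refine ⟨N.mul_mem n.2 (hn.conj_mem _ n.2 u), Subgroup.mem_centralizer_singleton_iff.2 ?_⟩
    rw [hφ]
    have e1 := hc _ hu2 _ n.2
    have e2 := hc _ n.2 _ (hn.conj_mem _ n.2 u)
    calc (n : G) * (u * n * u⁻¹) * u = u * n * u⁻¹ * n * u := by rw [e2]
      _ = u * n * u⁻¹ * (n * (u * u)) * u⁻¹ := by group
      _ = _ := by rw [← e1]; group
  have hall : ∀ n : N, (n * u) * (n * u) = 1 ↔ u * u = 1 := by
    intro n
    obtain ⟨c, hc⟩ := isConj_iff.1 (h.isConj_mul hu n.2)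
    rw [← hc]
    have : c * u * c⁻¹ * (c * u * c⁻¹) = c * (u * u) * c⁻¹ := by group
    rw [this]
    constructor
    · intro h1
      simpa using h1
    · intro h1
      rw [h1]; simp
  have huu : u * u ≠ 1 := by
    intro h1
    refine hu (hC fun n hn' => ?_)
    have h2 := (hall ⟨n, hn'⟩).2 h1
    rw [hsq, h1, mul_one, ← MonoidHom.mem_ker, hker, Subgroup.mem_subgroupOf] at h2
    exact Subgroup.mem_centralizer_singleton_iff.1 h2.2
  have hlt : φ.range < A := by
    refine lt_of_le_of_ne hrange fun he => ?_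
    have h1 : u * u ∈ A := ⟨hu2, Subgroup.mem_centralizer_singleton_iff.2 (by group)⟩
    rw [← he] at h1
    obtain ⟨n, hn'⟩ := h1
    refine huu ((hall n).1 ?_)
    rw [hsq, hn', ← sq (u * u), hel _ hu2]
  have h1 := GT.card_lt_of_lt hlt
  have h2 := Subgroup.card_mul_index φ.ker
  rw [Subgroup.index_ker, hker, GT.card_subgroupOf_of_le inf_le_left] at h2
  rw [← h2, sq]
  exact Nat.mul_lt_mul_of_pos_left h1 Nat.card_pos

theorem not_two_dvd_index (h : Gag χ N) (hN : IsPGroup 2 N) (hO : N = pCore 2 G) :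
    ¬ 2 ∣ N.index := by
  have hn := h.normal
  have hC : Subgroup.centralizer (N : Set G) ≤ N :=
    ((h.centralizer_eq_pCore Nat.prime_two hN).trans hO.symm).le
  intro h2
  obtain ⟨t, ht⟩ := exists_prime_orderOf_dvd_card' (G := G ⧸ N) 2 h2
  have ht2 : t * t = 1 := by rw [← sq, ← ht, pow_orderOf_eq_one]
  have ht1 : t ≠ 1 := by
    rintro rfl
    simp at ht
  have hO' : pCore 2 (G ⧸ N) = ⊥ := by
    rw [← GT.map_pCore_quotient hN, ← hO, GT.map_mk'_eq_bot_iff]
  obtain ⟨k, hk1, hk, htk⟩ := GT.exists_odd_inverted_of_not_mem_pCore ht2 (by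
    rw [hO']; exact ht1)
  obtain ⟨u, rfl⟩ := QuotientGroup.mk_surjective t
  obtain ⟨w, rfl⟩ := QuotientGroup.mk_surjective k
  have hwo : ∀ j, (w : G ⧸ N) ^ 2 ^ j ≠ 1 := fun j hj => by
    have h3 := orderOf_dvd_of_pow_eq_one hj
    exact hk1 (orderOf_eq_one_iff.1 (Nat.eq_one_of_dvd_coprimes
      (Nat.Coprime.pow_right j (Nat.coprime_two_right.2 hk)) (dvd_refl _) h3))
  have huw : ((u : G ⧸ N) * w) * (u * w) = 1 := by
    calc ((u : G ⧸ N) * w) * (u * w) = (u * w * (u : G ⧸ N)⁻¹) * (u * u) * w := by group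
      _ = 1 := by rw [htk, ht2]; group
  have e1 := h.card_lt_sq_of_two hN hC (u := u) (fun h3 => ht1 ((QuotientGroup.eq_one_iff _).2 h3))
    ((QuotientGroup.eq_one_iff _).1 ht2)
  have e2 := h.card_lt_sq_of_two hN hC (u := u * w) (fun h3 => by
    have h4 : (u : G ⧸ N) * w = 1 := (QuotientGroup.eq_one_iff _).2 h3
    refine hwo 1 ?_
    rw [eq_inv_of_mul_eq_one_right h4, pow_one, inv_pow, sq, ht2, inv_one])
    ((QuotientGroup.eq_one_iff _).1 huw)
  have e3 := h.inf_centralizer_eq_bot Nat.prime_two hN (y := w) fun j hj =>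
    hwo j (by rw [← QuotientGroup.mk_pow, hj]; rfl)
  set A := N ⊓ Subgroup.centralizer {u}
  set B := N ⊓ Subgroup.centralizer {u * w}
  have e4 : A ⊓ B = ⊥ := by
    rw [eq_bot_iff, ← e3]
    rintro x ⟨⟨hx, hxu⟩, -, hxw⟩
    refine ⟨hx, Subgroup.mem_centralizer_singleton_iff.2 ?_⟩
    replace hxu := Subgroup.mem_centralizer_singleton_iff.1 hxu
    replace hxw := Subgroup.mem_centralizer_singleton_iff.1 hxw
    rw [← mul_assoc, hxu, mul_assoc, mul_assoc] at hxw
    exact mul_left_cancel hxw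
  have e5 := GT.card_sup_of_inf_eq_bot (H := A) (N := B) (fun a ha =>
    GT.PG.centralizer_le_normalizer' B fun b hb => h.comm _ hb.1 _ ha.1) e4
  have e6 : Nat.card (A ⊔ B : Subgroup G) ≤ Nat.card N :=
    Subgroup.card_le_of_le (sup_le inf_le_left inf_le_left)
  rw [e5] at e6
  nlinarith

theorem exists_isComplement (h : Gag χ N) {p : ℕ} (hp : p.Prime) (hN : IsPGroup p N)
    (hO : N = pCore p G) : ∃ H : Subgroup G, N.IsComplement' H := by
  have hn := h.normal
  by_cases hp2 : p = 2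
  · subst hp2
    exact Subgroup.exists_right_complement'_of_coprime (GT.coprime_card_of_isPGroup hp hN
      (Nat.coprime_comm.1 (hp.coprime_iff_not_dvd.2 (h.not_two_dvd_index hN hO))))
  · exact h.exists_isComplement_of_odd hp hN hp2
      ((h.centralizer_eq_pCore hp hN).trans hO.symm).le

end Cfsg.Agent.Deg.Gag
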