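import Mathlib
import Cfsg.Agent.Ch.Deg12D
import Cfsg.Agent.Deg.Basic
import Cfsg.Agent.Deg.Over
import Cfsg.Agent.S0007

/-!
# Degree graphs, abstract lemmas
-/

set_option autoImplicit false

namespace Cfsg.Agent.Deg.Gr

open Cfsg Cfsg.Agent.Ch

/-- A graph whose vertices split into two mutually reachable classes has at most two components. -/
theorem card_cc_le_two {V : Type*} (Γ : SimpleGraph V) (P : V → Prop)
    (h1 : ∀ u v, P u → P v → Γ.Reachable u v) (h2 : ∀ u v, ¬ P u → ¬ P v → Γ.Reachable u v) :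
    Nat.card Γ.ConnectedComponent ≤ 2 := by
  let f : Γ.ConnectedComponent → Prop := fun c => ∃ v, Γ.connectedComponentMk v = c ∧ P v
  have hf : Function.Injective f := by
    intro c d hcd
    by_cases hc : f c
    · have hd : f d := hcd ▸ hc
      obtain ⟨u, rfl, hu⟩ := hc
      obtain ⟨v, rfl, hv⟩ := hd
      exact SimpleGraph.ConnectedComponent.eq.2 (h1 u v hu hv)
    · have hd : ¬ f d := hcd ▸ hc
      induction c using SimpleGraph.ConnectedComponent.ind with | _ u
      induction d using SimpleGraph.ConnectedComponent.ind with | _ v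
      exact SimpleGraph.ConnectedComponent.eq.2
        (h2 u v (fun h => hc ⟨u, rfl, h⟩) (fun h => hd ⟨v, rfl, h⟩))
  have := Nat.card_le_card_of_injective f hf
  simpa using this

theorem res_irr_dgr {G : Type*} [Group G] [Finite G] (N : Subgroup G) [N.Normal] {ψ : G → ℂ}
    (hψ : IsIrrCharacter G ψ) (hc : N.index.Coprime (charDegree ψ)) :
    IsIrrCharacter N (fun n => ψ n) := by
  have := Fintype.ofFinite N
  obtain ⟨φ, hφ, hne⟩ := exists_irr_under N hψ
  obtain ⟨e, he, h3⟩ := exists_degree_eq_mul hφ hψ hne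
  obtain rfl : e = 1 := Nat.eq_one_of_dvd_coprimes hc he ⟨charDegree φ, by
    rw [← hψ.coe_charDegree, ← hφ.coe_charDegree] at h3
    exact_mod_cast h3⟩
  have h4 := (hψ.isCharacter.restrict _).eq_irr_of_apply_one hφ hne (by simpa using h3)
  exact h4 ▸ hφ

/-- Two primes dividing one degree are joined in the degree graph. -/
theorem reach_of_dvd {G : Type*} [Group G] {p r d : ℕ} (hp : p ∈ degreePrimes G) (hr : r.Prime)
    (hd : d ∈ charDegrees G) (h1 : p ∣ d) (h2 : r ∣ d) :
    ∃ hr' : r ∈ degreePrimes G,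
      ((degreeGraph G).induce (degreePrimes G)).Reachable ⟨p, hp⟩ ⟨r, hr'⟩ := by
  refine ⟨⟨hr, d, hd, h2⟩, ?_⟩
  by_cases h : p = r
  · subst h; exact SimpleGraph.Reachable.refl _
  · refine SimpleGraph.Adj.reachable ?_
    exact ⟨h, hp.1, hr, d, hd,
      Nat.Coprime.mul_dvd_of_dvd_of_dvd ((Nat.coprime_primes hp.1 hr).2 h) h1 h2⟩

/-- Barycentre of an orbit in a torsor: a cocycle trivial on a subgroup of coprime index is a
coboundary. -/
theorem exists_fixed_of_cocycle {S Λ : Type*} [Group S] [Finite S] [CommGroup Λ]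
    (c : S → Λ →* Λ) (z : S → Λ) (L : Subgroup Λ) (hz : ∀ s, z s ∈ L) {m : ℕ}
    (hm : ∀ s, z s ^ m = 1) (hcoc : ∀ g h, z (g * h) = c h (z g) * z h) (T : Subgroup S)
    (hT : ∀ t ∈ T, z t = 1) (hcop : T.index.Coprime m) :
    ∃ β ∈ L, ∀ s, c s β * z s = β := by
  classical
  have := Fintype.ofFinite (S ⧸ T)
  let w : S ⧸ T → Λ := fun x => Quotient.liftOn' x (fun g => z g⁻¹) (by
    intro a b hab
    have h := QuotientGroup.leftRel_apply.1 hab
    have : a⁻¹ = (a⁻¹ * b) * b⁻¹ := by group
    show z a⁻¹ = z b⁻¹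
    rw [this, hcoc, hT _ h, map_one, one_mul])
  have hw : ∀ g : S, w (g : S ⧸ T) = z g⁻¹ := fun g => rfl
  have hws : ∀ (s : S) (x : S ⧸ T), w (s⁻¹ • x) = c s (w x) * z s := by
    intro s x
    induction x using QuotientGroup.induction_on with | _ g
    rw [MulAction.Quotient.smul_coe, hw, hw, smul_eq_mul, mul_inv_rev, inv_inv, hcoc]
  have hb : ∀ s, ∏ x, w x = c s (∏ x, w x) * z s ^ T.index := by
    intro s
    calc ∏ x, w x = ∏ x, w (MulAction.toPerm s⁻¹ x) :=
          (Equiv.prod_comp (MulAction.toPerm s⁻¹) w).symm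
      _ = ∏ x, (c s (w x) * z s) := Finset.prod_congr rfl fun x _ => hws s x
      _ = _ := by
          rw [Finset.prod_mul_distrib, Finset.prod_const, Finset.card_univ, Subgroup.index,
            Nat.card_eq_fintype_card, ← map_prod]
  obtain ⟨a, b, hab⟩ : IsCoprime (T.index : ℤ) (m : ℤ) := Nat.isCoprime_iff_coprime.2 hcop
  refine ⟨(∏ x, w x) ^ a, L.zpow_mem (L.prod_mem fun x _ => ?_) _, fun s => ?_⟩
  · induction x using QuotientGroup.induction_on with | _ g
    exact hz _
  · have h1 : (z s ^ T.index) ^ a = z s := by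
      have h2 : z s ^ (a * T.index + b * m) = z s := by rw [hab, zpow_one]
      rw [zpow_add, mul_comm b, zpow_mul (z s) m, zpow_natCast, hm, one_zpow, mul_one,
        mul_comm a, zpow_mul, zpow_natCast] at h2
      exact h2
    conv_rhs => rw [hb s]
    rw [mul_zpow, h1, map_zpow]

section Orb

variable {G Λ : Type*} [Group G] [Finite G] [CommGroup Λ] [Finite Λ] [MulDistribMulAction G Λ]

open MulAction

omit [Finite G] in
theorem prod_orbit_eq_one (hinv : ∀ x : Λ, (∀ g : G, g • x = x) → x = 1) (x : Λ) :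
    ∏ y ∈ (Set.toFinite (orbit G x)).toFinset, y = 1 := by
  refine hinv _ fun g => ?_
  rw [Finset.smul_prod']
  refine Finset.prod_bij (fun y _ => g • y) ?_ ?_ ?_ ?_
  · intro y hy
    rw [Set.Finite.mem_toFinset] at hy ⊢
    obtain ⟨h, rfl⟩ := hy
    exact ⟨g * h, mul_smul g h x⟩
  · intro a _ b _ h
    exact smul_left_cancel g h
  · intro y hy
    rw [Set.Finite.mem_toFinset] at hy
    obtain ⟨h, rfl⟩ := hy
    refine ⟨(g⁻¹ * h) • x, by rw [Set.Finite.mem_toFinset]; exact ⟨_, rfl⟩, ?_⟩
    rw [← mul_smul, mul_inv_cancel_left]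
  · intro _ _; rfl

/-- If no nontrivial element is invariant and the orbit length of `y` is prime to those of `x`
and `x * y`, then `y` is killed by the orbit length of `x`. -/
theorem pow_index_eq_one (hinv : ∀ x : Λ, (∀ g : G, g • x = x) → x = 1) (x y : Λ)
    (h1 : (stabilizer G y).index.Coprime (stabilizer G x).index)
    (h2 : (stabilizer G y).index.Coprime (stabilizer G (x * y)).index) :
    y ^ (stabilizer G x).index = 1 := by
  classical
  have key : (Set.toFinite (orbit G (x * y))).toFinset =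
      (Set.toFinite (orbit G x)).toFinset.image (· * y) := by
    ext v
    simp only [Set.Finite.mem_toFinset, Finset.mem_image]
    constructor
    · rintro ⟨g, rfl⟩
      obtain ⟨a, ha, b, hb, rfl⟩ := (S0007.result _ _ h2).2 g
      refine ⟨a • x, ⟨a, rfl⟩, ?_⟩
      show a • x * y = (a * b) • (x * y)
      rw [mul_smul, mem_stabilizer_iff.1 hb, smul_mul', mem_stabilizer_iff.1 ha]
    · rintro ⟨_, ⟨g, rfl⟩, rfl⟩
      obtain ⟨a, ha, b, hb, rfl⟩ := (S0007.result _ _ h1).2 g
      refine ⟨a, ?_⟩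
      show a • (x * y) = (a * b) • x * y
      rw [mul_smul, mem_stabilizer_iff.1 hb, smul_mul', mem_stabilizer_iff.1 ha]
  have h3 := prod_orbit_eq_one hinv (x * y)
  rw [key, Finset.prod_image (fun a _ b _ h => mul_right_cancel h), Finset.prod_mul_distrib,
    prod_orbit_eq_one hinv, one_mul, Finset.prod_const, ← Set.ncard_eq_toFinset_card,
    ← index_stabilizer] at h3
  exact h3

end Orb

end Cfsg.Agent.Deg.Gr
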