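import Mathlib
import Cfsg.Agent.Deg.GraphA
import Cfsg.Agent.Ch.Det
import Cfsg.Agent.Ch.Gallagher

/-!
# Relative degree graphs: the basic lemmas
-/

set_option autoImplicit false
set_option linter.style.haveILetI false

namespace Cfsg.Agent.Deg.Gr

open Cfsg Cfsg.Agent.Ch

variable {G : Type*} [Group G] [Finite G]

/-- `χ` lies over `θ`. -/
def Lies (N : Subgroup G) (χ : G → ℂ) (θ : N → ℂ) : Prop :=
  letI := Fintype.ofFinite N
  classInner (fun n : N => χ n) θ ≠ 0

/-- The orbit length of a linear character of a normal subgroup. -/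
noncomputable def uu (N : Subgroup G) [N.Normal] (f : N →* ℂˣ) : ℕ :=
  (inertia N fun n => (f n : ℂ)).index

/-- No nontrivial linear character of `N` is invariant. -/
def NoInv (N : Subgroup G) [N.Normal] : Prop :=
  ∀ f : N →* ℂˣ, (∀ g : G, linConj g f = f) → f = 1

theorem exists_lies_under (N : Subgroup G) {χ : G → ℂ} (hχ : IsIrrCharacter G χ) :
    ∃ θ, IsIrrCharacter N θ ∧ Lies N χ θ :=
  letI := Fintype.ofFinite N
  exists_irr_under N hχ

theorem exists_lies_over {N : Subgroup G} {θ : N → ℂ} (hθ : IsIrrCharacter N θ) :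
    ∃ χ, IsIrrCharacter G χ ∧ Lies N χ θ :=
  letI := Fintype.ofFinite N
  exists_irr_over N hθ

variable {N : Subgroup G} [hN : N.Normal]

theorem Lies.exists_eq {χ : G → ℂ} {θ : N → ℂ} (h : Lies N χ θ) (hχ : IsIrrCharacter G χ)
    (hθ : IsIrrCharacter N θ) [Fintype G] : ∃ e : ℕ,
      charDegree χ = e * ((inertia N θ).index * charDegree θ) ∧
      (fun n : N => χ n) = e • ∑ ψ ∈ conjugates θ, ψ := by
  letI := Fintype.ofFinite N
  obtain ⟨e, -, h1, h2⟩ := clifford_nat hχ hθ h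
  obtain ⟨e', -, h3, h4⟩ := exists_charDegree_eq_mul hχ hθ h
  obtain rfl : e = e' := by exact_mod_cast h1.symm.trans h3
  exact ⟨e, h4, by rw [h2, Nat.cast_smul_eq_nsmul]⟩

theorem Lies.dvd {χ : G → ℂ} {θ : N → ℂ} (h : Lies N χ θ) (hχ : IsIrrCharacter G χ)
    (hθ : IsIrrCharacter N θ) : (inertia N θ).index * charDegree θ ∣ charDegree χ := by
  letI := Fintype.ofFinite G
  obtain ⟨e, h1, -⟩ := h.exists_eq hχ hθ
  exact h1 ▸ Dvd.intro_left _ rfl

theorem Lies.le_ker_iff {χ : G → ℂ} {θ : N → ℂ} (h : Lies N χ θ) (hχ : IsIrrCharacter G χ)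
    (hθ : IsIrrCharacter N θ) {K : Subgroup G} [hK : K.Normal] (hKN : K ≤ N) :
    K ≤ charKer χ ↔ K.subgroupOf N ≤ charKer θ := by
  letI := Fintype.ofFinite N
  letI := Fintype.ofFinite G
  refine ⟨fun hk x hx => mem_charKer_of_over hχ.isCharacter hθ h (hk hx), fun hk x hx => ?_⟩
  obtain ⟨e, -, h2⟩ := h.exists_eq hχ hθ
  rw [hχ.mem_charKer]
  have h3 := congrFun h2 ⟨x, hKN hx⟩
  have h4 := congrFun h2 1
  simp only [OneMemClass.coe_one] at h3 h4
  rw [h3, h4, Pi.smul_apply, Pi.smul_apply, Finset.sum_apply, Finset.sum_apply]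
  congr 1
  refine Finset.sum_congr rfl fun ψ hψ => ?_
  obtain ⟨g, rfl⟩ := mem_conjugates.1 hψ
  rw [conjChar_apply_one, conjChar_apply]
  exact apply_eq_of_mem_charKer (hk (hK.conj_mem x hx g))

theorem Lies.not_le_ker {χ : G → ℂ} {θ : N → ℂ} (h : Lies N χ θ) (hχ : IsIrrCharacter G χ)
    (hθ : IsIrrCharacter N θ) (h1 : θ ≠ fun _ => 1) : charDegree χ ∈ relCharDegrees N := by
  refine mem_relCharDegrees.2 ⟨χ, hχ, fun hk => h1 ?_, rfl⟩
  rw [h.le_ker_iff hχ hθ le_rfl, Subgroup.subgroupOf_self, top_le_iff] at hk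
  exact hθ.eq_one_of_charKer_eq_top hk

omit hN in
theorem lies_one : Lies N (fun _ => 1) (fun _ => 1) := by
  unfold Lies
  simp

omit [Finite G] in
theorem conjChar_hom_mul (g : G) (f : N →* ℂˣ) (θ : N → ℂ) :
    conjChar g (fun n => f n * θ n) = fun n => linConj g f n * conjChar g θ n := rfl

omit [Finite G] hN in
theorem hom_mul_cancel (f : N →* ℂˣ) {θ φ : N → ℂ}
    (h : (fun n => f n * θ n) = fun n => f n * φ n) : θ = φ :=
  funext fun n => mul_left_cancel₀ (f n).ne_zero (congrFun h n)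

omit [Finite G] in
theorem inertia_hom_mul {f : N →* ℂˣ} (hf : ∀ g : G, linConj g f = f) (θ : N → ℂ) :
    inertia N (fun n => f n * θ n) = inertia N θ := by
  ext g
  rw [mem_inertia', mem_inertia', conjChar_hom_mul, hf]
  exact ⟨hom_mul_cancel f, fun h => by rw [h]⟩

omit [Finite G] in
theorem sum_conjugates_hom_mul [Fintype G] {f : N →* ℂˣ} (hf : ∀ g : G, linConj g f = f)
    (θ : N → ℂ) : ∑ ψ ∈ conjugates (fun n => f n * θ n), ψ =
      fun n => f n * (∑ ψ ∈ conjugates θ, ψ) n := by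
  classical
  have h : conjugates (fun n => f n * θ n) =
      (conjugates θ).image fun ψ : N → ℂ => fun n => (f n : ℂ) * ψ n := by
    ext ψ
    simp only [Finset.mem_image, mem_conjugates]
    constructor
    · rintro ⟨g, rfl⟩
      exact ⟨_, ⟨g, rfl⟩, by rw [conjChar_hom_mul, hf]⟩
    · rintro ⟨_, ⟨g, rfl⟩, rfl⟩
      exact ⟨g, by rw [conjChar_hom_mul, hf]⟩
  rw [h, Finset.sum_image fun a _ b _ hab => hom_mul_cancel f hab]
  funext n
  simp only [Finset.sum_apply, Finset.mul_sum]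

omit hN in
theorem detChar_res_eq_one (hNG : N ≤ commutator G) {χ : G → ℂ} (hχ : IsCharacter G χ) (n : N) :
    detChar (fun n : N => χ n) n = 1 := by
  obtain ⟨f, hf⟩ := hχ.exists_detHom
  rw [hχ.detChar_restrict, hf]
  have : (n : G) ∈ f.ker := Abelianization.commutator_subset_ker f (hNG n.2)
  simp [MonoidHom.mem_ker.1 this]

/-- Comparing determinants over `θ` and over `f θ` for an invariant linear `f`. -/
theorem det_rel (hNG : N ≤ commutator G) {f : N →* ℂˣ} (hf : ∀ g : G, linConj g f = f)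
    {χ ξ : G → ℂ} {θ : N → ℂ} (hχ : IsIrrCharacter G χ) (hξ : IsIrrCharacter G ξ)
    (hθ : IsIrrCharacter N θ) (h1 : Lies N χ θ) (h2 : Lies N ξ fun n => f n * θ n) :
    f ^ (charDegree χ * charDegree ξ) = 1 := by
  letI := Fintype.ofFinite G
  obtain ⟨e, -, h3⟩ := h1.exists_eq hχ hθ
  obtain ⟨e', h4, h5⟩ := h2.exists_eq hξ (hθ.monoidHom_mul f)
  rw [sum_conjugates_hom_mul hf] at h5
  have h6 : e • (fun n : N => ξ n) = e' • fun n : N => (f n : ℂ) * χ n := by
    funext n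
    have a := congrFun h3 n
    have b := congrFun h5 n
    simp only [Pi.smul_apply, nsmul_eq_mul] at a b ⊢
    rw [a, b]; ring
  have hc : IsCharacter N fun n : N => (f n : ℂ) * χ n :=
    (isCharacter_monoidHom_units f).mul (hχ.isCharacter.restrict N)
  have h7 : f ^ (charDegree χ * e') = 1 := by
    ext n
    have a := (hξ.isCharacter.restrict N).detChar_nsmul e n
    rw [h6, hc.detChar_nsmul, (hχ.isCharacter.restrict N).detChar_hom_mul,
      detChar_res_eq_one hNG hχ.isCharacter, detChar_res_eq_one hNG hξ.isCharacter, mul_one,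
      one_pow, ← pow_mul, charDegree_restrict] at a
    simpa using a
  rw [h4, ← mul_assoc, pow_mul f, h7]
  exact one_pow (M := N →* ℂˣ) _

theorem pow_eq_one_of_inv (hNG : N ≤ commutator G) {f : N →* ℂˣ} (hf : ∀ g : G, linConj g f = f)
    {ξ : G → ℂ} (hξ : IsIrrCharacter G ξ) (h : Lies N ξ fun n => f n) :
    f ^ charDegree ξ = 1 := by
  have := det_rel hNG hf IsIrrCharacter.one hξ IsIrrCharacter.one lies_one (by simpa using h)
  simpa using this

theorem eq_one_of_pow_coprime {H : Type*} [Group H] {x : H →* ℂˣ} {a b : ℕ} (h : a.Coprime b)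
    (ha : x ^ a = 1) (hb : x ^ b = 1) : x = 1 := by
  rw [← orderOf_eq_one_iff (x := x)]
  exact Nat.eq_one_of_dvd_coprimes h (orderOf_dvd_of_pow_eq_one ha) (orderOf_dvd_of_pow_eq_one hb)

omit [Finite G] hN in
theorem coe_ne_one {f : N →* ℂˣ} (h : f ≠ 1) : (fun n => (f n : ℂ)) ≠ fun _ => 1 := fun h1 =>
  h (monoidHom_units_coe_injective (h1.trans (by simp)))

omit [Finite G] in
theorem linConj_eq_of_index {f : N →* ℂˣ} (h : uu N f = 1) (g : G) : linConj g f = f :=
  mem_inertia_lin.1 ((Subgroup.index_eq_one.1 h).symm ▸ Subgroup.mem_top g)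

/-- The central case. -/
theorem central_case (hNG : N ≤ commutator G) {f : N →* ℂˣ} (hf : ∀ g : G, linConj g f = f)
    {q : ℕ} (hq : q.Prime) (h1 : f ≠ 1) (hfq : f ^ q = 1) {a : ℕ} (ha : a ∈ relCharDegrees N) :
    ∃ b ∈ relCharDegrees N, q ∣ b ∧ ¬ a.Coprime b := by
  by_cases hqa : q ∣ a
  · exact ⟨a, ha, hqa, Nat.Prime.not_coprime_iff_dvd.2 ⟨q, hq, hqa, hqa⟩⟩
  obtain ⟨χ, hχ, hk, rfl⟩ := mem_relCharDegrees.1 ha
  have hc : q.Coprime (charDegree χ) := (Nat.Prime.coprime_iff_not_dvd hq).2 hqa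
  obtain ⟨θ, hθ, h2⟩ := exists_lies_under N hχ
  have hθ' := hθ.monoidHom_mul f
  obtain ⟨ξ, hξ, h3⟩ := exists_lies_over hθ'
  have h4 : q ∣ charDegree ξ := by
    by_contra h4
    exact h1 (eq_one_of_pow_coprime
      (hc.mul_right ((Nat.Prime.coprime_iff_not_dvd hq).2 h4)) hfq (det_rel hNG hf hχ hξ hθ h2 h3))
  refine ⟨_, h3.not_le_ker hξ hθ' fun h5 => ?_, h4, fun h5 => ?_⟩
  · have h6 : θ = fun n => ((f⁻¹ n : ℂˣ) : ℂ) := funext fun n => by
      have := congrFun h5 n
      simp only [MonoidHom.inv_apply, Units.val_inv_eq_inv_val]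
      exact eq_inv_of_mul_eq_one_right this
    have h7 := pow_eq_one_of_inv hNG (f := f⁻¹) (fun g => by rw [map_inv (linConj g), hf]) hχ (h6 ▸ h2)
    rw [inv_pow f] at h7
    exact h1 (eq_one_of_pow_coprime hc hfq (inv_eq_one.1 h7))
  · have d1 := h2.dvd hχ hθ
    have d2 := h3.dvd hξ hθ'
    rw [inertia_hom_mul hf, charDegree_congr (ψ := θ) (by simp)] at d2
    have d3 := Nat.eq_one_of_dvd_coprimes h5 d1 d2
    obtain ⟨t, rfl⟩ := hθ.isCharacter.exists_monoidHom_of_apply_one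
      (hθ.isCharacter.charDegree_eq_one_iff.1 (Nat.eq_one_of_mul_eq_one_left d3))
    have ht := linConj_eq_of_index (f := t) (Nat.eq_one_of_mul_eq_one_right d3)
    have e1 := pow_eq_one_of_inv hNG ht hχ h2
    have e2 := pow_eq_one_of_inv hNG (f := f * t) (fun g => by rw [map_mul (linConj g), hf, ht]) hξ
      (by simpa using h3)
    have e3 : t ^ (q * charDegree ξ) = 1 := by
      have : (f * t) ^ (q * charDegree ξ) = 1 := by
        rw [mul_comm q, pow_mul (f * t), e2]; exact one_pow (M := N →* ℂˣ) _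
      rwa [mul_pow f, pow_mul f, hfq, one_pow (M := N →* ℂˣ), one_mul (t ^ _)] at this
    obtain rfl := eq_one_of_pow_coprime (hc.symm.mul_right h5) e1 e3
    exact hk ((h2.le_ker_iff hχ hθ le_rfl).2 (by simp))

end Cfsg.Agent.Deg.Gr
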