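import Mathlib
import Cfsg.Agent.Deg.GraphB

/-!
# Relative degree graphs: the noncentral case
-/

set_option autoImplicit false
set_option linter.style.haveILetI false

namespace Cfsg.Agent.Deg.Gr

open Cfsg Cfsg.Agent.Ch

variable {G : Type*} [Group G] [Finite G] {N : Subgroup G} [hN : N.Normal]

/-- The linear characters trivial on a subgroup. -/
def triv {H : Type*} [Group H] (K : Subgroup H) : Subgroup (H →* ℂˣ) where
  carrier := {β | ∀ n ∈ K, β n = 1}
  mul_mem' ha hb n hn := by simp [ha n hn, hb n hn]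
  one_mem' _ _ := rfl
  inv_mem' ha n hn := by simp [ha n hn]

omit [Finite G] in
theorem linConj_mem_triv {K : Subgroup G} [hK : K.Normal] {β : N →* ℂˣ}
    (h : β ∈ triv (K.subgroupOf N)) (g : G) : linConj g β ∈ triv (K.subgroupOf N) :=
  fun n hn => h _ (hK.conj_mem n hn g)

theorem hom_eq_of_mul_eq {H : Type*} [Group H] [Finite H] {K : Subgroup H} [K.Normal] {θ : H → ℂ}
    (hθ : IsCharacter H θ) (hres : IsIrrCharacter K fun k => θ k) {β γ : H →* ℂˣ}
    (hβ : β ∈ triv K) (hγ : γ ∈ triv K) (h : (fun n => β n * θ n) = fun n => γ n * θ n) :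
    β = γ :=
  monoidHom_units_coe_injective (gallagher_inj hθ hres (isIrrCharacter_monoidHom_units β)
    (by rw [charKer_monoidHom_units]; exact hβ) (isIrrCharacter_monoidHom_units γ)
    (by rw [charKer_monoidHom_units]; exact hγ) h)

theorem two_a (hno : NoInv N) {K : Subgroup G} [hK : K.Normal] (hKN : K ≤ N) (hab : ⁅N, N⁆ ≤ K)
    {χ : G → ℂ} (hχ : IsIrrCharacter G χ) (hk : ¬ K ≤ charKer χ)
    (hc : (K.relIndex N).Coprime (charDegree χ)) {f : N →* ℂˣ}
    (hf : f ∈ triv (K.subgroupOf N)) :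
    ∃ b ∈ relCharDegrees N, uu N f ∣ b ∧ ¬ (charDegree χ).Coprime b := by
  obtain ⟨θ, hθ, h1⟩ := exists_lies_under N hχ
  have d1 := h1.dvd hχ hθ
  have hk' : ¬ K.subgroupOf N ≤ charKer θ := fun h => hk ((h1.le_ker_iff hχ hθ hKN).2 h)
  have hres : IsIrrCharacter (K.subgroupOf N) fun k => θ k :=
    res_irr_dgr _ hθ (hc.coprime_dvd_right ((Dvd.intro_left _ rfl).trans d1))
  let S : Subgroup G := inertia K fun k : K => θ ⟨k, hKN k.2⟩
  have hS : ∀ {g : G}, g ∈ S ↔ ∀ k : N, (k : G) ∈ K → conjChar g θ k = θ k := by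
    intro g
    rw [mem_inertia]
    exact ⟨fun h k hk => h ⟨k, hk⟩, fun h k => h ⟨k, hKN k.2⟩ k.2⟩
  have hTS : inertia N θ ≤ S := fun g hg => hS.2 fun k _ => by rw [mem_inertia'.1 hg]
  have hex : ∀ s : S, ∃ β ∈ triv (K.subgroupOf N), conjChar (s : G) θ = fun n => β n * θ n := by
    intro s
    letI := Fintype.ofFinite (K.subgroupOf N)
    refine gallagher_surj_of_commutator_le (commutator_le_subgroupOf hab) hθ.isCharacter hres
      (hθ.comp_mulEquiv (MulAut.conjNormal (s : G))) ?_
    have : (fun k : K.subgroupOf N => conjChar (s : G) θ k) =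
        fun k : K.subgroupOf N => θ k :=
      funext fun k => hS.1 s.2 k k.2
    change classInner (fun k : K.subgroupOf N => conjChar (s : G) θ k) _ ≠ 0
    rw [this, hres.classInner_self]
    exact one_ne_zero
  choose z hz hzθ using hex
  obtain ⟨β, hβ, hfix⟩ := exists_fixed_of_cocycle (fun s : S => linConj (s : G)) z _ hz
    (m := K.relIndex N) (fun s => hom_pow_index_eq_one _ _ (hz s)) (fun g h => by
      refine hom_eq_of_mul_eq hθ.isCharacter hres (hz _)
        (Subgroup.mul_mem _ (linConj_mem_triv (hz g) h) (hz h)) ?_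
      rw [← hzθ, Subgroup.coe_mul, conjChar_mul, hzθ g, conjChar_hom_mul, hzθ h]
      funext n
      simp [mul_assoc]) ((inertia N θ).subgroupOf S) (fun t ht => by
      refine hom_eq_of_mul_eq hθ.isCharacter hres (hz _) (Subgroup.one_mem _) ?_
      rw [← hzθ, mem_inertia'.1 (Subgroup.mem_subgroupOf.1 ht)]
      funext n
      simp)
    (hc.symm.coprime_dvd_left ((Subgroup.relIndex_dvd_index_of_le hTS).trans
      ((Dvd.intro _ rfl).trans d1)))
  have hconj : ∀ (s : S) (γ : N →* ℂˣ), conjChar (s : G) (fun n => (γ * β) n * θ n) =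
      fun n => (linConj (s : G) γ * β) n * θ n := by
    intro s γ
    rw [conjChar_hom_mul, hzθ, map_mul (linConj (s : G))]
    funext n
    conv_rhs => rw [← hfix s]
    simp [mul_assoc]
  have hη := hθ.monoidHom_mul (f * β)
  have hfβ := Subgroup.mul_mem _ hf hβ
  obtain ⟨ξ, hξ, h2⟩ := exists_lies_over hη
  have d2 := h2.dvd hξ hη
  rw [charDegree_congr (ψ := θ) (by simp)] at d2
  have hI : inertia N (fun n => (f * β) n * θ n) ≤ S := fun g hg => hS.2 fun k hk => by
    have := congrFun (mem_inertia'.1 hg) k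
    rw [conjChar_hom_mul] at this
    simp only [linConj_mem_triv hfβ g k hk, hfβ k hk, Units.val_one, one_mul] at this
    exact this
  have hI' : inertia N (fun n => (f * β) n * θ n) ≤ inertia N fun n => (f n : ℂ) := by
    intro g hg
    have h3 := hconj ⟨g, hI hg⟩ f
    rw [mem_inertia'.1 hg] at h3
    have h4 := hom_eq_of_mul_eq hθ.isCharacter hres hfβ
      (Subgroup.mul_mem _ (linConj_mem_triv hf g) hβ) h3
    exact mem_inertia_lin.2 (mul_right_cancel h4).symm
  refine ⟨_, h2.not_le_ker hξ hη fun h => hk' fun k hk => ?_,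
    (Subgroup.index_dvd_of_le hI').trans ((Dvd.intro _ rfl).trans d2), fun h => ?_⟩
  · have a := congrFun h k
    have b := congrFun h 1
    simp only [hfβ k hk, Units.val_one, one_mul, map_one] at a b
    rw [hθ.mem_charKer, a, b]
  · have d3 : S.index * charDegree θ = 1 := Nat.eq_one_of_dvd_coprimes h
      ((Nat.mul_dvd_mul_right (Subgroup.index_dvd_of_le hTS) _).trans d1)
      ((Nat.mul_dvd_mul_right (Subgroup.index_dvd_of_le hI) _).trans d2)
    obtain ⟨t, rfl⟩ := hθ.isCharacter.exists_monoidHom_of_apply_one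
      (hθ.isCharacter.charDegree_eq_one_iff.1 (Nat.eq_one_of_mul_eq_one_left d3))
    have hSt := Subgroup.index_eq_one.1 (Nat.eq_one_of_mul_eq_one_right d3)
    have h3 : β * t = 1 := hno _ fun g => by
      have h4 := hconj ⟨g, hSt ▸ Subgroup.mem_top g⟩ 1
      ext n
      have h5 := congrFun h4 n
      simpa [conjChar_apply, linConj_apply] using h5
    refine hk' fun k hk => ?_
    have h4 := DFunLike.congr_fun h3 k
    rw [charKer_monoidHom_units, MonoidHom.mem_ker]
    simpa [hβ k hk] using h4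

/-- Conjugation action on the linear characters of a normal subgroup. -/
@[reducible] def linAct (N : Subgroup G) [N.Normal] : MulDistribMulAction G (N →* ℂˣ) where
  smul g f := linConj g⁻¹ f
  one_smul f := by change linConj (1 : G)⁻¹ f = f; rw [inv_one, linConj_one]
  mul_smul g h f := by
    change linConj (g * h)⁻¹ f = linConj g⁻¹ (linConj h⁻¹ f)
    rw [mul_inv_rev, linConj_mul]
  smul_mul g := map_mul (linConj g⁻¹)
  smul_one g := map_one (linConj g⁻¹)

theorem two_b (hno : NoInv N) (x y : N →* ℂˣ) (h1 : (uu N y).Coprime (uu N x))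
    (h2 : (uu N y).Coprime (uu N (x * y))) : y ^ uu N x = 1 := by
  letI := linAct N
  have hs : ∀ f : N →* ℂˣ, (MulAction.stabilizer G f).index = uu N f := fun f => by
    unfold uu
    congr 1
    ext g
    rw [← Subgroup.inv_mem_iff (inertia N _), mem_inertia_lin]
    rfl
  have := pow_index_eq_one (G := G) (fun f hf => hno f fun g => by
    have := hf g⁻¹
    change linConj g⁻¹⁻¹ f = f at this
    rwa [inv_inv] at this) x y (by rwa [hs, hs]) (by rwa [hs, hs])
  rwa [hs] at this

theorem exists_over_lin {f : N →* ℂˣ} (h : f ≠ 1) : ∃ b ∈ relCharDegrees N, uu N f ∣ b := by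
  have hf := isIrrCharacter_monoidHom_units f
  obtain ⟨ξ, hξ, h2⟩ := exists_lies_over hf
  exact ⟨_, h2.not_le_ker hξ hf (coe_ne_one h), (Dvd.intro _ rfl).trans (h2.dvd hξ hf)⟩

omit [Finite G] in
theorem NoInv.uu_ne_one (hno : NoInv N) {f : N →* ℂˣ} (h : f ≠ 1) : uu N f ≠ 1 := fun h1 =>
  h (hno f (linConj_eq_of_index h1))

omit [Finite G] in
theorem uu_one : uu N 1 = 1 :=
  Subgroup.index_eq_one.2 (eq_top_iff.2 fun g _ => mem_inertia_lin.2 (map_one (linConj g)))

theorem not_coprime_of_dvd {a b d : ℕ} (h : d ≠ 1) (ha : d ∣ a) (hb : d ∣ b) : ¬ a.Coprime b :=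
  fun hc => h (Nat.eq_one_of_dvd_coprimes hc ha hb)

/-- Degrees over two nontrivial linear characters of order prime to both degrees have a
common neighbour. -/
theorem two_b' (hno : NoInv N) {x y : N →* ℂˣ} (hx : x ≠ 1) (hy : y ≠ 1) {m a b : ℕ}
    (hxm : x ^ m = 1) (hym : y ^ m = 1) (ha : uu N x ∣ a) (hb : uu N y ∣ b) (hma : m.Coprime a)
    (hmb : m.Coprime b) (hab : a.Coprime b) :
    ∃ c ∈ relCharDegrees N, ¬ a.Coprime c ∧ ¬ b.Coprime c := by
  have hc : (uu N x).Coprime (uu N y) := (hab.coprime_dvd_left ha).coprime_dvd_right hb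
  have h1 : ¬ (uu N y).Coprime (uu N (x * y)) := fun h =>
    hy (eq_one_of_pow_coprime (hma.coprime_dvd_right ha) hym (two_b hno x y hc.symm h))
  have h2 : ¬ (uu N x).Coprime (uu N (x * y)) := fun h =>
    hx (eq_one_of_pow_coprime (hmb.coprime_dvd_right hb) hxm
      (two_b hno y x hc (by rwa [mul_comm y x])))
  obtain ⟨c, hc1, hc2⟩ := exists_over_lin (f := x * y) fun h => h1 (by rw [h, uu_one]; simp)
  exact ⟨c, hc1, fun h => h2 ((h.coprime_dvd_left ha).coprime_dvd_right hc2),
    fun h => h1 ((h.coprime_dvd_left hb).coprime_dvd_right hc2)⟩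

/-- If `K` is in the kernel then the degree lies over a linear character trivial on `K`. -/
theorem exists_lin_under {K : Subgroup G} [hK : K.Normal] (hKN : K ≤ N) (hab : ⁅N, N⁆ ≤ K)
    {χ : G → ℂ} (hχ : IsIrrCharacter G χ) (hk : K ≤ charKer χ) (hk' : ¬ N ≤ charKer χ) :
    ∃ f ∈ triv (K.subgroupOf N), f ≠ 1 ∧ uu N f ∣ charDegree χ := by
  obtain ⟨θ, hθ, h1⟩ := exists_lies_under N hχ
  have h2 := (h1.le_ker_iff hχ hθ hKN).1 hk
  obtain ⟨t, rfl⟩ := hθ.isCharacter.exists_monoidHom_of_apply_one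
    (hθ.apply_one_eq_one_iff_commutator_le.2 ((commutator_le_subgroupOf hab).trans h2))
  refine ⟨t, ?_, ?_, (Dvd.intro _ rfl).trans (h1.dvd hχ hθ)⟩
  · rw [charKer_monoidHom_units] at h2
    exact h2
  · rintro rfl
    exact hk' ((h1.le_ker_iff hχ hθ le_rfl).2 (by simp))

end Cfsg.Agent.Deg.Gr
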