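import Mathlib
import Cfsg.Agent.Deg.GraphC
import Cfsg.Agent.FG.ClassIdx

/-!
# Relative degree graphs: components
-/

set_option autoImplicit false
set_option linter.style.haveILetI false

namespace Cfsg.Agent.Deg.Gr

open Cfsg Cfsg.Agent.Ch
open scoped commutatorElement

variable {G : Type*} [Group G] [Finite G] {N : Subgroup G} [hN : N.Normal]

omit [Finite G] hN in
theorem subgroupOf_commutator_dgr : ⁅N, N⁆.subgroupOf N = commutator N := by
  apply Subgroup.map_injective N.subtype_injective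
  rw [Subgroup.subgroupOf_map_subtype, commutator_def, Subgroup.map_commutator,
    ← MonoidHom.range_eq_map, Subgroup.range_subtype, inf_eq_left]
  exact Subgroup.commutator_le_self N

omit hN in
theorem card_lin : Nat.card (N →* ℂˣ) = ⁅N, N⁆.relIndex N := by
  rw [card_monoidHom_units, Subgroup.relIndex, subgroupOf_commutator_dgr]

omit hN in
theorem pow_relIndex (f : N →* ℂˣ) : f ^ ⁅N, N⁆.relIndex N = 1 := by
  rw [← card_lin]
  exact pow_card_eq_one' (x := f)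

omit hN in
theorem exists_lin_prime {p : ℕ} (hp : p.Prime) (h : p ∣ ⁅N, N⁆.relIndex N) :
    ∃ f : N →* ℂˣ, f ≠ 1 ∧ f ^ p = 1 := by
  haveI := Fact.mk hp
  obtain ⟨f, hf⟩ := exists_prime_orderOf_dvd_card' (G := N →* ℂˣ) p (card_lin (N := N) ▸ h)
  refine ⟨f, fun h1 => hp.ne_one ?_, hf ▸ pow_orderOf_eq_one f⟩
  rw [← hf]
  exact orderOf_eq_one_iff.2 h1

theorem exists_kp (N : Subgroup G) [hN : N.Normal] {p : ℕ} (hp : p.Prime) :
    ∃ K : Subgroup G, K.Normal ∧ K ≤ N ∧ ⁅N, N⁆ ≤ K ∧ (∃ k, K.relIndex N = p ^ k) ∧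
      ∀ f : N →* ℂˣ, f ∈ triv (K.subgroupOf N) ↔ f ^ p = 1 := by
  haveI := Fact.mk hp
  let K : Subgroup G :=
    { carrier := {g | ∃ hg : g ∈ N, ∀ f : N →* ℂˣ, f ^ p = 1 → f ⟨g, hg⟩ = 1}
      mul_mem' := by
        rintro a b ⟨ha, h1⟩ ⟨hb, h2⟩
        refine ⟨N.mul_mem ha hb, fun f hf => ?_⟩
        have := map_mul f ⟨a, ha⟩ ⟨b, hb⟩
        rw [h1 f hf, h2 f hf, one_mul] at this
        exact this
      one_mem' := ⟨N.one_mem, fun f _ => map_one f⟩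
      inv_mem' := by
        rintro a ⟨ha, h1⟩
        refine ⟨N.inv_mem ha, fun f hf => ?_⟩
        have := map_inv f ⟨a, ha⟩
        rw [h1 f hf, inv_one] at this
        exact this }
  have hK : K.Normal := ⟨by
    rintro a ⟨ha, h1⟩ g
    refine ⟨hN.conj_mem a ha g, fun f hf => h1 (linConj g f) ?_⟩
    rw [← map_pow (linConj g), hf]
    exact map_one (linConj g)⟩
  have hpow : ∀ n : N, n ^ p ∈ K.subgroupOf N := fun n =>
    ⟨(n ^ p).2, fun f hf => (map_pow f n p).trans (DFunLike.congr_fun hf n)⟩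
  refine ⟨K, hK, fun g hg => hg.1, fun g hg => ?_, ?_, fun f => ⟨fun h => ?_, fun h n hn => ?_⟩⟩
  · have hg' := Subgroup.commutator_le_self N hg
    refine ⟨hg', fun f _ => Abelianization.commutator_subset_ker f ?_⟩
    rw [← subgroupOf_commutator_dgr]
    exact hg
  · refine IsPGroup.iff_card.1 (fun x => ⟨1, ?_⟩ : IsPGroup p (N ⧸ K.subgroupOf N))
    induction x using QuotientGroup.induction_on with | _ n
    rw [pow_one, ← QuotientGroup.mk_pow, QuotientGroup.eq_one_iff]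
    exact hpow n
  · exact MonoidHom.ext fun n => (map_pow f n p).symm.trans (h _ (hpow n))
  · exact hn.2 f h

theorem reach_or (hno : NoInv N) {p : ℕ} (hp : p.Prime) {a : ℕ} (ha : a ∈ relCharDegrees N)
    (hpa : ¬ p ∣ a) : (∃ f : N →* ℂˣ, f ≠ 1 ∧ f ^ p = 1 ∧ uu N f ∣ a) ∨
      ∀ f : N →* ℂˣ, f ^ p = 1 → ∃ b ∈ relCharDegrees N, uu N f ∣ b ∧ ¬ a.Coprime b := by
  obtain ⟨χ, hχ, hk, rfl⟩ := mem_relCharDegrees.1 ha
  obtain ⟨K, hK, hKN, hab, ⟨k, hi⟩, htr⟩ := exists_kp N hp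
  by_cases h : K ≤ charKer χ
  · obtain ⟨f, h1, h2, h3⟩ := exists_lin_under hKN hab hχ h hk
    exact Or.inl ⟨f, h2, (htr f).1 h1, h3⟩
  · exact Or.inr fun f hf => two_a hno hKN hab hχ h
      (hi ▸ ((Nat.Prime.coprime_iff_not_dvd hp).2 hpa).pow_left k) ((htr f).2 hf)

theorem reach_lin (hno : NoInv N) {p : ℕ} (hp : p.Prime) (hpm : p ∣ ⁅N, N⁆.relIndex N) {a : ℕ}
    (ha : a ∈ relCharDegrees N) (hpa : ¬ p ∣ a) :
    ∃ f : N →* ℂˣ, f ≠ 1 ∧ f ^ p = 1 ∧ ∃ b ∈ relCharDegrees N, uu N f ∣ b ∧ ¬ a.Coprime b := by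
  rcases reach_or hno hp ha hpa with ⟨f, h1, h2, h3⟩ | h
  · exact ⟨f, h1, h2, a, ha, h3, not_coprime_of_dvd (hno.uu_ne_one h1) h3 h3⟩
  · obtain ⟨f, h1, h2⟩ := exists_lin_prime hp hpm
    exact ⟨f, h1, h2, h f h2⟩

/-- A set of numbers closed under adjacency in the relative degree graph. -/
def Cl (N : Subgroup G) (B : Set ℕ) : Prop :=
  ∀ x ∈ B, ∀ y ∈ relCharDegrees N, ¬ x.Coprime y → y ∈ B

theorem join_p (hno : NoInv N) {p : ℕ} (hp : p.Prime) (hpm : p ∣ ⁅N, N⁆.relIndex N) {B : Set ℕ}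
    (hB : Cl N B) {a b : ℕ} (ha : a ∈ relCharDegrees N) (hb : b ∈ relCharDegrees N)
    (hpa : ¬ p ∣ a) (hpb : ¬ p ∣ b) (haB : a ∈ B) : b ∈ B := by
  by_cases hab : a.Coprime b
  swap
  · exact hB a haB b hb hab
  rcases reach_or hno hp ha hpa with ⟨f, f1, f2, f3⟩ | h1
  · rcases reach_or hno hp hb hpb with ⟨g, g1, g2, g3⟩ | h2
    · obtain ⟨c, hc, c1, c2⟩ := two_b' hno f1 g1 f2 g2 f3 g3
        ((Nat.Prime.coprime_iff_not_dvd hp).2 hpa) ((Nat.Prime.coprime_iff_not_dvd hp).2 hpb) hab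
      exact hB c (hB a haB c hc c1) b hb fun h => c2 h.symm
    · obtain ⟨c, hc, c1, c2⟩ := h2 f f2
      exact hB c (hB a haB c hc (not_coprime_of_dvd (hno.uu_ne_one f1) f3 c1)) b hb
        fun h => c2 h.symm
  · obtain ⟨g, g1, g2, c, hc, c1, c2⟩ := reach_lin hno hp hpm hb hpb
    obtain ⟨d, hd, d1, d2⟩ := h1 g g2
    exact hB c (hB d (hB a haB d hd d2) c hc (not_coprime_of_dvd (hno.uu_ne_one g1) d1 c1)) b hb
      fun h => c2 h.symm

omit [Finite G] in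
theorem uu_pow_dvd (f : N →* ℂˣ) (k : ℕ) : uu N (f ^ k) ∣ uu N f :=
  Subgroup.index_dvd_of_le fun g hg => mem_inertia_lin.2 (by
    rw [map_pow (linConj g), mem_inertia_lin.1 hg])

omit [Finite G] in
theorem uu_dvd_mul {f g : N →* ℂˣ} {p q : ℕ} (hp : p.Prime) (hpq : q.Coprime p) (hf : f ^ p = 1)
    (hg : g ^ q = 1) : uu N f ∣ uu N (f * g) := by
  obtain ⟨k, -, hk⟩ := Nat.exists_mul_mod_eq_one_of_coprime hpq hp.one_lt
  have h : (f * g) ^ (q * k) = f := by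
    rw [mul_pow f, pow_mul g, hg, one_pow (M := N →* ℂˣ), mul_one (f ^ _),
      ← Nat.div_add_mod (q * k) p, hk, pow_add f, pow_mul f, hf, one_pow (M := N →* ℂˣ),
      one_mul (f ^ _), pow_one f]
  have := uu_pow_dvd (f * g) (q * k)
  rwa [h] at this

theorem cross (hno : NoInv N) {p q : ℕ} (hp : p.Prime) (hq : q.Prime) (hpq : p ≠ q)
    (hpm : p ∣ ⁅N, N⁆.relIndex N) (hqm : q ∣ ⁅N, N⁆.relIndex N) {B : Set ℕ}
    (hB : Cl N B) {a b : ℕ} (ha : a ∈ relCharDegrees N) (hb : b ∈ relCharDegrees N)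
    (hqa : ¬ q ∣ a) (hpb : ¬ p ∣ b) (haB : a ∈ B) : b ∈ B := by
  obtain ⟨f, f1, f2, c, hc, c1, c2⟩ := reach_lin hno hp hpm hb hpb
  obtain ⟨g, g1, g2, d, hd, d1, d2⟩ := reach_lin hno hq hqm ha hqa
  have hcop := (Nat.coprime_primes hp hq).2 hpq
  have e1 := uu_dvd_mul hp hcop.symm f2 g2
  have e2 := uu_dvd_mul hq hcop g2 f2
  rw [mul_comm g f] at e2
  obtain ⟨e, he, e3⟩ := exists_over_lin (f := f * g) fun h => hno.uu_ne_one f1 (by
    rw [h, uu_one] at e1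
    exact Nat.dvd_one.1 e1)
  exact hB c (hB e (hB d (hB a haB d hd d2) e he
    (not_coprime_of_dvd (hno.uu_ne_one g1) d1 (e2.trans e3))) c hc
    (not_coprime_of_dvd (hno.uu_ne_one f1) (e1.trans e3) c1)) b hb fun h => c2 h.symm

theorem exists_inv_prime (h : ¬ NoInv N) : ∃ (f : N →* ℂˣ) (q : ℕ), (∀ g : G, linConj g f = f) ∧
    q.Prime ∧ f ≠ 1 ∧ f ^ q = 1 := by
  simp only [NoInv, not_forall] at h
  obtain ⟨f, hf, h1⟩ := h
  have h2 : orderOf f ≠ 1 := fun h => h1 (orderOf_eq_one_iff.1 h)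
  obtain ⟨q, hq, k, hk⟩ := Nat.exists_prime_and_dvd h2
  refine ⟨f ^ k, q, fun g => by rw [map_pow (linConj g), hf], hq, fun h => ?_, ?_⟩
  · have h3 := orderOf_dvd_of_pow_eq_one (x := f) h
    have h4 : 0 < k := Nat.pos_of_ne_zero fun h0 => (orderOf_pos f).ne' (by rw [hk, h0, mul_zero])
    have h5 := Nat.le_of_dvd h4 h3
    have := hq.two_le
    nlinarith
  · rw [← pow_mul f, mul_comm, ← hk]
    exact pow_orderOf_eq_one f

omit [Finite G] hN in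
theorem dvd_of_pow_prime {f : N →* ℂˣ} {q m : ℕ} (hq : q.Prime) (h1 : f ≠ 1) (h2 : f ^ q = 1)
    (h3 : f ^ m = 1) : q ∣ m := by
  by_contra h
  exact h1 (eq_one_of_pow_coprime ((Nat.Prime.coprime_iff_not_dvd hq).2 h) h2 h3)

/-- A linear character of `[N, N]` invariant under `N` is killed by `|N : [N, N]|`. -/
theorem bilinear_remark (ν : (⁅N, N⁆ : Subgroup G) →* ℂˣ) (hν : ∀ n ∈ N, linConj n ν = ν) :
    ν ^ ⁅N, N⁆.relIndex N = 1 := by
  have key : ∀ a b : N, (ν ^ ⁅N, N⁆.relIndex N)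
      ⟨⁅(a : G), (b : G)⁆, Subgroup.commutator_mem_commutator a.2 b.2⟩ = 1 := by
    intro a b
    let F : N →* ℂˣ := MonoidHom.mk'
      (fun a => ν ⟨⁅(a : G), (b : G)⁆, Subgroup.commutator_mem_commutator a.2 b.2⟩) (by
        intro x y
        have h1 := DFunLike.congr_fun (hν x x.2)
          ⟨⁅(y : G), (b : G)⁆, Subgroup.commutator_mem_commutator y.2 b.2⟩
        rw [mul_comm, ← h1, linConj_apply, ← map_mul]
        congr 1
        ext
        simp only [commutatorElement_def, Subgroup.coe_mul]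
        group)
    exact DFunLike.congr_fun (pow_relIndex F) a
  have h2 : ⁅N, N⁆ ≤ ((ν ^ ⁅N, N⁆.relIndex N).ker.map (⁅N, N⁆ : Subgroup G).subtype) :=
    Subgroup.commutator_le.2 fun a ha b hb => ⟨_, key ⟨a, ha⟩ ⟨b, hb⟩, rfl⟩
  ext x
  obtain ⟨y, hy, hyx⟩ := h2 x.2
  obtain rfl : y = x := Subtype.ext hyx
  rw [MonoidHom.mem_ker.1 hy]
  rfl

omit [Finite G] hN in
theorem rel_mono {K : Subgroup G} (h : K ≤ N) : relCharDegrees K ⊆ relCharDegrees N := by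
  rintro d ⟨χ, ⟨x, hx, h1⟩, h2⟩
  exact ⟨χ, ⟨x, h hx, h1⟩, h2⟩

theorem noInv_of_cl (hNG : N ≤ commutator G) {B : Set ℕ} (hB : Cl N B) {m : ℕ}
    (hm : ∀ x ∈ B, m.Coprime x)
    (hpow : ∀ f : N →* ℂˣ, (∀ g : G, linConj g f = f) → f ^ m = 1) {a : ℕ}
    (ha : a ∈ relCharDegrees N) (haB : a ∈ B) : NoInv N := by
  by_contra h
  obtain ⟨f, q, f1, hq, f2, f3⟩ := exists_inv_prime h
  obtain ⟨b, hb, b1, b2⟩ := central_case hNG f1 hq f2 f3 ha
  exact not_coprime_of_dvd hq.ne_one (dvd_of_pow_prime hq f2 f3 (hpow f f1)) b1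
    (hm b (hB a haB b hb b2))


omit [Finite G] hN in
theorem commutator_lt_dgr [Group.IsSolvable N] {a : ℕ} (ha : a ∈ relCharDegrees N) :
    ⁅N, N⁆ < N := by
  obtain ⟨χ, ⟨x, hx, h1⟩, -⟩ := ha
  have : Nontrivial N := ⟨⟨⟨x, hx⟩, 1, fun h => h1 (by rw [show x = 1 from congrArg Subtype.val h])⟩⟩
  refine lt_of_le_of_ne (Subgroup.commutator_le_self N) fun h => ?_
  have h2 := Group.IsSolvable.commutator_lt_top_of_nontrivial N
  rw [← subgroupOf_commutator_dgr, h, Subgroup.subgroupOf_self] at h2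
  exact lt_irrefl _ h2

omit hN in
/-- Two coprime degrees in a closed set of degrees prime to `|N : N'|` have a common neighbour. -/
theorem common_neighbour (n : ℕ) : ∀ (N : Subgroup G) [N.Normal] [Group.IsSolvable N],
    Nat.card N = n → N ≤ commutator G → ∀ B : Set ℕ, Cl N B →
    (∀ x ∈ B, (⁅N, N⁆.relIndex N).Coprime x) → ∀ a ∈ relCharDegrees N, ∀ b ∈ relCharDegrees N,
    a ∈ B → b ∈ B → a.Coprime b → ∃ c ∈ relCharDegrees N, ¬ a.Coprime c ∧ ¬ b.Coprime c := by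
  induction n using Nat.strong_induction_on with | _ n ih
  intro N _ _ hn hNG B hB hm a ha b hb haB hbB hab
  have hno : NoInv N := noInv_of_cl hNG hB hm (fun f _ => pow_relIndex f) ha haB
  have hle := Subgroup.commutator_le_self N
  obtain ⟨χ, hχ, hk, rfl⟩ := mem_relCharDegrees.1 ha
  obtain ⟨ψ, hψ, hk', rfl⟩ := mem_relCharDegrees.1 hb
  by_cases h1 : ⁅N, N⁆ ≤ charKer χ
  · obtain ⟨f, f1, f2, f3⟩ := exists_lin_under hle le_rfl hχ h1 hk
    by_cases h2 : ⁅N, N⁆ ≤ charKer ψ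
    · obtain ⟨g, -, g2, g3⟩ := exists_lin_under hle le_rfl hψ h2 hk'
      exact two_b' hno f2 g2 (pow_relIndex f) (pow_relIndex g) f3 g3 (hm _ haB) (hm _ hbB) hab
    · obtain ⟨c, hc, c1, c2⟩ := two_a hno hle le_rfl hψ h2 (hm _ hbB) f1
      exact ⟨c, hc, not_coprime_of_dvd (hno.uu_ne_one f2) f3 c1, c2⟩
  by_cases h2 : ⁅N, N⁆ ≤ charKer ψ
  · obtain ⟨g, g1, g2, g3⟩ := exists_lin_under hle le_rfl hψ h2 hk'
    obtain ⟨c, hc, c1, c2⟩ := two_a hno hle le_rfl hχ h1 (hm _ haB) g1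
    exact ⟨c, hc, c2, not_coprime_of_dvd (hno.uu_ne_one g2) g3 c1⟩
  have ha' : charDegree χ ∈ relCharDegrees ⁅N, N⁆ := mem_relCharDegrees.2 ⟨χ, hχ, h1, rfl⟩
  have hb' : charDegree ψ ∈ relCharDegrees ⁅N, N⁆ := mem_relCharDegrees.2 ⟨ψ, hψ, h2, rfl⟩
  have hB' : Cl ⁅N, N⁆ B := fun x hx y hy => hB x hx y (rel_mono hle hy)
  have hno' : NoInv ⁅N, N⁆ := noInv_of_cl (hle.trans hNG) hB' hm
    (fun f hf => bilinear_remark f fun n _ => hf n) ha' haB
  have : Group.IsSolvable (⁅N, N⁆ : Subgroup G) :=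
    Group.isSolvable_of_isSolvable_injective (Subgroup.inclusion_injective hle)
  have hs : ∀ s : ℕ, s.Prime → s ∣ ⁅⁅N, N⁆, ⁅N, N⁆⁆.relIndex ⁅N, N⁆ → s ∣ ⁅N, N⁆.relIndex N := by
    intro s hs hsm
    have key : ∀ x ∈ relCharDegrees ⁅N, N⁆, x ∈ B → ¬ s ∣ x → s ∣ ⁅N, N⁆.relIndex N := by
      intro x hx hxB hsx
      obtain ⟨f, f1, f2, c, hc, c1, c2⟩ := reach_lin hno' hs hsm hx hsx
      refine dvd_of_pow_prime hs f1 f2 (bilinear_remark f fun n hn => mem_inertia_lin.1 ?_)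
      have e1 := FG.CI.relIndex_dvd_index_of_normal_right (inertia ⁅N, N⁆ fun n => (f n : ℂ)) N
      have e2 := Subgroup.relIndex_dvd_of_le_left N
        (le_inertia (N := ⁅N, N⁆) (isCharacter_monoidHom_units f).isClassFunction)
      exact Subgroup.relIndex_eq_one.1 (Nat.eq_one_of_dvd_coprimes
        (hm c (hB' x hxB c hc c2)) e2 (e1.trans c1)) hn
    by_cases h : s ∣ charDegree χ
    · exact key _ hb' hbB fun h' => not_coprime_of_dvd hs.ne_one h h' hab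
    · exact key _ ha' haB h
  have hlt : Nat.card (⁅N, N⁆ : Subgroup G) < Nat.card N :=
    Set.ncard_lt_ncard (commutator_lt_dgr ha) (Set.toFinite _)
  obtain ⟨c, hc, c1⟩ := ih _ (hn ▸ hlt) ⁅N, N⁆ rfl
    (hle.trans hNG) B hB' (fun x hx => Nat.coprime_of_dvd fun s hs' h1 h2 =>
      not_coprime_of_dvd hs'.ne_one (hs s hs' h1) h2 (hm x hx))
    _ ha' _ hb' haB hbB hab
  exact ⟨c, rel_mono hle hc, c1⟩

/-- The relative common divisor graph. -/
abbrev RG (N : Subgroup G) := commonDivisorGraph.induce (relCharDegrees N)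

omit [Finite G] hN in
theorem adj_of_not_coprime {a b : relCharDegrees N} (h : a ≠ b) (h1 : ¬ a.1.Coprime b.1) :
    (RG N).Adj a b := by
  refine ⟨fun h2 => h (Subtype.ext h2), ?_⟩
  obtain ⟨χ, -, h3⟩ := a.2
  have h4 : 0 < Nat.gcd a.1 b.1 := Nat.gcd_pos_of_pos_left _ (h3 ▸ χ.2.charDegree_pos)
  have h5 : Nat.gcd a.1 b.1 ≠ 1 := h1
  change 1 < Nat.gcd a.1 b.1
  omega

omit [Finite G] hN in
theorem reach_of_not_coprime {a b : relCharDegrees N} (h1 : ¬ a.1.Coprime b.1) :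
    (RG N).Reachable a b := by
  by_cases h : a = b
  · exact h ▸ SimpleGraph.Reachable.refl _
  · exact (adj_of_not_coprime h h1).reachable

omit [Finite G] hN in
theorem cl_reach (a : relCharDegrees N) :
    Cl N {d | ∃ hd : d ∈ relCharDegrees N, (RG N).Reachable a ⟨d, hd⟩} := by
  rintro x ⟨hx, h⟩ y hy hxy
  exact ⟨hy, h.trans (reach_of_not_coprime (a := ⟨x, hx⟩) (b := ⟨y, hy⟩) hxy)⟩

theorem reach_of_not_noInv (hNG : N ≤ commutator G) (h : ¬ NoInv N) (a b : relCharDegrees N) :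
    (RG N).Reachable a b := by
  obtain ⟨f, q, f1, hq, f2, f3⟩ := exists_inv_prime h
  obtain ⟨c, hc, c1, c2⟩ := central_case hNG f1 hq f2 f3 a.2
  obtain ⟨d, hd, d1, d2⟩ := central_case hNG f1 hq f2 f3 b.2
  exact ((reach_of_not_coprime (b := ⟨c, hc⟩) c2).trans (reach_of_not_coprime (a := ⟨c, hc⟩)
    (b := ⟨d, hd⟩) (not_coprime_of_dvd hq.ne_one c1 d1))).trans
    (reach_of_not_coprime (b := ⟨d, hd⟩) d2).symm

theorem reach_of_not_dvd (hNG : N ≤ commutator G) {p : ℕ} (hp : p.Prime)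
    (hpm : p ∣ ⁅N, N⁆.relIndex N) {a b : relCharDegrees N} (ha : ¬ p ∣ a.1) (hb : ¬ p ∣ b.1) :
    (RG N).Reachable a b := by
  by_cases hno : NoInv N
  · exact (join_p hno hp hpm (cl_reach a) a.2 b.2 ha hb ⟨a.2, SimpleGraph.Reachable.refl _⟩).2
  · exact reach_of_not_noInv hNG hno a b

theorem shape_of_not_reach (hNG : N ≤ commutator G) {p : ℕ} (hp : p.Prime)
    (hpm : p ∣ ⁅N, N⁆.relIndex N) {a b : relCharDegrees N} (h : ¬ (RG N).Reachable a b)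
    (ha : ¬ p ∣ a.1) : Nat.Coprime a.1 (⁅N, N⁆.relIndex N) ∧
      ∀ r : ℕ, r.Prime → r ∣ ⁅N, N⁆.relIndex N → r ∣ b.1 := by
  have hno : NoInv N := by_contra fun hno => h (reach_of_not_noInv hNG hno a b)
  have key : ∀ r : ℕ, r.Prime → r ∣ ⁅N, N⁆.relIndex N → ¬ r ∣ a.1 := by
    intro r hr hrm hra
    refine h (cross hno hr hp (fun e => ha (e ▸ hra)) hrm hpm (cl_reach a) a.2 b.2 ha
      (fun hrb => h (reach_of_not_coprime (not_coprime_of_dvd hr.ne_one hra hrb)))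
      ⟨a.2, SimpleGraph.Reachable.refl _⟩).2
  refine ⟨Nat.coprime_of_dvd fun r hr h1 h2 => key r hr h2 h1, fun r hr hrm => ?_⟩
  by_contra hrb
  exact h (reach_of_not_dvd hNG hr hrm (key r hr hrm) hrb)

theorem shape_or (hNG : N ≤ commutator G) {p : ℕ} (hp : p.Prime)
    (hpm : p ∣ ⁅N, N⁆.relIndex N) {a b : relCharDegrees N} (h : ¬ (RG N).Reachable a b) :
    (Nat.Coprime a.1 (⁅N, N⁆.relIndex N) ∧
      ∀ r : ℕ, r.Prime → r ∣ ⁅N, N⁆.relIndex N → r ∣ b.1) ∨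
    (Nat.Coprime b.1 (⁅N, N⁆.relIndex N) ∧
      ∀ r : ℕ, r.Prime → r ∣ ⁅N, N⁆.relIndex N → r ∣ a.1) := by
  by_cases ha : p ∣ a.1
  · exact Or.inr (shape_of_not_reach hNG hp hpm (fun h' => h h'.symm) fun hb =>
      h (reach_of_not_coprime (not_coprime_of_dvd hp.ne_one ha hb)))
  · exact Or.inl (shape_of_not_reach hNG hp hpm h ha)

omit [Finite G] hN in
theorem exists_prime_dvd_relIndex (h : ⁅N, N⁆ < N) : ∃ p, p.Prime ∧ p ∣ ⁅N, N⁆.relIndex N :=
  Nat.exists_prime_and_dvd fun h1 => h.not_ge (Subgroup.relIndex_eq_one.1 h1)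

end Cfsg.Agent.Deg.Gr
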