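import Mathlib
import Cfsg.Agent.Deg.Ito
import Cfsg.Agent.Ch.Det

/-!
# Relative Itô theorem over a linear character of a normal `p`-subgroup
-/

namespace Cfsg.Agent.Deg

open Cfsg Cfsg.Agent.Ch
open scoped ComplexConjugate commutatorElement

universe u
variable {G : Type*} [Group G]

/-- An invariant linear character lying under a character of degree prime to `|N|` extends. -/
theorem exists_hom_extends_of_coprime_degree [Finite G] {N : Subgroup G} [N.Normal] [Fintype N]
    {θ : N → ℂ} (hθ : IsIrrCharacter N θ) (h1 : θ 1 = 1) (hinv : ∀ g : G, conjChar g θ = θ)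
    {χ : G → ℂ} (hχ : IsIrrCharacter G χ) (ho : classInner (fun n : N => χ n) θ ≠ 0)
    (hc : (charDegree χ).Coprime (Nat.card N)) : ∃ μ : G →* ℂˣ, ∀ n : N, (μ n : ℂ) = θ n := by
  have := Fintype.ofFinite G
  have hres := res_eq_smul_of_invariant hχ hθ hinv ho
  have he : classInner (fun n : N => χ n) θ = charDegree χ := by
    have := congrFun hres 1
    simp only [OneMemClass.coe_one, Pi.smul_apply, h1, smul_eq_mul, mul_one] at this
    rw [← this, hχ.coe_charDegree]
  rw [he, Nat.cast_smul_eq_nsmul] at hres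
  obtain ⟨f, hf⟩ := hχ.isCharacter.exists_detHom
  obtain ⟨l, hl⟩ := hθ.isCharacter.exists_monoidHom_of_apply_one h1
  have key : ∀ n : N, f n = l n ^ charDegree χ := by
    intro n
    apply Units.ext
    have := hχ.isCharacter.detChar_restrict N n
    rw [hres, hθ.isCharacter.detChar_nsmul, hθ.isCharacter.detChar_of_apply_one h1, hf, hl] at this
    simpa using this.symm
  obtain ⟨m, hm⟩ := exists_pow_eq_self_of_coprime (x := l) (n := charDegree χ)
    (hc.coprime_dvd_right (orderOf_dvd_of_pow_eq_one (hom_pow_card_eq_one l)))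
  refine ⟨f ^ m, fun n => ?_⟩
  rw [hl, MonoidHom.pow_apply, key]
  conv_rhs => rw [← hm]
  simp

theorem commutator_sylow_le_of_invariant [Finite G] {p : ℕ} [hp : Fact p.Prime]
    (hG : IsPSolvable p G) {N : Subgroup G} [N.Normal] [Fintype N] (hN : IsPGroup p N)
    {θ : N → ℂ} (hθ : IsIrrCharacter N θ) (h1 : θ 1 = 1) (hinv : ∀ g : G, conjChar g θ = θ)
    (h : ∀ χ, IsIrrCharacter G χ → classInner (fun n : N => χ n) θ ≠ 0 → ¬ p ∣ charDegree χ)
    (P : Sylow p G) : ∀ a ∈ P, ∀ b ∈ P, ⁅a, b⁆ ∈ N := by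
  obtain ⟨χ, hχ, ho⟩ := exists_irr_over N hθ
  obtain ⟨k, hk⟩ := hN.exists_card_eq
  obtain ⟨μ, hμ⟩ := exists_hom_extends_of_coprime_degree hθ h1 hinv hχ ho
    (hk ▸ ((hp.out.coprime_iff_not_dvd.2 (h χ hχ ho)).symm.pow_right k))
  have hμi := isIrrCharacter_monoidHom_units μ
  have hres : (fun n : N => (μ n : ℂ)) = θ := funext hμ
  have hq := ito_comm (hG.quotient N) (fun β hβ hd => by
    have a1 := gallagher_mul_irr hμi.isCharacter (hres ▸ hθ) hβ.comp_mk (le_charKer_comp_mk N β)
    have a2 := classInner_res_mul_ne_zero (χ := fun g => (μ g : ℂ)) (hres ▸ hθ) hβ.comp_mk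
      (le_charKer_comp_mk N β)
    rw [hres] at a2
    refine h _ a1 a2 ?_
    rw [hβ.comp_mk.isCharacter.charDegree_mul hμi.isCharacter]
    exact Dvd.dvd.mul_right hd _) (P.mapSurjective (QuotientGroup.mk'_surjective N))
  intro a ha b hb
  have := congrArg Subtype.val (hq ⟨a, ⟨a, ha, rfl⟩⟩ ⟨b, ⟨b, hb, rfl⟩⟩)
  rw [← QuotientGroup.eq_one_iff]
  exact (map_commutatorElement (QuotientGroup.mk' N) a b).trans
    (commutatorElement_eq_one_iff_mul_comm.2 this)

/-- If all irreducible characters of the `p`-solvable group `G` over a linear character of a normal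
`p`-subgroup `N` have `p'`-degree, then `G/N` has abelian Sylow `p`-subgroups. -/
theorem commutator_sylow_le [Finite G] {p : ℕ} [hp : Fact p.Prime]
    (hG : IsPSolvable p G) {N : Subgroup G} [hn : N.Normal] [Fintype N] (hN : IsPGroup p N)
    {θ : N → ℂ} (hθ : IsIrrCharacter N θ) (h1 : θ 1 = 1)
    (h : ∀ χ, IsIrrCharacter G χ → classInner (fun n : N => χ n) θ ≠ 0 → ¬ p ∣ charDegree χ)
    (P : Sylow p G) : ∀ a ∈ P, ∀ b ∈ P, ⁅a, b⁆ ∈ N := by
  classical
  have := Fintype.ofFinite G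
  set T := inertia N θ with hT
  have hNT : N ≤ T := le_inertia hθ.isClassFunction
  obtain ⟨χ, hχ, ho⟩ := exists_irr_over N hθ
  have hTi : ¬ p ∣ T.index := fun hd => h χ hχ ho (hd.trans (index_inertia_dvd hχ hθ ho))
  obtain ⟨Q⟩ : Nonempty (Sylow p T) := inferInstance
  have hQ := commutator_sylow_le_of_invariant (hG.subgroup T) (N := N.subgroupOf T)
    (hN.of_injective (Subgroup.subgroupOfEquivOfLe hNT).toMonoidHom
      (Subgroup.subgroupOfEquivOfLe hNT).injective)
    (θ := subOf T θ) ((isIrrCharacter_subgroupOf_iff hNT).2 hθ) h1 (subOf_invariant le_rfl)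
    (fun ψ hψ hoψ hd => by
      rw [classInner_res_subgroupOf hNT] at hoψ
      refine h _ (clifford_corr_irr hθ hT hNT hψ hoψ)
        (by rw [clifford_corr_mult hθ hT hNT hψ hoψ]; exact hoψ) ?_
      rw [charDegree_indFun T hψ.isCharacter]
      exact Dvd.dvd.mul_left hd _) Q
  have hQp : IsPGroup p ((Q : Subgroup T).map T.subtype) := Q.isPGroup'.map _
  have hi : ¬ p ∣ ((Q : Subgroup T).map T.subtype).index := by
    rw [Subgroup.index_map_subtype]
    exact fun hh => (hp.out.dvd_mul.1 hh).elim Q.not_dvd_index hTi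
  obtain ⟨g, hg⟩ := MulAction.exists_smul_eq G (hQp.toSylow hi) P
  intro a ha b hb
  rw [← hg] at ha hb
  obtain ⟨_, ⟨x, hx, rfl⟩, rfl⟩ := ha
  obtain ⟨_, ⟨y, hy, rfl⟩, rfl⟩ := hb
  have := hn.conj_mem _ (hQ x hx y hy) g
  convert this using 1
  simp [commutatorElement_def, mul_assoc]

end Cfsg.Agent.Deg
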