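import Mathlib
import Cfsg.Agent.Deg.McK1
import Cfsg.Agent.GT.Conj
import Cfsg.Agent.GT.PGroupBasic
import Cfsg.Agent.GT.CoprimeActThms

/-!
# The Okuyama–Wajima extension theorem
-/

set_option autoImplicit false
set_option linter.unusedSectionVars false

namespace Cfsg.Agent.Deg

open Cfsg Cfsg.Agent.Ch Cfsg.Agent.Ch.Glb Cfsg.Agent.GT
open scoped ComplexConjugate commutatorElement

variable {Γ : Type*} [Group Γ]

theorem commutator_sup_self_le {K B : Subgroup Γ} (hB : B ≤ Subgroup.normalizer (K : Set Γ))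
    (h : ⁅B, B⁆ ≤ K) : ⁅K ⊔ B, K ⊔ B⁆ ≤ K := by
  have hn : K ⊔ B ≤ Subgroup.normalizer (K : Set Γ) := sup_le Subgroup.le_normalizer hB
  have h1 : ⁅K, K ⊔ B⁆ ≤ K := Subgroup.commutator_le.2 fun k hk x hx => by
    have : ⁅k, x⁆ = k * (x * k⁻¹ * x⁻¹) := by simp only [commutatorElement_def]; group
    rw [this]
    exact mul_mem hk (CopAct.conj_mem hn hx (inv_mem hk))
  refine commutator_sup_le hn h1 ?_
  rw [Subgroup.commutator_comm]
  refine commutator_sup_le hn ((Subgroup.commutator_mono le_rfl le_sup_right).trans h1) h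

theorem rel_mul_lin {p : ℕ} {G C : Type*} [Group G] [Group C] {f : C →* G} {χ : G → ℂ}
    {β : C → ℂ} (h : Rel p f χ β) (lam : G →* ℂˣ) :
    Rel p f (fun g => lam g * χ g) (fun c => lam (f c) * β c) := by
  obtain ⟨ε, hε, Δ, hΔ, h⟩ := h
  refine ⟨ε, hε, (fun c => (lam.comp f c : ℂ)) * Δ,
    (isCharacter_monoidHom_units _).isGeneralizedCharacter.mul hΔ, fun c => ?_⟩
  simp only [h, Pi.mul_apply, MonoidHom.comp_apply]
  ring

variable [Finite Γ]

theorem irr_res_iff_stab {K L : Subgroup Γ} (hKL : K ≤ L) (hab : ⁅L, L⁆ ≤ K) {ξ : L → ℂ}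
    (hξ : IsIrrCharacter L ξ) : IsIrrCharacter K (fun k : K => ξ ⟨k, hKL k.2⟩) ↔
      ∀ lam : L →* ℂˣ, (∀ l : L, (l : Γ) ∈ K → lam l = 1) →
        (fun l => lam l * ξ l) = ξ → lam = 1 := by
  have := Fintype.ofFinite L
  have hc : commutator L ≤ K.subgroupOf L := commutator_le_subgroupOf hab
  have : (K.subgroupOf L).Normal := Subgroup.Normal.of_commutator_le L hc
  rw [← isIrrCharacter_res_subgroupOf_iff hKL]
  constructor
  · intro h lam hl he
    have h1 : K.subgroupOf L ≤ charKer fun l => (lam l : ℂ) := by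
      rw [charKer_monoidHom_units]; exact fun l hl' => hl l hl'
    have h2 : K.subgroupOf L ≤ charKer fun l => ((1 : L →* ℂˣ) l : ℂ) := by
      rw [charKer_monoidHom_units]; exact fun l _ => rfl
    exact monoidHom_units_coe_injective (gallagher_inj hξ.isCharacter h
      (isIrrCharacter_monoidHom_units lam) h1 (isIrrCharacter_monoidHom_units 1) h2
      (he.trans (funext fun l => by simp)))
  · intro h
    refine isIrr_res_of_closure_support hc hξ ?_
    by_contra hne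
    set M := K.subgroupOf L ⊔ Subgroup.closure {g | ξ g ≠ 0} with hM
    have hcM : commutator L ≤ M := hc.trans le_sup_left
    have : M.Normal := Subgroup.Normal.of_commutator_le L hcM
    obtain ⟨g, hg⟩ : ∃ g, g ∉ M := by
      by_contra h'
      push Not at h'
      exact hne (eq_top_iff.2 fun g _ => h' g)
    obtain ⟨f, hf⟩ := exists_monoidHom_units_ne_one_of_comm (quotient_comm_of_commutator_le hcM)
      (g := (g : L ⧸ M)) (by rwa [Ne, QuotientGroup.eq_one_iff])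
    have h1 : ∀ l ∈ M, f.comp (QuotientGroup.mk' M) l = 1 := fun l hl => by
      rw [MonoidHom.comp_apply, QuotientGroup.mk'_apply, (QuotientGroup.eq_one_iff l).2 hl, map_one]
    have := h (f.comp (QuotientGroup.mk' M)) (fun l hl => h1 l (Subgroup.mem_sup_left hl))
      (funext fun l => by
        by_cases h0 : ξ l = 0
        · rw [h0, mul_zero]
        · rw [h1 l (Subgroup.mem_sup_right (Subgroup.subset_closure h0)), Units.val_one, one_mul])
    exact hf (DFunLike.congr_fun this g)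

theorem coprime_card_of_not_dvd {p : ℕ} (hp : p.Prime) {P : Subgroup Γ} (hP : IsPGroup p P) {n : ℕ}
    (h : ¬ p ∣ n) : n.Coprime (Nat.card P) := by
  have := Fact.mk hp
  obtain ⟨k, hk⟩ := hP.exists_card_eq
  rw [hk]
  exact (Nat.Coprime.pow_left k (hp.coprime_iff_not_dvd.2 h)).symm

theorem not_dvd_of_dvd_card_pGroup {p q : ℕ} (hp : p.Prime) (hq : q.Prime) (hne : q ≠ p)
    {P : Subgroup Γ} (hP : IsPGroup p P) {n : ℕ} (h : n ∣ Nat.card P) : ¬ q ∣ n := by
  have := Fact.mk hp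
  obtain ⟨k, hk⟩ := hP.exists_card_eq
  intro hd
  exact hne ((Nat.prime_dvd_prime_iff_eq hq hp).1 (hq.dvd_of_dvd_pow (hk ▸ hd.trans h)))

theorem relIndex_sup_sup_dvd {K A P : Subgroup Γ} (hPK : P ≤ Subgroup.normalizer (K : Set Γ))
    (hAK : A ≤ Subgroup.normalizer (K : Set Γ)) (hAP : A ≤ Subgroup.normalizer (P : Set Γ)) :
    (K ⊔ A).relIndex (K ⊔ A ⊔ P) ∣ Nat.card P := by
  have h1 : A ≤ Subgroup.normalizer ((K ⊔ P : Subgroup Γ) : Set Γ) := PG.le_normalizer_sup hAK hAP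
  have e1 := HT.card_sup_mul_card_inf h1
  have e2 := HT.card_sup_mul_card_inf hAK
  have e3 := HT.card_sup_mul_card_inf hPK
  have e4 := HT.card_mul_relIndex (le_sup_left : K ⊔ A ≤ K ⊔ A ⊔ P)
  have e5 := HT.card_mul_relIndex (inf_le_inf_right A (le_sup_left : K ≤ K ⊔ P))
  rw [sup_right_comm] at e1
  refine ⟨(K ⊓ A).relIndex ((K ⊔ P) ⊓ A) * Nat.card ↥(K ⊓ P), ?_⟩
  have hpos : 0 < Nat.card ↥(K ⊔ A) * Nat.card ↥(K ⊓ A) := Nat.mul_pos Nat.card_pos Nat.card_pos
  refine Nat.eq_of_mul_eq_mul_left hpos ?_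
  calc Nat.card ↥(K ⊔ A) * Nat.card ↥(K ⊓ A) * Nat.card P
      = (Nat.card K * Nat.card P) * Nat.card A := by rw [e2]; ring
    _ = (Nat.card ↥(K ⊔ P) * Nat.card A) * Nat.card ↥(K ⊓ P) := by rw [← e3]; ring
    _ = _ := by rw [← e1, ← e4, ← e5]; ring

/-- Extension across a `p`-power index, for a `p'`-group `K`. -/
theorem Ext.of_relIndex_dvd {p : ℕ} (hp : p.Prime) {K U W P : Subgroup Γ} (hKU : K ≤ U)
    (hUW : U ≤ W) (hW : W ≤ Subgroup.normalizer (K : Set Γ)) (hK : ¬ p ∣ Nat.card K)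
    (hP : IsPGroup p P) (hi : U.relIndex W ∣ Nat.card P) {θ : K → ℂ} (hθ : IsIrrCharacter K θ)
    (hinv : Inv W θ) (h : Ext U θ) : Ext W θ :=
  ext_of_primes (hKU.trans hUW) hW hθ hinv fun _ hq hd =>
    ⟨U, hKU, hUW, not_dvd_of_dvd_card_pGroup hp hq (fun h' => hK (h' ▸ hd)) hP hi, h⟩

theorem Ext.exists_res {U L K : Subgroup Γ} (hKL : K ≤ L) (hLU : L ≤ U) {θ : K → ℂ}
    (hθ : IsIrrCharacter K θ) (h : Ext U θ) : ∃ ξ : L → ℂ, IsIrrCharacter L ξ ∧ Inv U ξ ∧
      (fun k : K => ξ ⟨k, hKL k.2⟩) = θ := by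
  obtain ⟨η, hη, h⟩ := h
  have h1 : (fun k : K => (fun l : L => η ⟨l, hLU l.2⟩) ⟨k, hKL k.2⟩) = θ := funext fun k => h k _
  exact ⟨fun l => η ⟨l, hLU l.2⟩, isIrr_of_res_irr hKL (isCharacter_res_of_le hLU hη) (h1 ▸ hθ),
    Ext.inv ⟨η, hη, fun _ _ => rfl⟩ hLU, h1⟩

/-- The case that `A / C_A(P)` is cyclic. -/
theorem ow_cyclic {p : ℕ} (hp : p.Prime) {K P A B C : Subgroup Γ} {a : Γ} (hP : IsPGroup p P)
    (hPK : P ≤ Subgroup.normalizer (K : Set Γ)) (hAK : A ≤ Subgroup.normalizer (K : Set Γ))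
    (hAP : A ≤ Subgroup.normalizer (P : Set Γ)) (hcop : ¬ p ∣ Nat.card ↥(K ⊔ A))
    (hC : C = K ⊓ Subgroup.centralizer (P : Set Γ)) (hCK : C ≤ K) (hCB : C ≤ B)
    (hBP : B ≤ Subgroup.centralizer (P : Set Γ)) (hA : B ⊔ Subgroup.zpowers a = A)
    (hAA : ⁅A, A⁆ ≤ C) {θ : K → ℂ} {φ : C → ℂ} (hθ : IsIrrCharacter K θ) (hθP : Inv P θ)
    (hφ : IsIrrCharacter C φ) (hr : Rel p (Subgroup.inclusion hCK) θ φ) :
    Ext (K ⊔ A) θ ↔ Ext A φ := by
  have hBA : B ≤ A := hA ▸ le_sup_left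
  have ha : a ∈ A := hA ▸ Subgroup.mem_sup_right (Subgroup.mem_zpowers a)
  have hAB : A ≤ Subgroup.normalizer (B : Set Γ) :=
    PG.le_normalizer_of_commutator_le ((Subgroup.commutator_mono hBA le_rfl).trans hAA) hCB
  have hPB' : P ≤ Subgroup.centralizer (B : Set Γ) := Subgroup.le_centralizer_iff.1 hBP
  have hPB : P ≤ Subgroup.normalizer (B : Set Γ) := hPB'.trans (PG.centralizer_le_normalizer' B)
  have hBK := hBA.trans hAK
  set L := K ⊔ B with hL
  have hKL : K ≤ L := le_sup_left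
  have hBL : B ≤ L := le_sup_right
  have hLA : L ≤ K ⊔ A := sup_le_sup_left hBA K
  have hPL : P ≤ Subgroup.normalizer (L : Set Γ) := PG.le_normalizer_sup hPK hPB
  have hAL : A ≤ Subgroup.normalizer (L : Set Γ) := PG.le_normalizer_sup hAK hAB
  have hpL : ¬ p ∣ Nat.card L := fun h => hcop (h.trans (Subgroup.card_dvd_of_le hLA))
  have hpK : ¬ p ∣ Nat.card K := fun h => hpL (h.trans (Subgroup.card_dvd_of_le hKL))
  have hB : B = L ⊓ Subgroup.centralizer (P : Set Γ) := by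
    refine le_antisymm (le_inf hBL hBP) fun x hx => ?_
    obtain ⟨k, hk, b, hb, rfl⟩ := (HT.mem_sup_of_le_normalizer hBK).1 hx.1
    refine mul_mem (hCB ?_) hb
    rw [hC]
    have h1 : k * b ∈ Subgroup.centralizer (P : Set Γ) := hx.2
    exact ⟨hk, by simpa using mul_mem h1 (inv_mem (hBP hb))⟩
  have HL := corr_pGroup hp hP hPL (coprime_card_of_not_dvd hp hP hpL) hB hBL
  have HK := corr_pGroup hp hP hPK (coprime_card_of_not_dvd hp hP hpK) hC hCK
  have hBB : ⁅B, B⁆ ≤ C := (Subgroup.commutator_mono hBA hBA).trans hAA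
  have hLL : ⁅L, L⁆ ≤ K := commutator_sup_self_le hBK (hBB.trans hCK)
  have hlam : ∀ lam : L →* ℂˣ, (∀ l : L, (l : Γ) ∈ K → lam l = 1) → Inv P fun l => lam l := by
    intro lam hl s hs g g' hg
    obtain ⟨k, hk, b, hb, hkb⟩ := (HT.mem_sup_of_le_normalizer hBK).1 g.2
    have e1 : g = ⟨k, hKL hk⟩ * ⟨b, hBL hb⟩ := Subtype.ext hkb.symm
    have e2 : g' = ⟨s * k * s⁻¹, hKL (CopAct.conj_mem hPK hs hk)⟩ * ⟨b, hBL hb⟩ := by
      apply Subtype.ext
      change (g' : Γ) = s * k * s⁻¹ * b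
      rw [hg, ← hkb, mul_assoc (s * k), ← hPB' (inv_mem hs) b hb]
      group
    simp only
    rw [e1, e2, map_mul, map_mul, hl ⟨k, _⟩ hk, hl _ (CopAct.conj_mem hPK hs hk)]
  have key : ∀ {ξ : L → ℂ} {ζ : B → ℂ}, IsIrrCharacter L ξ → Inv P ξ → IsIrrCharacter B ζ →
      Rel p (Subgroup.inclusion hBL) ξ ζ → (IsIrrCharacter K (fun k : K => ξ ⟨k, hKL k.2⟩) ↔
        IsIrrCharacter C (fun c : C => ζ ⟨c, hCB c.2⟩)) := by
    intro ξ ζ hξ hξP hζ hrel
    rw [irr_res_iff_stab hKL hLL hξ, irr_res_iff_stab hCB hBB hζ]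
    constructor
    · intro h μ hμ he
      obtain ⟨lam, h1, h2⟩ := exists_lin_ext hBL hLL μ fun z hz => hμ z (hC ▸ ⟨hz, hBP z.2⟩)
      have h3 := rel_mul_lin hrel lam
      have h4 : (fun c : B => (lam (Subgroup.inclusion hBL c) : ℂ) * ζ c) = ζ := by
        rw [← he]
        exact funext fun c => by rw [he, ← h1]; rfl
      rw [h4] at h3
      have h5 := HL.inj _ _ _ (hξ.monoidHom_mul lam) hξ hζ
        (fun s hs g g' hg => by
          have := hlam lam h2 s hs g g' hg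
          simp only at this ⊢
          rw [this, hξP s hs g g' hg]) hξP h3 hrel
      have h6 := h lam h2 h5
      ext z
      rw [← h1, h6]; rfl
    · intro h lam hl he
      have h3 := rel_mul_lin hrel lam
      rw [he] at h3
      have h4 := Rel.unique hp hξ.isCharacter
        (hζ.monoidHom_mul (lam.comp (Subgroup.inclusion hBL))) hζ h3 hrel
      have h5 := h (lam.comp (Subgroup.inclusion hBL)) (fun z hz => hl _ (hCK hz)) h4
      ext g
      obtain ⟨k, hk, b, hb, hkb⟩ := (HT.mem_sup_of_le_normalizer hBK).1 g.2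
      have e1 : g = ⟨k, hKL hk⟩ * ⟨b, hBL hb⟩ := Subtype.ext hkb.symm
      have e2 : lam ⟨b, hBL hb⟩ = 1 := DFunLike.congr_fun h5 ⟨b, hb⟩
      rw [e1, map_mul, hl _ hk, e2]
      simp
  have hres : ∀ {ξ : L → ℂ} {ζ : B → ℂ}, Rel p (Subgroup.inclusion hBL) ξ ζ →
      Rel p (Subgroup.inclusion hCK) (fun k : K => ξ ⟨k, hKL k.2⟩)
        (fun c : C => ζ ⟨c, hCB c.2⟩) := fun h =>
    h.congr (fun k : K => (⟨k, hKL k.2⟩ : L)) (Subgroup.inclusion hCB) fun _ => rfl
  have hza : Subgroup.zpowers a ≤ A := Subgroup.zpowers_le.2 ha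
  constructor
  · intro h
    have hKA : K ⊔ A ≤ Subgroup.normalizer (K : Set Γ) := sup_le Subgroup.le_normalizer hAK
    have h1 : Ext (K ⊔ A ⊔ P) θ := h.of_relIndex_dvd hp le_sup_left le_sup_left (sup_le hKA hPK)
      hpK hP (relIndex_sup_sup_dvd hPK hAK hAP) hθ ((h.inv le_sup_left).sup hKA hPK hθP)
    obtain ⟨ξ, hξ, hinv, hext⟩ := h1.exists_res hKL (hLA.trans le_sup_left) hθ
    have hξP := hinv.mono le_sup_right
    have hξA := hinv.mono (le_sup_right.trans le_sup_left : A ≤ K ⊔ A ⊔ P)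
    obtain ⟨ζ, hζ, hrel⟩ := HL.ex ξ hξ hξP
    have hζA := (HL.inv_iff hp hAP hAL hAB hξ hζ hξP hrel).1 hξA
    have h2 := (key hξ hξP hζ hrel).1 (hext ▸ hθ)
    have h3 := hres hrel
    rw [hext] at h3
    have h4 := Rel.unique hp hθ.isCharacter h2 hφ h3 hr
    have h5 := ext_of_cyclic (hAB ha) hζ (hζA.mono hza)
    rw [hA] at h5
    exact h5.trans hCB (congrFun h4)
  · intro h
    obtain ⟨ζ, hζ, hζA, hext⟩ := h.exists_res hCB hBA hφ
    obtain ⟨ξ, hξ, hξP, hrel⟩ := HL.surj ζ hζ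
    have hξA := (HL.inv_iff hp hAP hAL hAB hξ hζ hξP hrel).2 hζA
    have h2 := (key hξ hξP hζ hrel).2 (hext ▸ hφ)
    have h3 := hres hrel
    rw [hext] at h3
    have h4 := HK.inj _ _ _ h2 hθ hφ (fun s hs g g' hg => hξP s hs _ _ hg) hθP h3 hr
    have h5 := ext_of_cyclic (hAL ha) hξ (hξA.mono hza)
    have h6 : L ⊔ Subgroup.zpowers a = K ⊔ A := by rw [hL, sup_assoc, hA]
    rw [h6] at h5
    exact h5.trans hKL (congrFun h4)

theorem exists_cocyclic {p : ℕ} (hp : p.Prime) {P A C O : Subgroup Γ} (hP : IsPGroup p P)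
    (hAP : A ≤ Subgroup.normalizer (P : Set Γ)) (hcop : ¬ p ∣ Nat.card A) (hCA : C ≤ A)
    (hCP : C ≤ Subgroup.centralizer (P : Set Γ)) (hAA : ⁅A, A⁆ ≤ C) (hO : ¬ P ≤ O) :
    ∃ B : Subgroup Γ, C ≤ B ∧ (∃ a, B ⊔ Subgroup.zpowers a = A) ∧
      ¬ P ⊓ Subgroup.centralizer (B : Set Γ) ≤ O := by
  by_contra hcon
  push Not at hcon
  let f := CopAct.conjHom hAP
  have hker : ∀ x : A, (x : Γ) ∈ C → f x = 1 := fun x hx => by
    rw [← MonoidHom.mem_ker, CopAct.conjHom_ker]; exact hCP hx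
  have hcomm : IsMulCommutative f.range := by
    rw [PG.isMulCommutative_iff_forall]
    rintro _ ⟨x, rfl⟩ _ ⟨y, rfl⟩
    rw [← commutatorElement_eq_one_iff_mul_comm, ← map_commutatorElement]
    exact hker _ (hAA (Subgroup.commutator_mem_commutator x.2 y.2))
  have hc : (Nat.card f.range).Coprime (Nat.card (⊤ : Subgroup P)) := by
    rw [Subgroup.card_top]
    exact coprime_card_of_not_dvd hp hP fun h => hcop (h.trans (Subgroup.card_range_dvd f))
  have := CopAct.act_le_of_cocyclic (φ := f.range.subtype) hcomm (H := O.subgroupOf P)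
    (CopAct.actInv_top _) hc fun B' ⟨a', ha'⟩ u _ hu => by
      obtain ⟨a, rfl⟩ := f.rangeRestrict_surjective a'
      refine hcon ((B'.comap f.rangeRestrict).map A.subtype) (fun c hc => ?_) ⟨a, ?_⟩ ⟨u.2, ?_⟩
      · refine ⟨⟨c, hCA hc⟩, ?_, rfl⟩
        have : f.rangeRestrict ⟨c, hCA hc⟩ = 1 := Subtype.ext (hker _ hc)
        rw [SetLike.mem_coe, Subgroup.mem_comap, this]
        exact one_mem _
      · have h1 : B'.comap f.rangeRestrict ⊔ Subgroup.zpowers a = ⊤ := by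
          have h2 := congrArg (Subgroup.comap f.rangeRestrict) ha'
          rw [← Subgroup.comap_sup_eq _ _ _ f.rangeRestrict_surjective, ← MonoidHom.map_zpowers,
            Subgroup.comap_map_eq, Subgroup.comap_top, sup_comm (Subgroup.zpowers a), ← sup_assoc,
            sup_eq_left.2 (Subgroup.ker_le_comap _ _)] at h2
          exact h2
        have h3 := congrArg (Subgroup.map A.subtype) h1
        rwa [Subgroup.map_sup, MonoidHom.map_zpowers, ← MonoidHom.range_eq_map,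
          Subgroup.range_subtype] at h3
      · rintro _ ⟨b, hb, rfl⟩
        have h1 := congrArg Subtype.val (hu _ hb)
        change (b : Γ) * u * (b : Γ)⁻¹ = u at h1
        change (b : Γ) * u = u * b
        rw [← mul_inv_eq_iff_eq_mul, h1]
  exact hO fun x hx => this (Subgroup.mem_top (⟨x, hx⟩ : P))

theorem commutator_lt_of_isPGroup {p : ℕ} (hp : p.Prime) {P : Subgroup Γ} (hP : IsPGroup p P)
    (h : P ≠ ⊥) : ⁅P, P⁆ < P := by
  have := Fact.mk hp
  obtain ⟨n, hn⟩ := PG.exists_iterCommutator_eq_bot_of_isPGroup hP hP Subgroup.le_normalizer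
  exact PG.commutator_lt_of_iterCommutator hn Subgroup.le_normalizer h

theorem ow_aux {p : ℕ} (hp : p.Prime) (n : ℕ) : ∀ {K P A C : Subgroup Γ},
    Nat.card K + Nat.card P = n → IsPGroup p P →
    P ≤ Subgroup.normalizer (K : Set Γ) → A ≤ Subgroup.normalizer (K : Set Γ) →
    A ≤ Subgroup.normalizer (P : Set Γ) → ¬ p ∣ Nat.card ↥(K ⊔ A) →
    C = K ⊓ Subgroup.centralizer (P : Set Γ) → ∀ hCK : C ≤ K, C ≤ A → ⁅A, A⁆ ≤ C →
    ∀ {θ : K → ℂ} {φ : C → ℂ}, IsIrrCharacter K θ → Inv P θ → IsIrrCharacter C φ →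
      Rel p (Subgroup.inclusion hCK) θ φ → (Ext (K ⊔ A) θ ↔ Ext A φ) := by
  induction n using Nat.strong_induction_on with
  | _ n ih =>
  intro K P A C hn hP hPK hAK hAP hcop hC hCK hCA hAA θ φ hθ hθP hφ hr
  have hpK : ¬ p ∣ Nat.card K := fun h => hcop (h.trans (Subgroup.card_dvd_of_le le_sup_left))
  have hpA : ¬ p ∣ Nat.card A := fun h => hcop (h.trans (Subgroup.card_dvd_of_le le_sup_right))
  have hCP : C ≤ Subgroup.centralizer (P : Set Γ) := hC ▸ inf_le_right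
  by_cases h0 : P ≤ Subgroup.centralizer (K : Set Γ)
  · have h1 : C = K := by rw [hC, inf_eq_left]; exact Subgroup.le_centralizer_iff.1 h0
    clear hC
    subst h1
    rw [Rel.unique hp hθ.isCharacter hφ hθ hr (rel_of_eq fun _ => rfl), sup_eq_right.2 hCA]
  by_cases h1 : ∃ P₁ : Subgroup Γ, P₁ < P ∧ P ≤ Subgroup.normalizer (P₁ : Set Γ) ∧
      A ≤ Subgroup.normalizer (P₁ : Set Γ) ∧ ¬ P₁ ≤ Subgroup.centralizer (K : Set Γ)
  · obtain ⟨P₁, hlt, hPP, hAP₁, hn₁⟩ := h1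
    set D := K ⊓ Subgroup.centralizer (P₁ : Set Γ) with hD
    have hDK : D ≤ K := inf_le_left
    have hDK' : D < K := lt_of_le_of_ne hDK fun h => hn₁
      (Subgroup.le_centralizer_iff.1 (inf_eq_left.1 h))
    have hCD : C ≤ D := le_inf hCK (hCP.trans (centralizer_anti hlt.le))
    have hP₁ : IsPGroup p P₁ := hP.to_le hlt.le
    have hP₁K := hlt.le.trans hPK
    have hPD : P ≤ Subgroup.normalizer (D : Set Γ) :=
      PG.le_normalizer_inf hPK (PG.le_normalizer_centralizer hPP)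
    have hAD : A ≤ Subgroup.normalizer (D : Set Γ) :=
      PG.le_normalizer_inf hAK (PG.le_normalizer_centralizer hAP₁)
    have hpD : ¬ p ∣ Nat.card D := fun h => hpK (h.trans (Subgroup.card_dvd_of_le hDK))
    have hC' : C = D ⊓ Subgroup.centralizer (P : Set Γ) :=
      le_antisymm (le_inf hCD hCP) (hC ▸ inf_le_inf_right _ hDK)
    have H1 := corr_pGroup hp hP₁ hP₁K (coprime_card_of_not_dvd hp hP₁ hpK) hD hDK
    have H2 := corr_pGroup hp hP hPD (coprime_card_of_not_dvd hp hP hpD) hC' hCD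
    obtain ⟨θ', hθ', hr1⟩ := H1.ex θ hθ (hθP.mono hlt.le)
    have hθ'P : Inv P θ' := (H1.inv_iff hp hPP hPK hPD hθ hθ' (hθP.mono hlt.le) hr1).1 hθP
    obtain ⟨φ', hφ', hr2⟩ := H2.ex θ' hθ' hθ'P
    have e : φ' = φ := Rel.unique hp hθ.isCharacter hφ' hφ (hr1.trans hr2) hr
    subst e
    have e1 : K ⊔ (D ⊔ A) = K ⊔ A := by rw [← sup_assoc, sup_eq_left.2 hDK]
    have i1 := ih _ (by have := HT.card_lt_of_lt hlt; omega) (K := K) (P := P₁) (A := D ⊔ A)
      (C := D) rfl hP₁ hP₁K (sup_le (hDK.trans Subgroup.le_normalizer) hAK)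
      (sup_le (le_normalizer_of_le_centralizer inf_le_right) hAP₁) (e1 ▸ hcop) hD hDK le_sup_left
      (commutator_sup_self_le hAD (hAA.trans hCD)) hθ (hθP.mono hlt.le) hθ' hr1
    have i2 := ih _ (by have := HT.card_lt_of_lt hDK'; omega) (K := D) (P := P) (A := A)
      (C := C) rfl hP hPD hAD hAP
      (fun h => hcop (h.trans (Subgroup.card_dvd_of_le (sup_le_sup_right hDK A)))) hC' hCD hCA hAA
      hθ' hθ'P hφ hr2
    rw [← e1, i1, i2]
  · push Not at h1
    set O := P ⊓ Subgroup.centralizer (K : Set Γ) with hO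
    have hPO : ¬ P ≤ O := fun h => h0 (h.trans inf_le_right)
    have hP0 : P ≠ ⊥ := fun h => h0 (h ▸ bot_le)
    have hPPO : ⁅P, P⁆ ≤ O := le_inf (commutator_lt_of_isPGroup hp hP hP0).le
      (h1 _ (commutator_lt_of_isPGroup hp hP hP0)
        (le_normalizer_commutator Subgroup.le_normalizer Subgroup.le_normalizer)
        (le_normalizer_commutator hAP hAP))
    obtain ⟨B, hCB, ⟨a, hA⟩, hB⟩ := exists_cocyclic hp hP hAP hpA hCA hCP hAA hPO
    set P₀ := P ⊓ Subgroup.centralizer (B : Set Γ) with hP₀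
    have hBA : B ≤ A := hA ▸ le_sup_left
    have hAB : A ≤ Subgroup.normalizer (B : Set Γ) :=
      PG.le_normalizer_of_commutator_le ((Subgroup.commutator_mono hBA le_rfl).trans hAA) hCB
    have hAP₀ : A ≤ Subgroup.normalizer (P₀ : Set Γ) :=
      PG.le_normalizer_inf hAP (PG.le_normalizer_centralizer hAB)
    have hAO : A ≤ Subgroup.normalizer (O : Set Γ) :=
      PG.le_normalizer_inf hAP (PG.le_normalizer_centralizer hAK)
    have hle : P₀ ⊔ O ≤ P := sup_le inf_le_left inf_le_left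
    have heq : P₀ ⊔ O = P := by
      by_contra hne
      have := h1 _ (lt_of_le_of_ne hle hne)
        (PG.le_normalizer_of_commutator_le ((Subgroup.commutator_mono hle le_rfl).trans hPPO)
          le_sup_right) (PG.le_normalizer_sup hAP₀ hAO)
      exact hB (le_inf inf_le_left (le_sup_left.trans this))
    have hC₀ : C = K ⊓ Subgroup.centralizer (P₀ : Set Γ) := by
      rw [hC]
      conv_lhs => rw [← heq]
      rw [centralizer_sup, inf_comm (Subgroup.centralizer _), ← inf_assoc,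
        inf_eq_left.2 (Subgroup.le_centralizer_iff.1 (inf_le_right : O ≤ _))]
    exact ow_cyclic hp (hP.to_le inf_le_left) (inf_le_left.trans hPK) hAK hAP₀ hcop hC₀ hCK hCB
      (Subgroup.le_centralizer_iff.1 inf_le_right) hA hAA hθ (hθP.mono inf_le_left) hφ hr

/-- **Okuyama–Wajima**: `θ` extends to `K A` iff its Glauberman correspondent extends to `A`,
for `A / C_K(P)` abelian. -/
theorem okuyama_wajima {p : ℕ} (hp : p.Prime) {K P A C : Subgroup Γ} (hP : IsPGroup p P)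
    (hPK : P ≤ Subgroup.normalizer (K : Set Γ)) (hAK : A ≤ Subgroup.normalizer (K : Set Γ))
    (hAP : A ≤ Subgroup.normalizer (P : Set Γ)) (hcop : ¬ p ∣ Nat.card ↥(K ⊔ A))
    (hC : C = K ⊓ Subgroup.centralizer (P : Set Γ)) (hCK : C ≤ K) (hCA : C ≤ A)
    (hAA : ⁅A, A⁆ ≤ C) {θ : K → ℂ} {φ : C → ℂ} (hθ : IsIrrCharacter K θ) (hθP : Inv P θ)
    (hφ : IsIrrCharacter C φ) (hr : Rel p (Subgroup.inclusion hCK) θ φ) :
    Ext (K ⊔ A) θ ↔ Ext A φ :=
  ow_aux hp _ rfl hP hPK hAK hAP hcop hC hCK hCA hAA hθ hθP hφ hr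

end Cfsg.Agent.Deg
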