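import Mathlib
import Cfsg.Agent.Deg.McK2
import Cfsg.Agent.Deg.McK3
import Cfsg.Agent.Deg.Ito

/-!
# Characters of `p'`-degree over a character and its Glauberman correspondent
-/

set_option autoImplicit false
set_option linter.unusedSectionVars false

namespace Cfsg.Agent.Deg

open Cfsg Cfsg.Agent.Ch Cfsg.Agent.Ch.Glb Cfsg.Agent.GT
open scoped ComplexConjugate commutatorElement

variable {G : Type*} [Group G]

theorem map_subtype_commutator' (V : Subgroup G) : (commutator V).map V.subtype = ⁅V, V⁆ := by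
  rw [commutator_def, Subgroup.map_commutator, ← MonoidHom.range_eq_map, Subgroup.range_subtype]

theorem mem_commutator_of_mem {V : Subgroup G} {x : V} (h : (x : G) ∈ ⁅V, V⁆) :
    x ∈ commutator V := by
  rw [← map_subtype_commutator'] at h
  obtain ⟨y, hy, hxy⟩ := h
  exact (Subtype.ext hxy : y = x) ▸ hy

theorem commutator_closure_pair_le {R : Subgroup G} [R.Normal] {a c : G} (h : ⁅a, c⁆ ∈ R) :
    ⁅Subgroup.closure {a, c}, Subgroup.closure {a, c}⁆ ≤ R := by
  rw [commutator_le_iff_map_mk', MonoidHom.map_closure, Subgroup.commutator_eq_bot_iff_le_centralizer,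
    ← PG.isMulCommutative_iff_le_centralizer]
  have h1 : QuotientGroup.mk' R a * QuotientGroup.mk' R c =
      QuotientGroup.mk' R c * QuotientGroup.mk' R a := by
    rw [← commutatorElement_eq_one_iff_mul_comm, ← map_commutatorElement]
    exact (QuotientGroup.eq_one_iff _).2 h
  refine Subgroup.isMulCommutative_closure ?_
  rintro _ ⟨x, rfl | rfl, rfl⟩ _ ⟨y, rfl | rfl, rfl⟩
  exacts [rfl, h1, h1.symm, rfl]

variable [Finite G]

theorem frattini_of_not_dvd {p : ℕ} (hp : p.Prime) {S M : Subgroup G} [M.Normal]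
    (hS : IsPGroup p S) (hi : ¬ p ∣ S.index) (h : S ≤ M) :
    Subgroup.normalizer (S : Set G) ⊔ M = ⊤ := by
  have := Fact.mk hp
  exact Sylow.normalizer_sup_eq_top' (hS.toSylow hi) h

theorem not_dvd_iff_commutator_le {p : ℕ} (hp : p.Prime) {P : Subgroup G} [P.Normal]
    (hP : IsPGroup p P) (hi : ¬ p ∣ P.index) {χ : G → ℂ} (hχ : IsIrrCharacter G χ) :
    ¬ p ∣ charDegree χ ↔ ⁅P, P⁆ ≤ charKer χ := by
  have := Fact.mk hp
  have := Fintype.ofFinite G
  have := Fintype.ofFinite P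
  constructor
  · intro h
    rw [← map_subtype_commutator', Subgroup.map_le_iff_le_comap]
    intro x hx
    have h1 : x ∈ charKer fun y : P => χ y := by
      rw [(hχ.isCharacter.restrict P).mem_charKer_iff_forall_constituent]
      intro φ hφ ho
      obtain ⟨k, hk⟩ := exists_charDegree_eq_pow hP hφ
      have h2 := charDegree_dvd_of_under hχ hφ ho
      have h3 : charDegree φ = 1 := by
        by_contra h'
        exact h ((prime_dvd_of_dvd_pow_of_ne_one hp (dvd_of_eq hk) h').trans h2)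
      exact hφ.isCharacter.commutator_le_charKer_of_apply_one
        (hφ.isCharacter.charDegree_eq_one_iff.1 h3) hx
    rwa [hχ.isCharacter.charKer_restrict] at h1
  · intro h hd
    exact hi (hd.trans (hχ.charDegree_dvd_index_of_commutator P fun a ha b hb =>
      hχ.mem_charKer.1 (h (Subgroup.commutator_mem_commutator ha hb))))

/-- The count over a faithful linear character of a central `p'`-subgroup. -/
theorem cnt_central_mul {p : ℕ} (hp : p.Prime) {X : Type*} [Group X] (ρ : G →* X)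
    (hρ : Function.Surjective ρ) {Z : Subgroup G} (hZ : ρ.ker = Z)
    (hZc : Z ≤ Subgroup.center G) (hpZ : ¬ p ∣ Nat.card Z) (μ : Z →* ℂˣ)
    (hμ : Function.Injective μ) {R : Subgroup X} [R.Normal] (hR : IsPGroup p R)
    (hRi : ¬ p ∣ R.index) :
    cnt p Z.subtype (fun z => μ z) * (Nat.card X * Nat.card (⁅R, R⁆ : Subgroup X)) =
      Nat.card {y : X × X // ⁅y.1, y.2⁆ ∈ ⁅R, R⁆ ∧ ∀ z, ⁅y.1, z⁆ ∈ ⁅R, R⁆ →
        Ext ((R ⊔ Subgroup.closure {y.1, z}).comap ρ) fun z : Z => (μ z : ℂ)} := by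
  have := Fact.mk hp
  have : Finite X := Finite.of_surjective ρ hρ
  have hZn : Z.Normal := hZ ▸ inferInstance
  obtain ⟨P⟩ : Nonempty (Sylow p G) := inferInstance
  have hPi : ¬ p ∣ (P : Subgroup G).index := P.not_dvd_index
  have hmap : (P : Subgroup G).map ρ = R := by
    have h1 : ¬ p ∣ ((P : Subgroup G).map ρ).index := fun h =>
      hPi (h.trans (Subgroup.index_map_dvd _ hρ))
    obtain ⟨k, hk⟩ := hR.exists_card_eq
    have h2 : R ≤ (P : Subgroup G).map ρ :=
      le_of_not_dvd_index hp bot_le (k := k) (by rw [Subgroup.relIndex_bot_left, hk]) h1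
    exact (hR.toSylow hRi).is_maximal' (P.isPGroup'.map ρ) h2
  have hcomap : R.comap ρ = (P : Subgroup G) ⊔ Z := by rw [← hmap, Subgroup.comap_map_eq, hZ]
  have hZP : Z ≤ Subgroup.normalizer ((P : Subgroup G) : Set G) :=
    le_normalizer_of_le_centralizer (hZc.trans (Subgroup.center_le_centralizer _))
  have hPn : (P : Subgroup G).Normal := by
    have h1 : ((P : Subgroup G) ⊔ Z).Normal := hcomap ▸ inferInstance
    have h2 := frattini_of_not_dvd hp P.isPGroup' hPi (le_sup_left : (P : Subgroup G) ≤ (P : Subgroup G) ⊔ Z)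
    rw [sup_eq_left.2 (sup_le Subgroup.le_normalizer hZP)] at h2
    exact Subgroup.normalizer_eq_top_iff.1 h2
  have hinf : ∀ z : Z, (z : G) ∈ (P : Subgroup G) → z = 1 := fun z hz => Subtype.ext
    (CopAct.eq_one_of_coprime (coprime_card_of_not_dvd hp P.isPGroup' hpZ) z.2 hz)
  set D : Subgroup G := ⁅(P : Subgroup G), (P : Subgroup G)⁆ with hD
  have hDP : D ≤ P := Subgroup.commutator_le_left _ _
  set W := (⁅R, R⁆ : Subgroup X).comap ρ with hW
  have hWD : W = D ⊔ Z := by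
    rw [hW, ← hmap, ← Subgroup.map_commutator, Subgroup.comap_map_eq, hZ]
  have hZW : Z ≤ W := hWD ▸ le_sup_right
  have hDW : D ≤ W := hWD ▸ le_sup_left
  have hZZ : ∀ B : Subgroup G, ⁅Z, B⁆ = ⊥ := fun B => by
    rw [Subgroup.commutator_eq_bot_iff_le_centralizer]
    exact hZc.trans (Subgroup.center_le_centralizer _)
  have hWW : ⁅W, W⁆ ≤ D := by
    rw [hWD]
    exact commutator_sup_self_le Subgroup.le_normalizer_of_normal (by rw [hZZ]; exact bot_le)
  obtain ⟨ν, hν1, hν2⟩ := exists_lin_ext hZW hWW μ fun z hz => by rw [hinf z (hDP hz), map_one]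
  have hdec : ∀ w : W, ∃ d ∈ D, ∃ z : Z, (w : G) = d * z ∧ ν w = μ z := fun w => by
    obtain ⟨d, hd, z, hz, h⟩ := HT.mem_sup_of_normal.1 (hWD ▸ w.2 : (w : G) ∈ D ⊔ Z)
    refine ⟨d, hd, ⟨z, hz⟩, h.symm, ?_⟩
    have : w = ⟨d, hDW hd⟩ * ⟨z, hZW hz⟩ := Subtype.ext h.symm
    rw [this, map_mul, hν2 ⟨d, _⟩ hd, one_mul, hν1 ⟨z, hz⟩]
  have hWn : W.Normal := inferInstance
  have hinv : ∀ (g : G) (w : W), ν ⟨g * w * g⁻¹, hWn.conj_mem w w.2 g⟩ = ν w := fun g w => by
    obtain ⟨d, hd, z, h1, h2⟩ := hdec w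
    have hd' : g * d * g⁻¹ ∈ D := Subgroup.Normal.conj_mem inferInstance d hd g
    have : (⟨g * w * g⁻¹, hWn.conj_mem w w.2 g⟩ : W) = ⟨g * d * g⁻¹, hDW hd'⟩ * ⟨z, hZW z.2⟩ := by
      apply Subtype.ext
      change g * w * g⁻¹ = g * d * g⁻¹ * z
      rw [h1, mul_assoc (g * d), Subgroup.mem_center_iff.1 (hZc z.2) g⁻¹]
      group
    rw [this, map_mul, hν2 _ hd', one_mul, hν1, h2]
  have hμinv : ∀ (g : G) (w : Z), μ ⟨g * w * g⁻¹, hZn.conj_mem w w.2 g⟩ = μ w := fun g w => by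
    congr 1
    apply Subtype.ext
    change g * w * g⁻¹ = w
    rw [Subgroup.mem_center_iff.1 (hZc w.2) g, mul_inv_cancel_right]
  have h1 : cnt p Z.subtype (fun z => μ z) =
      Nat.card {χ : IrrCharacter G // Ov W.subtype χ.1 fun w => ν w} := by
    refine Nat.card_congr (Equiv.subtypeEquivRight fun χ => ?_)
    rw [ov_lin_iff μ hμinv χ.2, ov_lin_iff ν hinv χ.2,
      not_dvd_iff_commutator_le hp P.isPGroup' hPi χ.2]
    constructor
    · rintro ⟨h1, h2⟩ w
      obtain ⟨d, hd, z, h3, h4⟩ := hdec w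
      rw [h3, h4, χ.2.isCharacter.apply_mul_of_eq (χ.2.mem_charKer.1 (h1 hd)), h2]
    · intro h
      refine ⟨fun d hd => χ.2.mem_charKer.2 ?_, fun z => ?_⟩
      · have := h ⟨d, hDW hd⟩
        rwa [hν2 ⟨d, _⟩ hd, Units.val_one, one_mul] at this
      · rw [← hν1]; exact h ⟨z, hZW z.2⟩
  have h2 : ∀ a c (h : ⁅a, c⁆ ∈ W), ν ⟨_, h⟩ = 1 ↔
      Ext ((R ⊔ Subgroup.closure {ρ a, ρ c}).comap ρ) fun z : Z => (μ z : ℂ) := by
    intro a c h
    have hV : (R ⊔ Subgroup.closure {ρ a, ρ c}).comap ρ =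
        (P : Subgroup G) ⊔ (Z ⊔ Subgroup.closure {a, c}) := by
      rw [← Subgroup.comap_sup_eq _ _ _ hρ, hcomap, ← Set.image_pair, ← MonoidHom.map_closure,
        Subgroup.comap_map_eq, hZ, sup_comm (Subgroup.closure _) Z, sup_assoc, ← sup_assoc Z,
        sup_idem]
    rw [hV]
    set V := (P : Subgroup G) ⊔ (Z ⊔ Subgroup.closure {a, c}) with hV'
    have hZV : Z ≤ V := le_sup_left.trans le_sup_right
    obtain ⟨d, hd, z, h3, h4⟩ := hdec ⟨_, h⟩
    rw [h4]
    constructor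
    · intro h5
      have h6 : z = 1 := hμ (h5.trans (map_one μ).symm)
      have h7 : ⁅a, c⁆ ∈ (P : Subgroup G) := by
        change ⁅a, c⁆ = _ at h3
        rw [h3, h6, OneMemClass.coe_one, mul_one]; exact hDP hd
      have h8 : ⁅V, V⁆ ≤ P := by
        refine commutator_sup_self_le Subgroup.le_normalizer_of_normal ?_
        refine commutator_sup_le Subgroup.le_normalizer_of_normal (by rw [hZZ]; exact bot_le) ?_
        rw [Subgroup.commutator_comm]
        exact commutator_sup_le Subgroup.le_normalizer_of_normal (by rw [hZZ]; exact bot_le)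
          (commutator_closure_pair_le h7)
      obtain ⟨F, hF, -⟩ := exists_lin_ext hZV h8 μ fun z hz => by rw [hinf z hz, map_one]
      exact ⟨fun v => F v, isCharacter_monoidHom_units F, fun l _ => congrArg Units.val (hF l)⟩
    · rintro ⟨η, hη, h5⟩
      have h6 : η 1 = 1 := by
        have := h5 1 (one_mem _)
        simp only [map_one, Units.val_one] at this
        exact this
      obtain ⟨F, rfl⟩ := hη.exists_monoidHom_of_apply_one h6
      have hk : ∀ x : V, (x : G) ∈ ⁅V, V⁆ → F x = 1 := fun x hx =>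
        Abelianization.commutator_subset_ker F (mem_commutator_of_mem hx)
      have ha : a ∈ V := Subgroup.mem_sup_right (Subgroup.mem_sup_right
        (Subgroup.subset_closure (by simp)))
      have hc : c ∈ V := Subgroup.mem_sup_right (Subgroup.mem_sup_right
        (Subgroup.subset_closure (by simp)))
      have hz : (z : G) ∈ ⁅V, V⁆ := by
        have e : (z : G) = d⁻¹ * ⁅a, c⁆ := by
          change ⁅a, c⁆ = _ at h3
          rw [h3]; group
        rw [e]
        exact mul_mem (inv_mem (Subgroup.commutator_mono le_sup_left le_sup_left hd))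
          (Subgroup.commutator_mem_commutator ha hc)
      have h7 : (F ⟨z, hZV z.2⟩ : ℂ) = μ z := h5 z (hZV z.2)
      rw [hk ⟨z, hZV z.2⟩ hz] at h7
      exact Units.ext h7.symm
  have h3 := card_ov_lin ν hinv
  have h4 := card_pairs_preimage ρ hρ fun x y => ⁅x, y⁆ ∈ ⁅R, R⁆ ∧ ∀ z, ⁅x, z⁆ ∈ ⁅R, R⁆ →
    Ext ((R ⊔ Subgroup.closure {x, z}).comap ρ) fun z : Z => (μ z : ℂ)
  have hmem : ∀ a c, ⁅a, c⁆ ∈ W ↔ ⁅ρ a, ρ c⁆ ∈ ⁅R, R⁆ := fun a c => by
    rw [← map_commutatorElement]; rfl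
  have h5 : Nat.card {x : G × G // ⁅x.1, x.2⁆ ∈ W ∧ ∀ c (h : ⁅x.1, c⁆ ∈ W), ν ⟨_, h⟩ = 1} =
      Nat.card {x : G × G // ⁅ρ x.1, ρ x.2⁆ ∈ ⁅R, R⁆ ∧ ∀ z, ⁅ρ x.1, z⁆ ∈ ⁅R, R⁆ →
        Ext ((R ⊔ Subgroup.closure {ρ x.1, z}).comap ρ) fun z : Z => (μ z : ℂ)} := by
    refine Nat.card_congr (Equiv.subtypeEquivRight fun x => and_congr (hmem _ _) ⟨?_, ?_⟩)
    · intro h z hz
      obtain ⟨c, rfl⟩ := hρ z
      exact (h2 _ _ ((hmem _ _).2 hz)).1 (h _ _)
    · intro h c hc
      exact (h2 _ _ hc).2 (h _ ((hmem _ _).1 hc))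
  have h6 := card_preimage_of_surjective ρ hρ fun _ => True
  have h7 := card_preimage_of_surjective ρ hρ fun x => x ∈ ⁅R, R⁆
  rw [Nat.card_congr (Equiv.subtypeUnivEquiv fun _ => trivial),
    Nat.card_congr (Equiv.subtypeUnivEquiv fun _ => trivial)] at h6
  change Nat.card W = _ at h7
  rw [← h1, h5, h4, h6, h7] at h3
  refine Nat.eq_of_mul_eq_mul_left (pow_pos (Nat.card_pos (α := ρ.ker)) 2) ?_
  rw [← h3]
  ring

theorem cnt_mul_eq {G : Type*} [Group G] [Finite G] {p : ℕ} (hp : p.Prime) {X : Type*} [Group X]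
    (π : G →* X) (hπ : Function.Surjective π) {K : Subgroup G} [hK : K.Normal] (hker : π.ker = K)
    (hpK : ¬ p ∣ Nat.card K) {θ : K → ℂ} (hθ : IsIrrCharacter K θ)
    (hinv : ∀ (g : G) (n : K), θ ⟨g * n * g⁻¹, hK.conj_mem n n.2 g⟩ = θ n) {R : Subgroup X}
    [R.Normal] (hR : IsPGroup p R) (hRi : ¬ p ∣ R.index) :
    cnt p K.subtype θ * (Nat.card X * Nat.card (⁅R, R⁆ : Subgroup X)) =
      Nat.card {y : X × X // ⁅y.1, y.2⁆ ∈ ⁅R, R⁆ ∧ ∀ z, ⁅y.1, z⁆ ∈ ⁅R, R⁆ →
        Ext ((R ⊔ Subgroup.closure {y.1, z}).comap π) θ} := by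
  obtain ⟨T, hT⟩ := exists_tripleCover_pow hθ hinv
  have hm : ¬ p ∣ charDegree θ * detOrder θ := fun h =>
    hpK (prime_dvd_card_of_dvd_det hθ hp (mul_comm (charDegree θ) _ ▸ h))
  have hd : ∀ d, p ∣ d * charDegree θ ↔ p ∣ d := fun d => by
    rw [hp.dvd_mul, or_iff_left fun h => hm (dvd_mul_of_dvd_left h _)]
  rw [← cnt_top, cnt_cover T hθ hd le_top, cnt_eq_of_eq p T.up_top _ le_top, cnt_top,
    cnt_central_mul hp (coverProj T π hker) (coverProj_surjective T hker hπ)
      (ker_coverProj T π hker) T.Z_le_center (not_dvd_card_Z hp T hm hT) T.mu T.mu_injective hR hRi]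
  refine Nat.card_congr (Equiv.subtypeEquivRight fun y => and_congr Iff.rfl
    (forall_congr' fun z => imp_congr Iff.rfl ?_))
  rw [comap_coverProj, ← ext_cover T hθ (hker ▸ Subgroup.ker_le_comap _ _)]

theorem inf_normalizer_eq_of_coprime {K S : Subgroup G} (hSK : S ≤ Subgroup.normalizer (K : Set G))
    (hc : (Nat.card K).Coprime (Nat.card S)) :
    K ⊓ Subgroup.normalizer (S : Set G) = K ⊓ Subgroup.centralizer (S : Set G) := by
  refine le_antisymm (fun k hk => ⟨hk.1, fun s hs => ?_⟩)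
    (inf_le_inf_left _ (PG.centralizer_le_normalizer' S))
  rw [← commutatorElement_eq_one_iff_mul_comm]
  refine CopAct.eq_one_of_coprime hc ?_ ?_
  · rw [commutatorElement_def]
    exact mul_mem (CopAct.conj_mem hSK hs hk.1) (inv_mem hk.1)
  · have : ⁅s, k⁆ = s * (k * s⁻¹ * k⁻¹) := by simp only [commutatorElement_def]; group
    rw [this]
    exact mul_mem hs (conj_mem_of_mem_normalizer hk.2 (inv_mem hs))

theorem ext_iff_ext_inf {p : ℕ} (hp : p.Prime) {K S N C U : Subgroup G} [K.Normal]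
    (hpK : ¬ p ∣ Nat.card K) (hS : IsPGroup p S) (hSi : ¬ p ∣ S.index)
    (hN : N = Subgroup.normalizer (S : Set G)) (hKN : K ⊔ N = ⊤)
    (hC : C = K ⊓ Subgroup.centralizer (S : Set G)) (hCK : C ≤ K) (hU : K ⊔ S ≤ U)
    (hUU : ⁅U, U⁆ ≤ K ⊔ S) {θ : K → ℂ} {φ : C → ℂ} (hθ : IsIrrCharacter K θ) (hθi : Inv ⊤ θ)
    (hφ : IsIrrCharacter C φ) (hφi : Inv N φ) (hr : Rel p (Subgroup.inclusion hCK) θ φ) :
    Ext U θ ↔ Ext (U ⊓ N) φ := by
  have hcKS := coprime_card_of_not_dvd hp hS hpK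
  have hCN : C = K ⊓ N := by
    rw [hC, hN, inf_normalizer_eq_of_coprime Subgroup.le_normalizer_of_normal hcKS]
  have hSN : S ≤ N := hN ▸ Subgroup.le_normalizer
  have hNC : N ≤ Subgroup.normalizer (C : Set G) := hCN ▸
    PG.le_normalizer_inf Subgroup.le_normalizer_of_normal Subgroup.le_normalizer
  set L := U ⊓ N with hL
  have hSL : S ≤ L := le_inf (le_sup_right.trans hU) hSN
  have hLS : L ≤ Subgroup.normalizer (S : Set G) := hN ▸ inf_le_right
  have hi : ¬ p ∣ S.relIndex L := fun h => hSi (h.trans (Subgroup.relIndex_dvd_index_of_le hSL))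
  obtain ⟨A₀, hA₀L, hSA₀, -, hA₀⟩ := exists_complement_of_coprime_relIndex hSL hLS
    (coprime_card_of_not_dvd hp hS hi).symm
  have hCL : C ≤ L := le_inf (hCK.trans (le_sup_left.trans hU)) (hCN ▸ inf_le_right)
  set A := C ⊔ A₀ with hA
  have hAL : A ≤ L := sup_le hCL hA₀L
  have hCA : C ≤ A := le_sup_left
  have hpC : ¬ p ∣ Nat.card C := fun h => hpK (h.trans (Subgroup.card_dvd_of_le hCK))
  have hpA : ¬ p ∣ Nat.card A := fun h => by
    rcases hp.dvd_mul.1 (h.trans (HT.card_sup_dvd (hA₀L.trans (inf_le_right.trans hNC)))) with h | h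
    exacts [hpC h, hi (hA₀ ▸ h)]
  have hpKA : ¬ p ∣ Nat.card ↥(K ⊔ A) := fun h => by
    rcases hp.dvd_mul.1 (h.trans (HT.card_sup_dvd Subgroup.le_normalizer_of_normal)) with h | h
    exacts [hpK h, hpA h]
  have hAS : A ⊔ S = L := by
    refine le_antisymm (sup_le hAL hSL) ?_
    rw [← hSA₀]
    exact sup_le le_sup_right (le_sup_right.trans le_sup_left)
  have hAA : ⁅A, A⁆ ≤ C := by
    have h1 : ⁅A, A⁆ ≤ N ⊓ (S ⊔ K) := le_inf
      ((Subgroup.commutator_le_self A).trans (hAL.trans inf_le_right))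
      ((Subgroup.commutator_mono (hAL.trans inf_le_left) (hAL.trans inf_le_left)).trans
        (hUU.trans (sup_comm K S).le))
    rw [inf_sup_eq_of_normal_right hSN, inf_comm, ← hCN, sup_comm] at h1
    have h2 : ⁅A, A⁆ ≤ A ⊓ (C ⊔ S) := le_inf (Subgroup.commutator_le_self A) h1
    rwa [inf_sup_eq_of_le_normalizer hCA (hSN.trans hNC),
      CopAct.inf_eq_bot_of_coprime (coprime_card_of_not_dvd hp hS hpA), sup_bot_eq] at h2
  have hKAS : K ⊔ A ⊔ S = U := by
    rw [sup_assoc, hAS, hL, ← inf_sup_eq_of_normal_left (le_sup_left.trans hU), hKN, inf_top_eq]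
  have hAS' : A ≤ Subgroup.normalizer (S : Set G) := hAL.trans hLS
  have e1 : Ext U θ ↔ Ext (K ⊔ A) θ := by
    refine ⟨fun h => h.mono (hKAS ▸ le_sup_left), fun h => ?_⟩
    refine h.of_relIndex_dvd hp le_sup_left (hKAS ▸ le_sup_left) Subgroup.le_normalizer_of_normal
      hpK hS ?_ hθ (hθi.mono le_top)
    rw [← hKAS]
    exact relIndex_sup_sup_dvd Subgroup.le_normalizer_of_normal Subgroup.le_normalizer_of_normal
      hAS'
  have e2 : Ext L φ ↔ Ext A φ := by
    refine ⟨fun h => h.mono hAL, fun h => ?_⟩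
    refine h.of_relIndex_dvd hp hCA hAL (inf_le_right.trans hNC) hpC hS ?_ hφ
      (hφi.mono inf_le_right)
    have := relIndex_sup_sup_dvd (hSN.trans hNC) (hAL.trans (inf_le_right.trans hNC)) hAS'
    rwa [sup_eq_right.2 hCA, hAS] at this
  rw [e1, e2]
  exact okuyama_wajima hp hS Subgroup.le_normalizer_of_normal Subgroup.le_normalizer_of_normal hAS'
    hpKA hC hCK hCA hAA hθ (hθi.mono le_top) hφ hr

theorem cnt_glauberman_of_inv {p : ℕ} (hp : p.Prime) {K S N C : Subgroup G} [hK : K.Normal]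
    (hpK : ¬ p ∣ Nat.card K) (hS : IsPGroup p S) (hSi : ¬ p ∣ S.index) [(K ⊔ S).Normal]
    (hN : N = Subgroup.normalizer (S : Set G)) (hC : C = K ⊓ Subgroup.centralizer (S : Set G))
    (hCK : C ≤ K) (hCN : C ≤ N) {θ : K → ℂ} {φ : C → ℂ} (hθ : IsIrrCharacter K θ) (hθi : Inv ⊤ θ)
    (hφ : IsIrrCharacter C φ) (hr : Rel p (Subgroup.inclusion hCK) θ φ) :
    cnt p K.subtype θ = cnt p (Subgroup.inclusion hCN) φ := by
  have hcKS := coprime_card_of_not_dvd hp hS hpK
  have hSN : S ≤ N := hN ▸ Subgroup.le_normalizer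
  have hKN : K ⊔ N = ⊤ := by
    have := frattini_of_not_dvd hp hS hSi (le_sup_right : S ≤ K ⊔ S)
    rwa [← hN, sup_comm K S, ← sup_assoc, sup_eq_left.2 hSN, sup_comm] at this
  have hCN' : C = K ⊓ N := by
    rw [hC, hN, inf_normalizer_eq_of_coprime Subgroup.le_normalizer_of_normal hcKS]
  have hNC : N ≤ Subgroup.normalizer (C : Set G) := hCN' ▸
    PG.le_normalizer_inf Subgroup.le_normalizer_of_normal Subgroup.le_normalizer
  have HK := corr_pGroup hp hS Subgroup.le_normalizer_of_normal hcKS hC hCK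
  have hφi : Inv N φ := (HK.inv_iff hp hN.le Subgroup.le_normalizer_of_normal hNC hθ hφ
    (hθi.mono le_top) hr).1 (hθi.mono le_top)
  let π := QuotientGroup.mk' K
  have hπ : Function.Surjective π := QuotientGroup.mk'_surjective K
  let π' := π.comp N.subtype
  have hπ' : Function.Surjective π' := by
    rw [← MonoidHom.range_eq_top, MonoidHom.range_comp, Subgroup.range_subtype,
      map_mk'_eq_top_iff, sup_comm, hKN]
  have : (C.subgroupOf N).Normal := (Subgroup.normal_subgroupOf_iff_le_normalizer hCN).2 hNC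
  have hker : π'.ker = C.subgroupOf N := by
    rw [← MonoidHom.comap_ker, QuotientGroup.ker_mk', hCN', Subgroup.inf_subgroupOf_right]; rfl
  set R := S.map π with hR
  have hRn : R.Normal := by
    rw [hR, ← map_mk'_sup, sup_comm]; exact normal_map_mk' _
  have hRi : ¬ p ∣ R.index := fun h => hSi (h.trans (Subgroup.index_map_dvd _ hπ))
  have hpC : ¬ p ∣ Nat.card (C.subgroupOf N) := fun h =>
    hpK ((card_subgroupOf_eq hCN ▸ h).trans (Subgroup.card_dvd_of_le hCK))
  have h1 := cnt_mul_eq hp π hπ (QuotientGroup.ker_mk' K) hpK hθ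
    (fun g n => hθi g trivial _ _ rfl) (hS.map π) hRi
  have hφ' : IsIrrCharacter (C.subgroupOf N) (subOf N φ) := isIrrCharacter_subgroupOf hCN hφ
  have h2 := cnt_mul_eq hp π' hπ' hker hpC hφ' (inv_subOf hφi) (hS.map π) hRi
  rw [cnt_subOf p hCN] at h2
  refine Nat.eq_of_mul_eq_mul_right (Nat.mul_pos Nat.card_pos Nat.card_pos) (h1.trans
    (Eq.trans ?_ h2.symm))
  refine Nat.card_congr (Equiv.subtypeEquivRight fun y => and_congr Iff.rfl
    (forall_congr' fun z => imp_congr_right fun hz => ?_))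
  set U := R ⊔ Subgroup.closure {y.1, z} with hU
  have hUU : ⁅U, U⁆ ≤ R := commutator_sup_self_le Subgroup.le_normalizer_of_normal
    (commutator_closure_pair_le (Subgroup.commutator_le_self R hz))
  have hRc : R.comap π = K ⊔ S := by rw [hR, comap_map_mk', sup_comm]
  rw [ext_subOf hCN, ← Subgroup.comap_comap, Subgroup.comap_subtype,
    Subgroup.subgroupOf_map_subtype]
  refine ext_iff_ext_inf hp hpK hS hSi hN hKN hC hCK (hRc ▸ Subgroup.comap_mono le_sup_left) ?_
    hθ hθi hφ hφi hr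
  rw [← hRc, ← Subgroup.map_le_iff_le_comap, Subgroup.map_commutator]
  exact (Subgroup.commutator_mono (Subgroup.map_comap_le _ _) (Subgroup.map_comap_le _ _)).trans hUU

/-- The numbers of `p'`-degree characters over `θ` and over its Glauberman correspondent agree. -/
theorem cnt_glauberman {p : ℕ} (hp : p.Prime) {K S N C : Subgroup G} [hK : K.Normal]
    (hpK : ¬ p ∣ Nat.card K) (hS : IsPGroup p S) (hSi : ¬ p ∣ S.index) [(K ⊔ S).Normal]
    (hN : N = Subgroup.normalizer (S : Set G)) (hC : C = K ⊓ Subgroup.centralizer (S : Set G))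
    (hCK : C ≤ K) (hCN : C ≤ N) {θ : K → ℂ} {φ : C → ℂ} (hθ : IsIrrCharacter K θ) (hθS : Inv S θ)
    (hφ : IsIrrCharacter C φ) (hr : Rel p (Subgroup.inclusion hCK) θ φ) :
    cnt p K.subtype θ = cnt p (Subgroup.inclusion hCN) φ := by
  have hcKS := coprime_card_of_not_dvd hp hS hpK
  have hSN : S ≤ N := hN ▸ Subgroup.le_normalizer
  have hCN' : C = K ⊓ N := by
    rw [hC, hN, inf_normalizer_eq_of_coprime Subgroup.le_normalizer_of_normal hcKS]
  have hNC : N ≤ Subgroup.normalizer (C : Set G) := hCN' ▸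
    PG.le_normalizer_inf Subgroup.le_normalizer_of_normal Subgroup.le_normalizer
  have HK := corr_pGroup hp hS Subgroup.le_normalizer_of_normal hcKS hC hCK
  set T := invSub θ with hT
  have hKT : K ≤ T := le_invSub_self hθ.isClassFunction
  have hST : S ≤ T := (inv_iff_le Subgroup.le_normalizer_of_normal).1 hθS
  have hTi : ¬ p ∣ T.index := fun h => hSi (h.trans (Subgroup.index_dvd_of_le hST))
  have hNT : N ⊓ T = N ⊓ invSub φ := by
    ext g
    refine and_congr_right fun hg => ?_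
    have hz : Subgroup.zpowers g ≤ N := Subgroup.zpowers_le.2 hg
    have := HK.inv_iff hp (hz.trans hN.le) Subgroup.le_normalizer_of_normal (hz.trans hNC) hθ hφ
      hθS hr
    rwa [inv_iff_le Subgroup.le_normalizer_of_normal, inv_iff_le (hz.trans hNC),
      Subgroup.zpowers_le, Subgroup.zpowers_le] at this
  have hCNT : C ≤ N ⊓ T := le_inf hCN (hCK.trans hKT)
  have hi : ¬ p ∣ (N ⊓ T).relIndex N := fun h => hSi
    ((h.trans (Subgroup.relIndex_dvd_of_le_left N (le_inf hSN hST))).trans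
      (Subgroup.relIndex_dvd_index_of_le hSN))
  rw [cnt_inertia hp hθ (inertia_eq_invSub θ).symm hKT hTi,
    cnt_inertia_rel hp hCN hNC hφ hNT hCNT hi, ← cnt_subOf p hKT]
  have h1 : C.subgroupOf T ≤ (N ⊓ T).subgroupOf T := fun x hx => hCNT hx
  rw [← cnt_subOf_subOf p hCNT inf_le_right h1]
  have : (K.subgroupOf T ⊔ S.subgroupOf T).Normal := by
    rw [← Subgroup.subgroupOf_sup hKT hST]; infer_instance
  refine cnt_glauberman_of_inv hp (S := S.subgroupOf T) (card_subgroupOf_eq hKT ▸ hpK)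
    (hS.of_equiv (Subgroup.subgroupOfEquivOfLe hST).symm)
    (fun h => hSi (h.trans (Subgroup.relIndex_dvd_index_of_le hST))) ?_ ?_
    (fun x hx => hCK hx) h1 (isIrrCharacter_subgroupOf hKT hθ) ?_
    (isIrrCharacter_subgroupOf (hCK.trans hKT) hφ) ?_
  · rw [Subgroup.inf_subgroupOf_right, hN, Subgroup.subgroupOf_normalizer_eq hST]
  · rw [centralizer_subgroupOf_of_le hST, hC]; rfl
  · intro s _ a b hab
    exact s.2.2 _ _ (congrArg Subtype.val hab)
  · exact hr.congr (Subgroup.subgroupOfEquivOfLe hKT)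
      (Subgroup.subgroupOfEquivOfLe (hCK.trans hKT)).toMonoidHom fun _ => rfl

end Cfsg.Agent.Deg
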