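import Mathlib
import Cfsg.Agent.Deg.McK4
import Cfsg.Agent.Ch.RelGlaub2
import Cfsg.Prelude.Def_BlockLocal

/-! Decomposition of the relative `p'`-degree count along a normal subgroup. -/

set_option autoImplicit false

namespace Cfsg.Agent.Deg
open Cfsg Cfsg.Agent.Ch Cfsg.Agent.Ch.Glb Cfsg.Agent.GT
open scoped ComplexConjugate commutatorElement Pointwise

variable {G : Type*} [Group G] [Finite G]

omit [Finite G] in
theorem ov_incl {L K : Subgroup G} [Fintype L] {h : L ≤ K} {χ : K → ℂ} {ν : L → ℂ} :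
    Ov (Subgroup.inclusion h) χ ν ↔ classInner (fun n : L => χ ⟨n, h n.2⟩) ν ≠ 0 := ov_iff

theorem ov_trans {L C K : Subgroup G} (hLC : L ≤ C) (hCK : C ≤ K) {θ : K → ℂ} {φ : C → ℂ}
    {ν : L → ℂ} (hθ : IsCharacter K θ) (hφ : IsIrrCharacter C φ) (hν : IsCharacter L ν)
    (h1 : Ov (Subgroup.inclusion hCK) θ φ) (h2 : Ov (Subgroup.inclusion hLC) φ ν) :
    Ov (Subgroup.inclusion (hLC.trans hCK)) θ ν := by
  have := Fintype.ofFinite C
  have := Fintype.ofFinite L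
  rw [ov_iff] at h1 h2 ⊢
  exact classInner_comp_ne_zero_of_constituent (Subgroup.inclusion hLC)
    (isCharacter_res_of_le hCK hθ) hφ h1 hν h2

theorem ov_down {L C K : Subgroup G} (hLC : L ≤ C) (hCK : C ≤ K)
    (hK : K ≤ Subgroup.normalizer (L : Set G)) {θ : K → ℂ} {φ : C → ℂ}
    {ν : L → ℂ} (hθ : IsIrrCharacter K θ) (hφ : IsIrrCharacter C φ) (hν : IsIrrCharacter L ν)
    (hinv : Inv K ν) (h1 : Ov (Subgroup.inclusion hCK) θ φ)
    (h2 : Ov (Subgroup.inclusion (hLC.trans hCK)) θ ν) : Ov (Subgroup.inclusion hLC) φ ν := by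
  have := Fintype.ofFinite L
  obtain ⟨ν', hν', h3⟩ := exists_irr_under_of_le hLC hφ
  have h3' : Ov (Subgroup.inclusion hLC) φ ν' := ov_incl.2 h3
  have h4 := ov_trans hLC hCK hθ.isCharacter hφ hν'.isCharacter h1 h3'
  obtain ⟨g, hg, h5⟩ := exists_cj_of_under (hLC.trans hCK) hK hθ hν hν' (ov_incl.1 h2) (ov_incl.1 h4)
  rwa [h5, hinv.cj_eq hg] at h3'

theorem ov_cj {M U : Subgroup G} (hMU : M ≤ U) (hU : U ≤ Subgroup.normalizer (M : Set G))
    {χ : U → ℂ} (hχ : IsClassFunction U χ) {θ : M → ℂ} {g : G} (hg : g ∈ U)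
    (h : Ov (Subgroup.inclusion hMU) χ θ) :
    Ov (Subgroup.inclusion hMU) χ fun m => θ (cj (hU hg) m) := by
  have := Fintype.ofFinite M
  rw [ov_incl] at h ⊢
  have h1 := classInner_res_cj hMU (Subgroup.le_normalizer hg) (hU hg) χ θ
  have h2 : (fun u => χ (cj (Subgroup.le_normalizer hg) u)) = χ := (inv_self hχ).cj_eq hg _
  have h3 : (fun n : M => χ (cj (Subgroup.le_normalizer hg) ⟨n, hMU n.2⟩)) =
      fun n : M => χ ⟨n, hMU n.2⟩ := funext fun n => congrFun h2 _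
  rw [h3] at h1
  exact fun h0 => h (h1.symm.trans h0)

theorem exists_under_not_dvd {p : ℕ} {M U : Subgroup G} (hMU : M ≤ U) {χ : U → ℂ}
    (hχ : IsIrrCharacter U χ) (hd : ¬ p ∣ charDegree χ) :
    ∃ θ : M → ℂ, IsIrrCharacter M θ ∧ ¬ p ∣ charDegree θ ∧ Ov (Subgroup.inclusion hMU) χ θ := by
  have := Fintype.ofFinite M
  have h := RG.charDegree_eq_sum_mlt hMU ⟨χ, hχ⟩
  by_contra hc
  push Not at hc
  refine hd (h ▸ Finset.dvd_sum fun ξ _ => ?_)
  by_cases h1 : p ∣ charDegree (ξ : M → ℂ)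
  · exact dvd_mul_of_dvd_right h1 _
  · have h2 := hc _ ξ.2 h1
    rw [ov_incl, not_not] at h2
    have h3 := RG.mlt_spec hMU ⟨χ, hχ⟩ ξ
    have : RG.mlt hMU ⟨χ, hχ⟩ ξ = 0 := by exact_mod_cast h3.symm.trans h2
    simp [this]

theorem under_inv {p : ℕ} (hp : p.Prime) {M U S : Subgroup G} (hMU : M ≤ U)
    (hU : U ≤ Subgroup.normalizer (M : Set G)) (hS : IsPGroup p S) (hSU : S ≤ U) {χ : U → ℂ}
    (hχ : IsIrrCharacter U χ) (hd : ¬ p ∣ charDegree χ) :
    ∃ θ : M → ℂ, IsIrrCharacter M θ ∧ Inv S θ ∧ Ov (Subgroup.inclusion hMU) χ θ := by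
  have := Fintype.ofFinite M
  obtain ⟨θ, h1, h2⟩ := RG.exists_inv_not_dvd hp hS (hSU.trans hU)
    (fun ξ => RG.mlt hMU ⟨χ, hχ⟩ ξ * charDegree (ξ : M → ℂ)) (fun x hx ξ => by
      have h1 := RG.mlt_cjI hMU (Subgroup.le_normalizer (hSU hx)) (hU (hSU hx)) ⟨χ, hχ⟩ ξ
      rw [RG.cjI_eq_of_inv (inv_self hχ.isCharacter.isClassFunction) (hSU hx)] at h1
      have h2 : charDegree ((RG.cjI (hU (hSU hx)) ξ : IrrCharacter M) : M → ℂ) =
          charDegree (ξ : M → ℂ) := by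
        unfold charDegree
        simp only [RG.cjI, map_one]
      simp only [h1, h2])
    (by rw [← RG.charDegree_eq_sum_mlt hMU ⟨χ, hχ⟩]; exact hd)
  refine ⟨θ, θ.2, h1, ov_incl.2 fun h => h2 ?_⟩
  have h3 := RG.mlt_spec hMU ⟨χ, hχ⟩ θ
  have : RG.mlt hMU ⟨χ, hχ⟩ θ = 0 := by exact_mod_cast h3.symm.trans h
  simp [this]

omit [Finite G] in
theorem isConjCharOf_iff {M : Subgroup G} {g : G} (hg : g ∈ Subgroup.normalizer (M : Set G))
    {θ θ' : M → ℂ} : IsConjCharOf M g θ θ' ↔ θ = fun m => θ' (cj hg m) :=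
  ⟨fun h => funext fun m => (h m _ (coe_cj hg m)).symm, fun h k k' hk => by
    rw [h]; exact congrArg θ' (Subtype.ext (hk.trans (coe_cj hg k).symm))⟩

omit [Finite G] in
theorem isConjCharOf_mul {M : Subgroup G} {g h : G} (hg : g ∈ Subgroup.normalizer (M : Set G))
    {θ θ' θ'' : M → ℂ} (h1 : IsConjCharOf M g θ θ') (h2 : IsConjCharOf M h θ' θ'') :
    IsConjCharOf M (h * g) θ θ'' := fun k k' hk =>
  (h2 (cj hg k) k' (by rw [hk, coe_cj]; group)).trans (h1 k _ (coe_cj hg k))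

omit [Finite G] in
theorem isConjCharOf_inv {M : Subgroup G} {g : G} {θ θ' : M → ℂ} (h : IsConjCharOf M g θ θ') :
    IsConjCharOf M g⁻¹ θ' θ := fun k k' hk => (h k' k (by rw [hk]; group)).symm

theorem mem_normalizer_of_conj_le {S : Subgroup G} {g : G} (h : MulAut.conj g • S ≤ S) :
    g ∈ Subgroup.normalizer (S : Set G) :=
  Subgroup.mem_normalizer_fintype fun n hn => h (Subgroup.smul_mem_pointwise_smul n _ S hn)

theorem conj_of_under {p : ℕ} (hp : p.Prime) {M U S : Subgroup G} (hMU : M ≤ U)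
    (hU : U ≤ Subgroup.normalizer (M : Set G)) (hS : IsPGroup p S) (hSU : S ≤ U)
    (hSi : ¬ p ∣ S.relIndex U) {χ : U → ℂ} (hχ : IsIrrCharacter U χ) {θ θ' : M → ℂ}
    (hθ : IsIrrCharacter M θ) (hθ' : IsIrrCharacter M θ') (hi : Inv S θ) (hi' : Inv S θ')
    (h : Ov (Subgroup.inclusion hMU) χ θ) (h' : Ov (Subgroup.inclusion hMU) χ θ') :
    ∃ g ∈ U ⊓ Subgroup.normalizer (S : Set G), IsConjCharOf M g θ θ' := by
  have := Fintype.ofFinite M
  have : Fact p.Prime := ⟨hp⟩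
  obtain ⟨g, hg, h1⟩ := exists_cj_of_under hMU hU hχ hθ' hθ (ov_incl.1 h') (ov_incl.1 h)
  have h2 : IsConjCharOf M g θ θ' := (isConjCharOf_iff (hU hg)).2 h1
  have h3 : S ≤ U ⊓ invSub θ' := le_inf hSU ((inv_iff_le (hSU.trans hU)).1 hi')
  have h4 : MulAut.conj g • S ≤ U ⊓ invSub θ' := by
    rintro _ ⟨s, hs, rfl⟩
    have hm : g * s * g⁻¹ ∈ U := mul_mem (mul_mem hg (hSU hs)) (inv_mem hg)
    refine ⟨hm, hU hm, ?_⟩
    have := isConjCharOf_mul (hU (mul_mem (hSU hs) (inv_mem hg)))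
      (isConjCharOf_mul (hU (inv_mem hg)) (isConjCharOf_inv h2) (hi s hs)) h2
    rw [← mul_assoc] at this
    exact this
  obtain ⟨k, hk, h5⟩ := HT.exists_conj_le_of_isPGroup h4 (hS.map _) hS
    (fun hd => hSi (hd.trans ⟨_, (Subgroup.relIndex_mul_relIndex S _ U h3 inf_le_left).symm⟩))
  refine ⟨k * g, ⟨mul_mem hk.1 hg, mem_normalizer_of_conj_le ?_⟩,
    isConjCharOf_mul (hU hg) h2 hk.2.2⟩
  rwa [map_mul, mul_smul]

/-- the `S`-invariant irreducible characters of `M` over `ν`. -/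
abbrev InvOv (S : Subgroup G) {L M : Subgroup G} (hLM : L ≤ M) (ν : L → ℂ) : Type _ :=
  {θ : IrrCharacter M // Inv S θ.1 ∧ Ov (Subgroup.inclusion hLM) θ.1 ν}

theorem fib_spec {p : ℕ} (hp : p.Prime) {L M U S N : Subgroup G} (hLM : L ≤ M) (hMU : M ≤ U)
    (hUL : U ≤ Subgroup.normalizer (L : Set G)) (hU : U ≤ Subgroup.normalizer (M : Set G))
    (hS : IsPGroup p S) (hSU : S ≤ U) (hSi : ¬ p ∣ S.relIndex U)
    (hN : N = U ⊓ Subgroup.normalizer (S : Set G)) {ν : L → ℂ} (hν : IsIrrCharacter L ν)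
    (hinv : Inv U ν) :
    (∀ a : {χ : IrrCharacter U // ¬ p ∣ charDegree χ.1 ∧
        Ov (Subgroup.inclusion (hLM.trans hMU)) χ.1 ν},
      (∃ t : InvOv S hLM ν, Ov (Subgroup.inclusion hMU) a.1.1 t.1.1) ∧
      ∀ t t' : InvOv S hLM ν, Ov (Subgroup.inclusion hMU) a.1.1 t.1.1 →
        (Ov (Subgroup.inclusion hMU) a.1.1 t'.1.1 ↔ ∃ g ∈ N, IsConjCharOf M g t.1.1 t'.1.1)) ∧
    ∀ t : InvOv S hLM ν, Nat.card {a : {χ : IrrCharacter U // ¬ p ∣ charDegree χ.1 ∧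
        Ov (Subgroup.inclusion (hLM.trans hMU)) χ.1 ν} //
        Ov (Subgroup.inclusion hMU) a.1.1 t.1.1} = cnt p (Subgroup.inclusion hMU) t.1.1 := by
  refine ⟨fun a => ⟨?_, fun t t' h => ⟨fun h' => ?_, ?_⟩⟩, fun t => ?_⟩
  · obtain ⟨θ, h1, h2, h3⟩ := under_inv hp hMU hU hS hSU a.1.2 a.2.1
    exact ⟨⟨⟨θ, h1⟩, h2, ov_down hLM hMU hUL a.1.2 h1 hν hinv h3 a.2.2⟩, h3⟩
  · exact hN ▸ conj_of_under hp hMU hU hS hSU hSi a.1.2 t.1.2 t'.1.2 t.2.1 t'.2.1 h h'
  · rintro ⟨g, hg, h1⟩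
    have hg' : g⁻¹ ∈ U := inv_mem (hN ▸ hg).1
    rw [(isConjCharOf_iff (hU hg')).1 (isConjCharOf_inv h1)]
    exact ov_cj hMU hU a.1.2.isCharacter.isClassFunction hg' h
  · refine Nat.card_congr ⟨fun a => ⟨a.1.1, a.1.2.1, a.2⟩, fun b => ⟨⟨b.1, b.2.1,
      ov_trans hLM hMU b.1.2.isCharacter t.1.2 hν.isCharacter b.2.2 t.2.2⟩, b.2.2⟩,
      fun _ => rfl, fun _ => rfl⟩

theorem cnt_eq_of_corr {p : ℕ} (hp : p.Prime) {L S N M U M' U' : Subgroup G} {ν : L → ℂ}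
    (hν : IsIrrCharacter L ν) (hS : IsPGroup p S) (hLM : L ≤ M) (hMU : M ≤ U)
    (hUL : U ≤ Subgroup.normalizer (L : Set G)) (hU : U ≤ Subgroup.normalizer (M : Set G))
    (hSU : S ≤ U) (hSi : ¬ p ∣ S.relIndex U) (hN : N = U ⊓ Subgroup.normalizer (S : Set G))
    (hinv : Inv U ν) (hLM' : L ≤ M') (hMU' : M' ≤ U')
    (hUL' : U' ≤ Subgroup.normalizer (L : Set G)) (hU' : U' ≤ Subgroup.normalizer (M' : Set G))
    (hSU' : S ≤ U') (hSi' : ¬ p ∣ S.relIndex U') (hN' : N = U' ⊓ Subgroup.normalizer (S : Set G))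
    (hinv' : Inv U' ν) (e : InvOv S hLM ν → InvOv S hLM' ν) (he : Function.Surjective e)
    (hc : ∀ g ∈ N, ∀ t t', IsConjCharOf M g t.1.1 t'.1.1 ↔
      IsConjCharOf M' g (e t).1.1 (e t').1.1)
    (hcnt : ∀ t, cnt p (Subgroup.inclusion hMU) t.1.1 = cnt p (Subgroup.inclusion hMU') (e t).1.1) :
    cnt p (Subgroup.inclusion (hLM.trans hMU)) ν = cnt p (Subgroup.inclusion (hLM'.trans hMU')) ν := by
  obtain ⟨A, B⟩ := fib_spec hp hLM hMU hUL hU hS hSU hSi hN hν hinv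
  obtain ⟨A', B'⟩ := fib_spec hp hLM' hMU' hUL' hU' hS hSU' hSi' hN' hν hinv'
  have hNM : N ≤ Subgroup.normalizer (M : Set G) := (hN ▸ inf_le_left : N ≤ U).trans hU
  let E : Setoid (InvOv S hLM ν) := ⟨fun t t' => ∃ g ∈ N, IsConjCharOf M g t.1.1 t'.1.1,
    fun t => ⟨1, one_mem _, fun k k' h => congrArg _ (Subtype.ext (by simpa using h))⟩,
    fun ⟨g, hg, h⟩ => ⟨g⁻¹, inv_mem hg, isConjCharOf_inv h⟩,
    fun ⟨g, hg, h⟩ ⟨k, hk, h'⟩ => ⟨k * g, mul_mem hk hg, isConjCharOf_mul (hNM hg) h h'⟩⟩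
  refine card_eq_of_fibers E (fun a t => Ov (Subgroup.inclusion hMU) a.1.1 t.1.1)
    (fun a t => Ov (Subgroup.inclusion hMU') a.1.1 (e t).1.1) (fun a => (A a).1)
    (fun a t t' h => (A a).2 t t' h) (fun a => ?_) (fun a t t' h => ?_) fun t => ?_
  · obtain ⟨t, ht⟩ := (A' a).1
    obtain ⟨s, rfl⟩ := he t
    exact ⟨s, ht⟩
  · rw [(A' a).2 _ _ h]
    exact exists_congr fun g => and_congr_right fun hg => (hc g hg t t').symm
  · rw [B, B', hcnt]

/-- decomposition along a normal subgroup `M`. -/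
theorem cnt_dec {p : ℕ} (hp : p.Prime) {L S M H : Subgroup G} [L.Normal] [M.Normal] {ν : L → ℂ}
    (hν : IsIrrCharacter L ν) (hinv : Inv ⊤ ν) (hS : IsPGroup p S) (hSi : ¬ p ∣ S.index)
    (hLM : L ≤ M) (hMH : M ≤ H) (hH : Subgroup.normalizer (S : Set G) ≤ H)
    (h : ∀ θ : M → ℂ, IsIrrCharacter M θ → Inv S θ →
      cnt p M.subtype θ = cnt p (Subgroup.inclusion hMH) θ) :
    cnt p L.subtype ν = cnt p (Subgroup.inclusion (hLM.trans hMH)) ν := by
  have hSH : S ≤ H := Subgroup.le_normalizer.trans hH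
  rw [← cnt_top]
  exact cnt_eq_of_corr hp (N := Subgroup.normalizer (S : Set G)) hν hS hLM le_top
    Subgroup.le_normalizer_of_normal Subgroup.le_normalizer_of_normal le_top
    (by rwa [Subgroup.relIndex_top_right]) (top_inf_eq _).symm hinv hLM hMH
    Subgroup.le_normalizer_of_normal Subgroup.le_normalizer_of_normal hSH
    (fun hd => hSi (hd.trans (Subgroup.relIndex_dvd_index_of_le hSH))) (inf_eq_right.2 hH).symm
    (hinv.mono le_top) id Function.surjective_id (fun _ _ _ _ => Iff.rfl)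
    fun t => by rw [cnt_top]; exact h _ t.1.2 t.2.1

/-- the Glauberman step. -/
theorem cnt_glauberman_dec {p : ℕ} (hp : p.Prime) {L S K N : Subgroup G} [L.Normal] [K.Normal]
    {ν : L → ℂ} (hν : IsIrrCharacter L ν) (hinv : Inv ⊤ ν) (hS : IsPGroup p S)
    (hSi : ¬ p ∣ S.index) (hLK : L ≤ K) (hpK : ¬ p ∣ Nat.card K)
    (hLS : L ≤ Subgroup.centralizer (S : Set G)) [(K ⊔ S).Normal]
    (hN : N = Subgroup.normalizer (S : Set G)) (hLN : L ≤ N) :
    cnt p L.subtype ν = cnt p (Subgroup.inclusion hLN) ν := by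
  obtain ⟨C, hC⟩ : ∃ C, C = K ⊓ Subgroup.centralizer (S : Set G) := ⟨_, rfl⟩
  have hcKS := coprime_card_of_not_dvd hp hS hpK
  have hCK : C ≤ K := hC ▸ inf_le_left
  have hLC : L ≤ C := hC ▸ le_inf hLK hLS
  have hCN' : C = K ⊓ N := by
    rw [hC, hN, inf_normalizer_eq_of_coprime Subgroup.le_normalizer_of_normal hcKS]
  have hCN : C ≤ N := hCN' ▸ inf_le_right
  have hSN : S ≤ N := hN ▸ Subgroup.le_normalizer
  have hNC : N ≤ Subgroup.normalizer (C : Set G) := hCN' ▸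
    PG.le_normalizer_inf Subgroup.le_normalizer_of_normal Subgroup.le_normalizer
  have H := corr_pGroup hp hS Subgroup.le_normalizer_of_normal hcKS hC hCK
  have hov : ∀ {θ : K → ℂ} {φ : C → ℂ}, IsIrrCharacter K θ → IsIrrCharacter C φ →
      Rel p (Subgroup.inclusion hCK) θ φ → Ov (Subgroup.inclusion hCK) θ φ := by
    intro θ φ hθ hφ hr
    have := Fintype.ofFinite C
    rw [ov_iff]
    intro h0
    exact hr.not_dvd hp hφ (m := 0) (by rw [h0, Nat.cast_zero]) (dvd_zero p)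
  have hSC : S ≤ Subgroup.centralizer (C : Set G) :=
    Subgroup.le_centralizer_iff.1 (hC ▸ inf_le_right)
  have hex : ∀ t : InvOv S hLK ν, ∃ s : InvOv S hLC ν,
      Rel p (Subgroup.inclusion hCK) t.1.1 s.1.1 := fun t => by
    obtain ⟨φ, h1, h2⟩ := H.ex _ t.1.2 t.2.1
    exact ⟨⟨⟨φ, h1⟩, inv_of_le_centralizer _ hSC, ov_down hLC hCK Subgroup.le_normalizer_of_normal
      t.1.2 h1 hν (hinv.mono le_top) (hov t.1.2 h1 h2) t.2.2⟩, h2⟩
  choose e he using hex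
  rw [← cnt_top]
  refine cnt_eq_of_corr hp (N := N) hν hS hLK le_top
    Subgroup.le_normalizer_of_normal Subgroup.le_normalizer_of_normal le_top
    (by rwa [Subgroup.relIndex_top_right]) (hN.trans (top_inf_eq _).symm) hinv hLC hCN
    Subgroup.le_normalizer_of_normal hNC hSN
    (fun hd => hSi (hd.trans (Subgroup.relIndex_dvd_index_of_le hSN))) (by rw [← hN, inf_idem])
    (hinv.mono le_top) e (fun s => ?_) (fun g hg t t' => ?_) fun t => ?_
  · obtain ⟨θ, h1, h2, h3⟩ := H.surj _ s.1.2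
    let t : InvOv S hLK ν := ⟨⟨θ, h1⟩, h2,
      ov_trans hLC hCK h1.isCharacter s.1.2 hν.isCharacter (hov h1 s.1.2 h3) s.2.2⟩
    exact ⟨t, Subtype.ext (Subtype.ext (Rel.unique hp h1.isCharacter (e t).1.2 s.1.2 (he t) h3))⟩
  · have hgK : g ∈ Subgroup.normalizer (K : Set G) :=
      Subgroup.le_normalizer_of_normal (Subgroup.mem_top g)
    have h1 := (he t').cj hgK (hNC hg)
    rw [isConjCharOf_iff hgK, isConjCharOf_iff (hNC hg)]
    refine ⟨fun h => ?_, fun h => ?_⟩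
    · rw [← h] at h1
      exact Rel.unique hp t.1.2.isCharacter (e t).1.2 ((e t').1.2.comp_mulEquiv _) (he t) h1
    · rw [← h] at h1
      exact H.inj _ _ _ t.1.2 (t'.1.2.comp_mulEquiv _) (e t).1.2 t.2.1
        (t'.2.1.cj (hN ▸ hg) hgK) (he t) h1
  · rw [cnt_top]
    exact cnt_glauberman hp hpK hS hSi hN hC hCK hCN t.1.2 t.2.1 (e t).1.2 (he t)

theorem ext_of_ov {p : ℕ} (hp : p.Prime) {L S U : Subgroup G} [L.Normal] (hS : IsPGroup p S)
    (hLU : L ≤ U) (hSU : S ≤ U) {ν : L → ℂ} (hν : IsIrrCharacter L ν) (hinv : Inv U ν)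
    {χ : U → ℂ} (hχ : IsIrrCharacter U χ) (hd : ¬ p ∣ charDegree χ)
    (h : Ov (Subgroup.inclusion hLU) χ ν) : ¬ p ∣ charDegree ν ∧ Ext (L ⊔ S) ν := by
  have : Fact p.Prime := ⟨hp⟩
  have := Fintype.ofFinite G
  have := Fintype.ofFinite L
  have hPU : L ⊔ S ≤ U := sup_le hLU hSU
  obtain ⟨ψ, h1, h2, h3⟩ := exists_under_not_dvd hPU hχ hd
  have h4 := ov_down le_sup_left hPU Subgroup.le_normalizer_of_normal hχ h1 hν hinv h3 h
  have := Fintype.ofFinite (L.subgroupOf (L ⊔ S))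
  have hν' := isIrrCharacter_subgroupOf (le_sup_left : L ≤ L ⊔ S) hν
  obtain ⟨e, he, h5⟩ := exists_degree_eq_mul hν' h1
    (by rw [classInner_res_subgroupOf le_sup_left]; exact ov_incl.1 h4)
  have h6 : ψ 1 = e * ν 1 := h5
  have h7 : charDegree ψ = e * charDegree ν := by
    rw [← h1.coe_charDegree, ← hν.coe_charDegree] at h6
    exact_mod_cast h6
  obtain ⟨k, hk⟩ := IsPGroup.iff_card.1 hS
  have h8 : e ∣ p ^ k := by
    refine he.trans (hk ▸ ?_)
    change L.relIndex (L ⊔ S) ∣ _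
    rw [Subgroup.relIndex_sup_left]
    exact Subgroup.relIndex_dvd_card _ _
  have h9 : e = 1 := by
    by_contra h1
    exact h2 (h7 ▸ dvd_mul_of_dvd_left (prime_dvd_of_dvd_pow_of_ne_one hp h8 h1) _)
  refine ⟨fun hd => h2 (h7 ▸ dvd_mul_of_dvd_right hd _), ψ, h1.isCharacter, fun l _ => ?_⟩
  have hT : L ⊔ S ≤ inertia L ν := by
    rw [inertia_eq_invSub, ← inv_iff_le Subgroup.le_normalizer_of_normal]
    exact hinv.mono hPU
  have h10 := res_eq_smul_of_le_inertia le_sup_left hν hT h1 (ov_incl.1 h4)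
  have h11 := congrFun h10 1
  rw [h9, Nat.cast_one] at h6
  have h12 := mul_right_cancel₀ hν.apply_one_ne_zero (h11.symm.trans h6)
  have h13 := congrFun h10 l
  rwa [h12, one_smul] at h13

theorem normalizer_sup_of_central {p : ℕ} (hp : p.Prime) {Z S : Subgroup G}
    (hZ : Z ≤ Subgroup.center G) (hS : IsPGroup p S) (hSi : ¬ p ∣ S.index) :
    Subgroup.normalizer ((Z ⊔ S : Subgroup G) : Set G) = Subgroup.normalizer (S : Set G) := by
  have : Fact p.Prime := ⟨hp⟩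
  have hZn : Z.Normal := normal_of_le_center hZ
  have h1 : Z ⊔ S ≤ Subgroup.normalizer (S : Set G) :=
    sup_le (hZ.trans (Subgroup.center_le_normalizer _)) Subgroup.le_normalizer
  refine le_antisymm (fun g hg => ?_) (PG.le_normalizer_sup Subgroup.le_normalizer_of_normal le_rfl)
  have h2 : MulAut.conj g • S ≤ Z ⊔ S := by
    rintro _ ⟨s, hs, rfl⟩
    exact conj_mem_of_mem_normalizer hg (Subgroup.mem_sup_right hs)
  obtain ⟨k, hk, h3⟩ := HT.exists_conj_le_of_isPGroup h2 (hS.map _) hS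
    (fun hd => hSi (hd.trans (Subgroup.relIndex_dvd_index_of_le le_sup_right)))
  rw [← mul_smul, ← map_mul] at h3
  exact (mul_mem_cancel_left (h1 hk)).1 (mem_normalizer_of_conj_le h3)

universe u

/-- the inductive statement of the relative McKay theorem for `p`-solvable groups. -/
def McKayBelow (p n : ℕ) : Prop :=
  ∀ (G : Type u) [Group G] [Finite G], IsPiSeparable {p} G → ∀ (L S H : Subgroup G) [L.Normal],
    L.index < n → IsPGroup p S → ¬ p ∣ S.index →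
    H = Subgroup.normalizer ((L ⊔ S : Subgroup G) : Set G) → ∀ (hLH : L ≤ H) (ν : L → ℂ),
    IsIrrCharacter L ν → Inv S ν → cnt p L.subtype ν = cnt p (Subgroup.inclusion hLH) ν

section Ind
variable {G : Type u} [Group G] [Finite G] {p n : ℕ}

theorem McKayBelow.rel (IH : McKayBelow.{u} p n) (hG : IsPiSeparable {p} G) {L S U H : Subgroup G}
    [L.Normal] (hLU : L ≤ U) (hSU : S ≤ U) (hn : L.relIndex U < n) (hS : IsPGroup p S)
    (hSi : ¬ p ∣ S.index) (hH : H = U ⊓ Subgroup.normalizer ((L ⊔ S : Subgroup G) : Set G))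
    (hLH : L ≤ H) {ν : L → ℂ} (hν : IsIrrCharacter L ν) (hinv : Inv S ν) :
    cnt p (Subgroup.inclusion hLU) ν = cnt p (Subgroup.inclusion hLH) ν := by
  have h1 : L.subgroupOf U ≤ H.subgroupOf U := fun x hx => hLH hx
  rw [← cnt_subOf p hLU, ← cnt_subOf_subOf p hLH (hH ▸ inf_le_left) h1]
  refine IH U (hG.subgroup U) _ (S.subgroupOf U) _ hn
    (hS.of_equiv (Subgroup.subgroupOfEquivOfLe hSU).symm)
    (fun h => hSi (h.trans (Subgroup.relIndex_dvd_index_of_le hSU))) ?_ h1 _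
    (isIrrCharacter_subgroupOf hLU hν) fun s hs a b hab => hinv _ hs _ _ (congrArg Subtype.val hab)
  rw [← Subgroup.subgroupOf_sup hLU hSU, hH, Subgroup.inf_subgroupOf_left,
    Subgroup.subgroupOf_normalizer_eq (sup_le hLU hSU)]

theorem relIndex_lt_index {L U : Subgroup G} (hLU : L ≤ U) (hU : U ≠ ⊤) :
    L.relIndex U < L.index := by
  rw [← Subgroup.relIndex_mul_index hLU]
  exact lt_mul_of_one_lt_right (Nat.pos_of_ne_zero Subgroup.index_ne_zero_of_finite)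
    (Subgroup.one_lt_index_of_ne_top hU)

theorem McKayBelow.central (hp : p.Prime) (IH : McKayBelow.{u} p n) (hG : IsPiSeparable {p} G)
    {Z S H : Subgroup G} (hZ : Z ≤ Subgroup.center G) (hpZ : ¬ p ∣ Nat.card Z) (hn : Z.index ≤ n)
    (hS : IsPGroup p S) (hSi : ¬ p ∣ S.index)
    (hH : H = Subgroup.normalizer ((Z ⊔ S : Subgroup G) : Set G)) (hZH : Z ≤ H) {ν : Z → ℂ}
    (hν : IsIrrCharacter Z ν) : cnt p Z.subtype ν = cnt p (Subgroup.inclusion hZH) ν := by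
  have hZn : Z.Normal := normal_of_le_center hZ
  have hinv : Inv ⊤ ν := inv_of_le_centralizer _ fun g _ z hz => (Subgroup.mem_center_iff.1 (hZ hz) g).symm
  by_cases h0 : Z = ⊤
  · rw [← cnt_top]
    exact cnt_eq_of_eq p (top_le_iff.1 (h0 ▸ hZH)).symm _ _ _
  obtain ⟨M, hM, hZM, h⟩ := hG.exists_step Z h0
  have hMi : M.index < n := (Subgroup.index_strictAnti hZM).trans_le hn
  obtain ⟨H₁, hH₁⟩ : ∃ H₁, H₁ = Subgroup.normalizer ((M ⊔ S : Subgroup G) : Set G) := ⟨_, rfl⟩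
  have hMH : M ≤ H₁ := hH₁ ▸ le_sup_left.trans Subgroup.le_normalizer
  have hSH : S ≤ H₁ := hH₁ ▸ le_sup_right.trans Subgroup.le_normalizer
  have hNH : Subgroup.normalizer (S : Set G) ≤ H₁ :=
    hH₁ ▸ PG.le_normalizer_sup Subgroup.le_normalizer_of_normal le_rfl
  have hdec := cnt_dec hp hν hinv hS hSi hZM.le hMH hNH
    fun θ h1 h2 => IH G hG M S H₁ hMi hS hSi hH₁ hMH θ h1 h2
  have hH' := hH.trans (normalizer_sup_of_central hp hZ hS hSi)
  rcases h with h | h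
  · obtain ⟨k, hk⟩ := (isPiNum_singleton_iff hp Subgroup.index_ne_zero_of_finite).1 h
    have h1 : M ≤ Z ⊔ S := le_of_not_dvd_index hp le_sup_left hk
      fun hd => hSi (hd.trans (Subgroup.index_dvd_of_le le_sup_right))
    have h2 : M ⊔ S = Z ⊔ S := le_antisymm (sup_le h1 le_sup_right) (sup_le_sup_right hZM.le _)
    rw [hdec]
    exact cnt_eq_of_eq p (by rw [hH₁, hH, h2]) _ _ _
  by_cases h1 : H₁ = ⊤
  · have : (M ⊔ S).Normal := Subgroup.normalizer_eq_top_iff.1 (hH₁ ▸ h1)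
    refine cnt_glauberman_dec hp hν hinv hS hSi hZM.le ?_ (hZ.trans (Subgroup.center_le_centralizer _))
      hH' hZH
    rw [← card_mul_relIndex_eq hZM.le, hp.dvd_mul, not_or]
    exact ⟨hpZ, (isPiNum_compl_singleton_iff_not_dvd hp).1 h⟩
  · rw [hdec]
    exact IH.rel hG _ hSH ((relIndex_lt_index (hZM.le.trans hMH) h1).trans_le hn) hS hSi
      (by rw [← hH, hH', inf_eq_right.2 hNH]) hZH hν (hinv.mono le_top)

theorem McKayBelow.inv (hp : p.Prime) (IH : McKayBelow.{u} p n) (hG : IsPiSeparable {p} G)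
    {L S H : Subgroup G} [hL : L.Normal] (hn : L.index ≤ n) (hS : IsPGroup p S) (hSi : ¬ p ∣ S.index)
    (hH : H = Subgroup.normalizer ((L ⊔ S : Subgroup G) : Set G)) (hLH : L ≤ H) {ν : L → ℂ}
    (hν : IsIrrCharacter L ν) (hinv : Inv ⊤ ν) :
    cnt p L.subtype ν = cnt p (Subgroup.inclusion hLH) ν := by
  have : Fact p.Prime := ⟨hp⟩
  rw [← cnt_top]
  by_cases h : ¬ p ∣ charDegree ν ∧ Ext (L ⊔ S) ν
  swap
  · have h0 : ∀ (U : Subgroup G) (hLU : L ≤ U), S ≤ U → cnt p (Subgroup.inclusion hLU) ν = 0 :=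
      fun U hLU hSU => Nat.card_eq_zero.2 (Or.inl ⟨fun χ =>
        h (ext_of_ov hp hS hLU hSU hν (hinv.mono le_top) χ.1.2 χ.2.1 χ.2.2)⟩)
    rw [h0 _ _ le_top, h0 _ _ (hH ▸ le_sup_right.trans Subgroup.le_normalizer)]
  obtain ⟨hd, η, hη, hην⟩ := h
  have hPi : ¬ p ∣ (L ⊔ S).index := fun hd => hSi (hd.trans (Subgroup.index_dvd_of_le le_sup_right))
  have hinv' : ∀ (g : G) (n : L), ν ⟨g * n * g⁻¹, hL.conj_mem n n.2 g⟩ = ν n :=
    fun g n => hinv g trivial _ _ rfl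
  obtain ⟨T, hT⟩ : ∃ T : TripleCover L ν, ∀ z : T.π.ker, z ^ (L ⊔ S).index = 1 := by
    obtain ⟨d, ρ, hρ, rfl⟩ := hν
    exact exists_tripleCover_of_tripPow ρ hinv' Subgroup.index_ne_zero_of_finite
      (tripPow_index_of_char ρ (tripProj_surjective ρ hinv') _ le_sup_left hη fun n => hην n _)
  have hd' : ∀ d, p ∣ d * charDegree ν ↔ p ∣ d := fun d => by rw [hp.dvd_mul, or_iff_left hd]
  have hpZ := not_dvd_card_Z hp T hPi hT
  obtain ⟨S', hS'P, hS', hS'i⟩ := HT.exists_sylow_le p (T.up (L ⊔ S))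
  obtain ⟨k, hk⟩ := IsPGroup.iff_card.1 hS
  have h1 : T.Z ⊔ S' = T.up (L ⊔ S) := by
    refine HT.sup_eq_of_coprime_relIndex (T.Z_le_up _) hS'P ?_
    rw [T.relIndex_Z_up le_sup_left, Subgroup.relIndex_sup_left]
    exact ((Nat.Coprime.pow_left k (hp.coprime_iff_not_dvd.2 hS'i)).coprime_dvd_left
      (hk ▸ Subgroup.relIndex_dvd_card _ _))
  have hker := QuotientGroup.ker_mk' L
  have hsurj := coverProj_surjective T hker (QuotientGroup.mk'_surjective L)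
  rw [cnt_cover T hν hd' le_top, cnt_eq_of_eq p T.up_top _ le_top, cnt_top, cnt_cover T hν hd' hLH]
  refine IH.central hp (IsPiSeparable.of_ker_range (coverProj T _ hker) ?_ ?_) T.Z_le_center hpZ
    (T.index_Z ▸ hn) hS' ?_ ?_ _ (isIrrCharacter_monoidHom_units T.mu)
  · rw [ker_coverProj]
    exact isPiSeparable_of_isPiNum_compl ((isPiNum_compl_singleton_iff_not_dvd hp).2 hpZ)
  · exact (hG.quotient L).subgroup _
  · rw [← Subgroup.relIndex_mul_index hS'P, T.index_up le_sup_left, hp.dvd_mul, not_or]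
    exact ⟨hS'i, hPi⟩
  · have h2 : L ⊔ S = (S.map (QuotientGroup.mk' L)).comap (QuotientGroup.mk' L) := by
      rw [Subgroup.comap_map_eq, hker, sup_comm]
    rw [h1, hH, sup_comm L S, ← comap_normalizer_map_mk', ← comap_coverProj T _ hker, sup_comm S L,
      h2, ← comap_coverProj T _ hker, Subgroup.comap_normalizer_eq_of_surjective _ hsurj]

theorem mcKayBelow (hp : p.Prime) (n : ℕ) : McKayBelow.{u} p n := by
  induction n with
  | zero => exact fun _ _ _ _ _ _ _ _ h => absurd h (Nat.not_lt_zero _)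
  | succ n IH =>
    intro G _ _ hG L S H _ hn hS hSi hH hLH ν hν hinv
    replace hn := Nat.lt_succ_iff.1 hn
    obtain ⟨T, hT⟩ : ∃ T, T = invSub ν := ⟨_, rfl⟩
    have hST : S ≤ T := hT ▸ (inv_iff_le Subgroup.le_normalizer_of_normal).1 hinv
    have hLT : L ≤ T := hT ▸ (inv_iff_le Subgroup.le_normalizer).1
      (inv_self hν.isCharacter.isClassFunction)
    by_cases h0 : T = ⊤
    · exact IH.inv hp hG hn hS hSi hH hLH hν
        ((inv_iff_le Subgroup.le_normalizer_of_normal).2 (hT ▸ h0.ge))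
    have hSH : S ≤ H := hH ▸ le_sup_right.trans Subgroup.le_normalizer
    rw [cnt_inertia hp hν (hT.trans (inertia_eq_invSub ν).symm) hLT
        (fun hd => hSi (hd.trans (Subgroup.index_dvd_of_le hST))),
      cnt_inertia_rel hp hLH Subgroup.le_normalizer_of_normal hν (T := H ⊓ T) (by rw [hT])
        (le_inf hLH hLT) (fun hd => hSi ((hd.trans (Subgroup.relIndex_dvd_of_le_left H
          (le_inf hSH hST))).trans (Subgroup.relIndex_dvd_index_of_le hSH)))]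
    exact IH.rel hG hLT hST ((relIndex_lt_index hLT h0).trans_le hn) hS hSi
      (by rw [hH, inf_comm]) _ hν hinv

/-- **Relative McKay for `p`-solvable groups** (Wolf; Okuyama–Wajima). -/
theorem rel_mcKay (hp : p.Prime) (hG : IsPiSeparable {p} G) {L S H : Subgroup G} [L.Normal]
    (hS : IsPGroup p S) (hSi : ¬ p ∣ S.index)
    (hH : H = Subgroup.normalizer ((L ⊔ S : Subgroup G) : Set G)) (hLH : L ≤ H) {ν : L → ℂ}
    (hν : IsIrrCharacter L ν) (hinv : Inv S ν) :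
    cnt p L.subtype ν = cnt p (Subgroup.inclusion hLH) ν :=
  mcKayBelow hp (L.index + 1) G hG L S H (Nat.lt_succ_self _) hS hSi hH hLH ν hν hinv

end Ind

end Cfsg.Agent.Deg
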