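import Mathlib
import Cfsg.Agent.Deg.Over
import Cfsg.Agent.Ch.Deg12C
import Cfsg.Agent.Ch.TripleFin

/-!
# Groups without divisibility among nonlinear character degrees: tools
-/

set_option autoImplicit false

namespace Cfsg.Agent.Deg.Nd

open Cfsg Cfsg.Agent.Ch Subgroup

/-- No nonlinear degree properly divides another degree. -/
def ND (G : Type*) [Group G] : Prop := ∀ χ ψ : G → ℂ, IsIrrCharacter G χ → IsIrrCharacter G ψ →
  charDegree χ ≠ 1 → charDegree χ ∣ charDegree ψ → charDegree χ = charDegree ψ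

variable {G : Type*} [Group G] [Finite G]

theorem deg_le_of_under {T : Subgroup G} [Fintype T] {χ : G → ℂ} (hχ : IsIrrCharacter G χ) {φ : T → ℂ}
    (hφ : IsIrrCharacter T φ) (h : classInner (fun n : T => χ n) φ ≠ 0) :
    charDegree χ ≤ T.index * charDegree φ := by
  have := Fintype.ofFinite G
  rw [← charDegree_indFun T hφ.isCharacter]
  refine (isCharacter_indFun T hφ.isCharacter).charDegree_irr_le hχ ?_
  rwa [classInner_indFun_eq_res T hφ.isCharacter hχ.isCharacter]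

theorem exists_deg_eq {N : Subgroup G} [N.Normal] [Fintype N] {χ : G → ℂ} (hχ : IsIrrCharacter G χ)
    {θ : N → ℂ} (hθ : IsIrrCharacter N θ) (h : classInner (fun n : N => χ n) θ ≠ 0) :
    ∃ e, e ∣ N.index ∧ charDegree χ = e * charDegree θ := by
  obtain ⟨e, he, h4⟩ := exists_degree_eq_mul hθ hχ h
  refine ⟨e, he, ?_⟩
  rw [← hχ.coe_charDegree, ← hθ.coe_charDegree] at h4
  exact_mod_cast h4

/-- A normal `p`-complement with nonabelian quotient forces two degrees. -/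
theorem ND.two_of_pRes (h : ND G) {p : ℕ} (hp : p.Prime) (hM : ¬ p ∣ Nat.card (pResidual p G))
    (hn : ¬ commutator G ≤ pResidual p G) :
    ∃ b, ∀ χ, IsIrrCharacter G χ → charDegree χ ≠ 1 → charDegree χ = p ^ b := by
  set M := pResidual p G
  have := Fintype.ofFinite M
  have := Fintype.ofFinite G
  obtain ⟨k, hk⟩ := GT.exists_index_pResidual (G := G) hp
  have hcop : (Nat.card M).Coprime M.index := hk ▸ (hp.coprime_iff_not_dvd.2 hM).symm.pow_right k
  obtain ⟨β₀, h0, hk0, h1⟩ := exists_nonlinear_le_charKer M hn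
  obtain ⟨b, -, hb⟩ := (Nat.dvd_prime_pow hp).1 (hk ▸ charDegree_dvd_index_of_le_charKer h0 hk0)
  refine ⟨b, fun χ hχ hχ1 => ?_⟩
  obtain ⟨θ, hθ, hne⟩ := exists_irr_under M hχ
  have hMT := le_inertia hθ.isClassFunction
  obtain ⟨η, hη, he⟩ := deg12_extends_of_coprime hcop hθ le_rfl hMT
  have key := fun β hβ hk => deg12_exists_of_extends hθ rfl hMT hη.isCharacter he (β := β) hβ hk
  obtain ⟨χ₁, h2, -, h3⟩ := key _ IsIrrCharacter.one (fun _ _ => IsCharacter.one.mem_charKer.2 rfl)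
  rw [charDegree_one, one_mul] at h3
  by_cases hd : charDegree χ₁ = 1
  · obtain ⟨e, he1, he2⟩ := exists_deg_eq hχ hθ hne
    rw [Nat.eq_one_of_mul_eq_one_left (h3.symm.trans hd), mul_one] at he2
    obtain ⟨c, -, hc⟩ := (Nat.dvd_prime_pow hp).1 (hk ▸ he1)
    rcases le_total c b with l | l
    · rw [h χ β₀ hχ h0 hχ1 (by rw [he2, hc, hb]; exact pow_dvd_pow p l), hb]
    · rw [← h β₀ χ h0 hχ h1 (by rw [he2, hc, hb]; exact pow_dvd_pow p l), hb]
  · have h4 := h χ₁ χ h2 hχ hd (h3 ▸ index_inertia_mul_dvd hχ hθ hne)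
    have h5 : commutator (inertia M θ) ≤ M.subgroupOf _ :=
      deg12_commutator_le_of_forall_linear _ fun β hβ hk => by
        obtain ⟨χ₂, h6, -, h7⟩ := key β hβ hk
        have h8 := h χ₁ χ₂ h2 h6 hd (by rw [h3, h7]; exact ⟨charDegree β, by ring⟩)
        rw [h3, h7] at h8
        have h9 := Nat.eq_of_mul_eq_mul_left (Nat.pos_of_ne_zero index_ne_zero_of_finite) h8
        exact (Nat.mul_eq_right hθ.charDegree_pos.ne').1 h9.symm
    have := Fintype.ofFinite (inertia M θ)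
    obtain ⟨φ, hφ, hne'⟩ := exists_irr_under (inertia M θ) h0
    have h6 : charDegree φ = 1 := (charDegree_eq_one_iff_commutator_le hφ).2 fun x hx =>
      mem_charKer_of_over h0.isCharacter hφ hne' (hk0 (h5 hx))
    have h7 := deg_le_of_under h0 hφ hne'
    obtain ⟨j, -, hj⟩ := (Nat.dvd_prime_pow hp).1 (hk ▸ index_dvd_of_le hMT)
    rw [h6, mul_one, hb, hj, Nat.pow_le_pow_iff_right hp.one_lt] at h7
    rw [← h4, ← h β₀ χ₁ h0 h2 h1 (by rw [h3, hj, hb]; exact (pow_dvd_pow p h7).mul_right _), hb]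

/-- If all nonlinear characters vanish at `x` and at `x * k` with `k` in the commutator subgroup then
the two elements are conjugate. -/
theorem isConj_of_vanish {x k : G} (hk : k ∈ commutator G)
    (h : ∀ χ, IsIrrCharacter G χ → charDegree χ ≠ 1 → χ x = 0 ∧ χ (k * x) = 0) :
    ∃ u, u * x * u⁻¹ = k * x := by
  refine isConj_iff.1 (isConj_iff_forall_irr.2 fun χ => ?_)
  by_cases h1 : charDegree (χ : G → ℂ) = 1
  · obtain ⟨f, hf⟩ := χ.2.isCharacter.exists_monoidHom_of_apply_one (χ.2.isCharacter.charDegree_eq_one_iff.1 h1)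
    have h2 : f k = 1 := Abelianization.commutator_subset_ker f hk
    change (χ : G → ℂ) x = (χ : G → ℂ) (k * x)
    rw [hf]
    simp [h2]
  · obtain ⟨h2, h3⟩ := h χ χ.2 h1
    exact h2.trans h3.symm

section Act

variable {Γ H Λ : Type*} [Group Γ] [Group H] [CommGroup Λ] [MulDistribMulAction Γ Λ]

theorem exists_fix {Y : Type*} [MulAction Γ Y] {a : Γ} {r k : ℕ} (hr : r.Prime) (ha : a ^ r ^ k = 1)
    {O : Set Y} (hO : O.Finite) (h1 : ∀ x ∈ O, a • x ∈ O) (h2 : ¬ r ∣ O.ncard) : ∃ x ∈ O, a • x = x := by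
  classical
  have := Fact.mk hr
  have := hO.fintype
  let F : O → O := fun x => ⟨a • x, h1 x x.2⟩
  have hF : Function.Injective F := fun x y e => Subtype.ext (smul_left_cancel a (congrArg Subtype.val e))
  let σ : Equiv.Perm O := Equiv.ofBijective F (Finite.injective_iff_bijective.1 hF)
  have hσ : ∀ (n : ℕ) (x : O), (((σ ^ n) x : O) : Y) = a ^ n • (x : Y) := by
    intro n
    induction n with
    | zero => intro x; simp
    | succ n ih =>
      intro x
      rw [pow_succ, Equiv.Perm.mul_apply, ih, pow_succ, mul_smul]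
      rfl
  obtain ⟨x, hx⟩ := Equiv.Perm.exists_fixed_point_of_prime (p := r) (n := k) (σ := σ) (by
    rwa [← Nat.card_eq_fintype_card, Nat.card_coe_set_eq])
    (Equiv.ext fun x => Subtype.ext (by rw [hσ, ha, one_smul]; rfl))
  exact ⟨x, x.2, congrArg Subtype.val hx⟩

/-- The fixed points of `a`. -/
def fx (Λ : Type*) [CommGroup Λ] [MulDistribMulAction Γ Λ] (a : Γ) : Subgroup Λ where
  carrier := {v | a • v = v}
  one_mem' := smul_one a
  mul_mem' {u v} hu hv := by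
    change a • (u * v) = u * v
    rw [smul_mul', hu, hv]
  inv_mem' {u} hu := by
    change a • u⁻¹ = u⁻¹
    rw [smul_inv', hu]

theorem mem_fx {a : Γ} {v : Λ} : v ∈ fx Λ a ↔ a • v = v := Iff.rfl

theorem card_ne_one [Finite Λ] (S : Subgroup Λ) : Nat.card {v // v ∈ S ∧ v ≠ 1} + 1 = Nat.card S := by
  have h1 : ({v | v ∈ S ∧ v ≠ 1} : Set Λ) = (S : Set Λ) \ {1} := rfl
  change Nat.card ({v | v ∈ S ∧ v ≠ 1} : Set Λ) + 1 = Nat.card (S : Set Λ)
  rw [h1, Nat.card_coe_set_eq, Nat.card_coe_set_eq, Set.ncard_sdiff_singleton_add_one S.one_mem]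

theorem count [Finite Λ] (φ : H →* Γ) (a : Γ) (S : Subgroup Λ) (C : Subgroup H)
    (hS : ∀ n, ∀ v ∈ S, φ n • v ∈ S)
    (hC : ∀ n ∈ C, ∀ v ∈ S, a • v = v → a • φ n • v = φ n • v)
    (hx : ∀ n, ∀ v ∈ S, v ≠ 1 → a • v = v → a • φ n • v = φ n • v → n ∈ C)
    (hcov : ∀ v ∈ S, ∃ n, a • φ n • v = φ n • v) :
    Nat.card S + C.index = 1 + C.index * Nat.card ↥(S ⊓ fx Λ a) := by
  have h0 : ∀ (g : Γ) (v : Λ), v ≠ 1 → g • v ≠ 1 := fun g v hv e => hv (by
    rw [← inv_smul_smul g v, e, smul_one])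
  let F : (H ⧸ C) × {v // v ∈ S ⊓ fx Λ a ∧ v ≠ 1} → {v // v ∈ S ∧ v ≠ 1} := fun t =>
    ⟨φ t.1.out • t.2.1, hS _ _ t.2.2.1.1, h0 _ _ t.2.2.2⟩
  have hF : Function.Bijective F := by
    constructor
    · rintro ⟨t, v, hv⟩ ⟨t', v', hv'⟩ e
      replace e : φ t.out • v = φ t'.out • v' := congrArg Subtype.val e
      have e1 : φ (t'.out⁻¹ * t.out) • v = v' := by rw [map_mul, map_inv, mul_smul, e, inv_smul_smul]
      have e2 := hx (t'.out⁻¹ * t.out) v hv.1.1 hv.2 hv.1.2 (by rw [e1]; exact hv'.1.2)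
      obtain rfl : t' = t := by
        rw [← QuotientGroup.out_eq' t, ← QuotientGroup.out_eq' t']
        exact QuotientGroup.eq.2 e2
      obtain rfl := smul_left_cancel _ e
      rfl
    · rintro ⟨w, hw, hw1⟩
      obtain ⟨n, hn⟩ := hcov w hw
      obtain ⟨c, hc⟩ := QuotientGroup.mk_out_eq_mul C n⁻¹
      refine ⟨⟨(n⁻¹ : H), φ (c : H)⁻¹ • φ n • w, ⟨hS _ _ (hS _ _ hw), hC _ (C.inv_mem c.2) _ (hS _ _ hw) hn⟩,
        h0 _ _ (h0 _ _ hw1)⟩, Subtype.ext ?_⟩
      change φ (QuotientGroup.mk n⁻¹ : H ⧸ C).out • φ (c : H)⁻¹ • φ n • w = w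
      rw [hc, ← mul_smul, ← mul_smul, ← map_mul, ← map_mul, mul_inv_cancel_right, inv_mul_cancel, map_one,
        one_smul]
  have h1 := Nat.card_eq_of_bijective F hF
  rw [Nat.card_prod] at h1
  rw [← card_ne_one S, ← card_ne_one (S ⊓ fx Λ a), ← h1, index]
  ring

theorem arith {h c c' κ κ₀ V V' : ℕ} (e : V + h = 1 + h * c) (e' : V' + h = 1 + h * c')
    (h1 : V' * κ = V) (h2 : c' * κ₀ = c) (h3 : κ₀ ∣ κ) (h4 : 2 ≤ κ) (h5 : 2 ≤ h) (h6 : 2 ≤ V') : False := by
  obtain ⟨t, rfl⟩ := h3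
  subst h1 h2
  have hc : 2 ≤ c' := by
    by_contra hc
    have : h * c' ≤ h * 1 := Nat.mul_le_mul_left _ (by omega)
    omega
  obtain ⟨h, rfl⟩ := Nat.exists_eq_add_of_le h5
  obtain ⟨c', rfl⟩ := Nat.exists_eq_add_of_le hc
  obtain rfl : V' = 3 + h + (2 + h) * c' := by nlinarith
  rcases t with _ | _ | t
  · omega
  · nlinarith
  · have : 1 ≤ κ₀ := Nat.pos_of_ne_zero (by rintro rfl; omega)
    nlinarith [Nat.zero_le (h * c' * κ₀ * t), Nat.zero_le (h * c' * κ₀), Nat.zero_le (c' * κ₀ * t),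
      Nat.zero_le (h * κ₀ * t), Nat.zero_le (κ₀ * t), Nat.zero_le (c' * κ₀), Nat.zero_le (h * κ₀)]

end Act

end Cfsg.Agent.Deg.Nd
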