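import Mathlib
import Cfsg.Agent.Deg.NdA
import Cfsg.Agent.GT.FixedPointFree
import Cfsg.Agent.GT.PGroupBasic

/-!
# An automorphism fixing all nonlinear characters of a group without divisibility among degrees
-/

set_option autoImplicit false

namespace Cfsg.Agent.Deg.Nd

open Cfsg Cfsg.Agent.Ch Subgroup

variable {H : Type*} [Group H]

/-- Automorphisms act on the linear characters of a characteristic subgroup. -/
@[reducible] def autAct (X : Subgroup H) [X.Characteristic] :
    MulDistribMulAction (MulAut H) (X →* ℂˣ) where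
  smul σ f := f.comp (MulAut.characteristic X σ⁻¹).toMonoidHom
  one_smul _ := rfl
  mul_smul _ _ _ := rfl
  smul_mul _ _ _ := rfl
  smul_one _ := rfl

attribute [local instance] autAct

local notation "cj" => MulAut.conj
local notation "𝐐" => commutator H

section

variable {X : Subgroup H} [X.Characteristic] {f : X →* ℂˣ} {n : H}

theorem aut_apply (σ : MulAut H) (f : X →* ℂˣ) {x y : X} (h : σ y = x) : (σ • f) x = f y := by
  change f (MulAut.characteristic X σ⁻¹ x) = f y
  congr 1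
  exact Subtype.ext (by rw [MulAut.characteristic_apply_apply_coe, ← h]; simp)

theorem cj_smul (n : H) (f : X →* ℂˣ) : cj n • f = linConj n⁻¹ f := by
  ext1 x
  exact aut_apply _ _ (by simp [mul_assoc])

/-- The stabiliser of a linear character. -/
abbrev St (f : X →* ℂˣ) : Subgroup H := inertia X fun n => (f n : ℂ)

theorem mem_St : n ∈ St f ↔ cj n • f = f := by
  rw [cj_smul, ← mem_inertia_lin, Subgroup.inv_mem_iff]

theorem aut_cj (σ : MulAut H) (n : H) (f : X →* ℂˣ) : σ • cj n • f = cj (σ n) • σ • f := by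
  rw [← mul_smul, ← mul_smul]
  congr 1
  ext x
  simp

theorem cj_mul (m n : H) (f : X →* ℂˣ) : cj (m * n) • f = cj m • cj n • f := by rw [map_mul, mul_smul]

variable (X) in
/-- The linear characters of `X` invariant under the commutator subgroup. -/
def VS : Subgroup (X →* ℂˣ) where
  carrier := {f | ∀ q ∈ 𝐐, cj q • f = f}
  one_mem' _ _ := rfl
  mul_mem' hu hv q hq := by rw [smul_mul', hu q hq, hv q hq]
  inv_mem' hu q hq := by rw [smul_inv', hu q hq]

theorem VS.smul (hf : f ∈ VS X) (σ : MulAut H) : σ • f ∈ VS X := fun q hq => by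
  have := aut_cj σ (σ⁻¹ q) f
  rw [hf (σ⁻¹ q) (characteristic_iff_le_comap.1 inferInstance σ⁻¹ hq)] at this
  simpa using this.symm

theorem VS.conj (hf : f ∈ VS X) {q : H} (hq : q ∈ 𝐐) {x y : X} (h : (y : H) = q * x * q⁻¹) : f y = f x := by
  rw [← hf q hq, aut_apply _ _ (y := x) h.symm, hf q hq]

end

theorem mem_VS (f : 𝐐 →* ℂˣ) : f ∈ VS 𝐐 := fun q hq => by
  rw [cj_smul, linConj_of_mem (inv_mem hq)]

theorem cj_comm (m n : H) (f : 𝐐 →* ℂˣ) : cj m • cj n • f = cj n • cj m • f := by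
  rw [← cj_mul, show m * n = (m * n * m⁻¹ * n⁻¹) * (n * m) by group, cj_mul,
    mem_VS _ (m * n * m⁻¹ * n⁻¹) (commutator_mem_commutator trivial trivial), cj_mul]

/-- The displacement of `α` on the abelianization. -/
def tau (α : MulAut H) : H →* Abelianization H :=
  Abelianization.of.comp α.toMonoidHom / Abelianization.of

/-- The elements fixed by `α` modulo the commutator subgroup. -/
def CC (α : MulAut H) : Subgroup H := (tau α).ker

theorem tau_apply (α : MulAut H) (x : H) : tau α x = Abelianization.of (α x * x⁻¹) := by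
  simp [tau, div_eq_mul_inv]

theorem mem_CC {α : MulAut H} {x : H} : x ∈ CC α ↔ α x * x⁻¹ ∈ 𝐐 := by
  rw [CC, MonoidHom.mem_ker, tau_apply, ← MonoidHom.mem_ker, Abelianization.ker_of]

instance (α : MulAut H) : (CC α).Normal := MonoidHom.normal_ker _

theorem le_CC {α : MulAut H} : 𝐐 ≤ CC α := Abelianization.commutator_subset_ker _

/-- The hypothesis. -/
structure Hy (α : MulAut H) (r : ℕ) : Prop where
  nd : ND H
  prime : r.Prime
  pow : ∃ k, α ^ r ^ k = 1
  inv : ∀ ψ, IsIrrCharacter H ψ → charDegree ψ ≠ 1 → ∀ x, ψ (α x) = ψ x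
  cop : ∀ ψ, IsIrrCharacter H ψ → charDegree ψ ≠ 1 → ¬ r ∣ charDegree ψ
  ne : 𝐐 ≠ ⊥

variable [Finite H] {α : MulAut H} {r : ℕ}

omit [Finite H] in
theorem deg_lin_mul {ψ : H → ℂ} (f : H →* ℂˣ) : charDegree (fun g => (f g : ℂ) * ψ g) = charDegree ψ :=
  charDegree_congr (by simp)

namespace Hy

variable (h : Hy α r)
include h

theorem vanish {x : H} (hx : x ∉ CC α) {ψ : H → ℂ} (hψ : IsIrrCharacter H ψ) (h1 : charDegree ψ ≠ 1) :
    ψ x = 0 := by
  obtain ⟨f, hf⟩ := exists_monoidHom_units_ne_one (mt mem_CC.2 hx)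
  have h2 := h.inv _ (hψ.monoidHom_mul f) (by rwa [deg_lin_mul]) x
  rw [h.inv ψ hψ h1] at h2
  by_contra h3
  exact hf (by rw [map_mul, Units.ext (mul_right_cancel₀ h3 h2), map_inv, mul_inv_cancel])

theorem conj {x k : H} (hx : x ∉ CC α) (hk : k ∈ 𝐐) : ∃ u, u * x * u⁻¹ = k * x :=
  isConj_of_vanish hk fun _ hχ h1 => ⟨h.vanish hx hχ h1,
    h.vanish (fun e => hx ((Subgroup.mul_mem_cancel_left _ (le_CC hk)).1 e)) hχ h1⟩

theorem dvd {s : ℕ} (hs : s.Prime) (h1 : s ∣ (CC α).index) {ψ : H → ℂ} (hψ : IsIrrCharacter H ψ)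
    (h2 : charDegree ψ ≠ 1) : s ∣ charDegree ψ :=
  hs.dvd_of_dvd_pow (h1.trans (deg12_index_dvd_sq hψ fun _ hx => h.vanish hx hψ h2))

theorem mem {x : H} (hx : α x * x⁻¹ ∈ CC α) : x ∈ CC α := by
  obtain ⟨ψ, hψ, -, h1⟩ := exists_nonlinear_le_charKer (G := H) ⊥ fun e => h.ne (le_bot_iff.1 e)
  have hc : r.Coprime (CC α).index := h.prime.coprime_iff_not_dvd.2 fun e =>
    h.cop ψ hψ h1 (h.dvd h.prime e hψ h1)
  obtain ⟨k, hk⟩ := h.pow
  have h2 : ∀ y, Abelianization.of (α y) = tau α y * Abelianization.of y := fun y => by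
    rw [tau_apply, ← map_mul, inv_mul_cancel_right]
  have h3 : ∀ n : ℕ, tau α ((α ^ n) x) = tau α x := fun n => by
    induction n with
    | zero => rfl
    | succ n ih =>
      have h4 : tau α (α x) = tau α x := by
        have := MonoidHom.mem_ker.1 hx
        rwa [map_mul, map_inv, mul_inv_eq_one] at this
      have h5 : ∀ m : ℕ, ∀ y z, tau α y = tau α z → tau α (α y) = tau α (α z) := fun m y z e => by
        rw [← mul_inv_eq_one, ← map_inv, ← map_mul] at e ⊢
        rw [← map_inv, ← map_mul]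
        have e' := mem_CC.1 e
        exact mem_CC.2 (by
          rw [← map_inv, ← map_mul]; exact characteristic_iff_le_comap.1 inferInstance α e')
      rw [pow_succ', MulAut.mul_apply, h5 n _ _ ih, h4]
  have h4 : ∀ n : ℕ, Abelianization.of ((α ^ n) x) = tau α x ^ n * Abelianization.of x := fun n => by
    induction n with
    | zero => simp
    | succ n ih => rw [pow_succ', MulAut.mul_apply, h2, h3, ih, pow_succ', mul_assoc]
  have h5 : tau α x ^ r ^ k = 1 := by simpa [hk] using (h4 (r ^ k)).symm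
  have h6 : tau α x ^ (CC α).index = 1 := by
    rw [← map_pow]; exact (CC α).pow_index_mem x
  exact orderOf_eq_one_iff.1 (Nat.eq_one_of_dvd_coprimes (hc.pow_left k) (orderOf_dvd_of_pow_eq_one h5)
    (orderOf_dvd_of_pow_eq_one h6))

section

variable {X : Subgroup H} [X.Characteristic] (hX : X ≤ commutator H)
include hX

theorem orb (f : X →* ℂˣ) : (∃ n : H, α • f = cj n • f) ∧ ¬ r ∣ (St f).index := by
  by_cases h1 : f = 1
  · subst h1
    refine ⟨⟨1, rfl⟩, ?_⟩
    rw [index_eq_one.2 (eq_top_iff.2 fun n _ => mem_St.2 rfl), Nat.dvd_one]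
    exact h.prime.ne_one
  have := Fintype.ofFinite H
  have := Fintype.ofFinite X
  have hf := isIrrCharacter_monoidHom_units f
  obtain ⟨ψ, hψ, hne⟩ := exists_irr_over X hf
  have h2 : charDegree ψ ≠ 1 := fun e => h1 (monoidHom_units_coe_injective
    (eq_one_of_le_charKer_of_over hψ.isCharacter hf hne
      (hX.trans ((charDegree_eq_one_iff_commutator_le hψ).1 e))))
  refine ⟨?_, fun e => h.cop ψ hψ h2 (e.trans (index_inertia_dvd hψ hf hne))⟩
  obtain ⟨n, hn⟩ := mem_conjugates.1 (mem_conjugates_of_under hψ hf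
    (isIrrCharacter_monoidHom_units (α • f)) hne (by
      rw [← classInner_comp_mulEquiv (MulAut.characteristic X α)]
      convert hne using 2
      · exact funext fun x => h.inv ψ hψ h2 x
      · exact funext fun x => congrArg _ (aut_apply _ _ rfl)))
  exact ⟨n⁻¹, by rw [cj_smul, inv_inv]; exact monoidHom_units_coe_injective hn⟩

theorem cover (f : X →* ℂˣ) : ∃ n : H, α • cj n • f = cj n • f := by
  obtain ⟨k, hk⟩ := h.pow
  obtain ⟨⟨m, hm⟩, h1⟩ := h.orb hX f
  obtain ⟨_, ⟨n, rfl⟩, hn⟩ := exists_fix h.prime hk (O := Set.range fun n : H => cj n • f)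
    (Set.finite_range _) (by
      rintro _ ⟨n, rfl⟩
      exact ⟨α n * m, by beta_reduce; rw [aut_cj, hm, cj_mul]⟩) (by
      let _ : MulAction H (X →* ℂˣ) := MulAction.compHom _ (MulAut.conj (G := H))
      have h2 : MulAction.stabilizer H f = St f := Subgroup.ext fun n => mem_St.symm
      have h3 := MulAction.index_stabilizer H f
      rw [h2] at h3
      rwa [h3] at h1)
  exact ⟨n, hn⟩

end

/-- The complement to the commutator subgroup. -/
theorem exists_compl [Group.IsSolvable H] {s : ℕ} (hs : s.Prime) (h1 : s ∣ (CC α).index)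
    (h2 : ¬ s ∣ Nat.card 𝐐) : Group.IsNilpotent 𝐐 ∧ ∃ E : Subgroup H, (∀ a ∈ E, ∀ b ∈ E, a * b = b * a) ∧
      ∀ n, ∃ u ∈ 𝐐, ∃ e ∈ E, n = u * e := by
  have := Fact.mk hs
  obtain ⟨⟨_, x, rfl⟩, hx⟩ := exists_prime_orderOf_dvd_card' (G := (tau α).range) s
    (by rwa [← index_ker])
  rw [← orderOf_coe] at hx
  change orderOf (tau α x) = s at hx
  have h3 : (α x * x⁻¹) ^ s ∈ 𝐐 := by
    rw [← Abelianization.ker_of, MonoidHom.mem_ker, map_pow, ← tau_apply, ← hx, pow_orderOf_eq_one]
  have hc := (hs.coprime_iff_not_dvd.2 h2)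
  obtain ⟨y, y1, y2⟩ : ∃ y : H, y ^ s = 1 ∧ y ∉ CC α := by
    refine ⟨(α x * x⁻¹) ^ Nat.card 𝐐, ?_, fun e => ?_⟩
    · rw [← pow_mul, mul_comm, pow_mul]
      exact congrArg Subtype.val (pow_card_eq_one' (x := (⟨_, h3⟩ : 𝐐)))
    · have h4 : α x * x⁻¹ ∈ CC α := by
        obtain ⟨m, hm⟩ := exists_pow_eq_self_of_coprime (x := tau α (α x * x⁻¹)) (n := Nat.card 𝐐)
          (hc.symm.coprime_dvd_right (orderOf_dvd_of_pow_eq_one (by
            rw [← map_pow]; exact le_CC h3)))
        rw [← map_pow, MonoidHom.mem_ker.1 e, one_pow] at hm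
        exact hm.symm
      rw [MonoidHom.mem_ker.1 (h.mem h4), orderOf_one] at hx
      exact hs.one_lt.ne hx
  have h4 : ∀ k ∈ 𝐐, y * k = k * y → k = 1 := fun k hk e => by
    obtain ⟨u, hu⟩ := h.conj y2 hk
    have h5 : (k * y) ^ s = 1 := by rw [← hu, conj_pow, y1, mul_one, mul_inv_cancel]
    rw [Commute.mul_pow e.symm, y1, mul_one] at h5
    exact orderOf_eq_one_iff.1 (Nat.eq_one_of_dvd_coprimes hc (orderOf_dvd_of_pow_eq_one h5)
      (orderOf_dvd_natCard _ hk))
  refine ⟨GT.Frob.isNilpotent_of_inf_centralizer_eq_bot_of_isSolvable inferInstance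
    (le_normalizer_of_normal (mem_top y)) hs y1 (eq_bot_iff.2 fun k hk =>
      h4 k hk.1 (mem_centralizer_singleton_iff.1 hk.2).symm), centralizer {y}, fun a ha b hb => ?_, fun n => ?_⟩
  · refine commutatorElement_eq_one_iff_mul_comm.1 (h4 _ (commutator_mem_commutator trivial trivial) ?_)
    exact (mem_centralizer_singleton_iff.1 (mul_mem (mul_mem (mul_mem ha hb) (inv_mem ha)) (inv_mem hb))).symm
  · obtain ⟨u, hu, e⟩ := exists_conj_eq_mul_of_fpf h4 (k := n * y * n⁻¹ * y⁻¹)
      (commutator_mem_commutator trivial trivial)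
    refine ⟨u, hu, u⁻¹ * n, mem_centralizer_singleton_iff.2 ?_, by group⟩
    rw [inv_mul_cancel_right] at e
    calc u⁻¹ * n * y = u⁻¹ * (n * y * n⁻¹) * n := by group
      _ = y * (u⁻¹ * n) := by rw [← e]; group

end Hy

end Cfsg.Agent.Deg.Nd
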