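import Mathlib
import Cfsg.Agent.Deg.NdB

/-!
# An automorphism fixing all nonlinear characters: the split case
-/

set_option autoImplicit false

namespace Cfsg.Agent.Deg.Nd

open Cfsg Cfsg.Agent.Ch Subgroup

variable {H : Type*} [Group H]

attribute [local instance] autAct

local notation "cj" => MulAut.conj
local notation "𝐐" => commutator H

theorem exists_lin_extend [Finite H] {K L : Subgroup H} (h : K ≤ L) (φ : K →* ℂˣ)
    (hφ : ∀ x : K, (x : H) ∈ ⁅L, L⁆ → φ x = 1) : ∃ ψ : L →* ℂˣ, ∀ x : K, ψ ⟨x, h x.2⟩ = φ x := by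
  let f : K →* Abelianization L := Abelianization.of.comp (Subgroup.inclusion h)
  have hk : f.rangeRestrict.ker ≤ φ.ker := by
    intro x hx
    rw [MonoidHom.ker_rangeRestrict, MonoidHom.mem_ker, MonoidHom.comp_apply, ← MonoidHom.mem_ker,
      Abelianization.ker_of] at hx
    exact hφ x (map_subtype_commutator L ▸ mem_map_of_mem L.subtype hx)
  obtain ⟨F, hF⟩ := Ch.exists_monoidHom_units_extend (G := Abelianization L) mul_comm f.range
    (f.rangeRestrict.liftOfSurjective f.rangeRestrict_surjective ⟨φ, hk⟩)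
  refine ⟨F.comp Abelianization.of, fun x => ?_⟩
  have := hF (f.rangeRestrict x)
  rw [MonoidHom.liftOfSurjective, MonoidHom.liftOfRightInverse_comp_apply] at this
  exact this

theorem exists_lin [Finite H] {X K : Subgroup H} [K.Normal] (h : ⁅X, X⁆ ≤ K) {x : X} (hx : (x : H) ∉ K) :
    ∃ f : X →* ℂˣ, (∀ y : X, (y : H) ∈ K → f y = 1) ∧ f x ≠ 1 := by
  obtain ⟨f, hf⟩ := exists_monoidHom_units_ne_one_of_comm (G := X ⧸ K.subgroupOf X)
    (Subgroup.Normal.quotient_commutative_iff_commutator_le.2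
      (commutator_le_subgroupOf h)).is_comm.comm
    (g := (x : X ⧸ K.subgroupOf X)) (mt (QuotientGroup.eq_one_iff x).1 hx)
  exact ⟨f.comp (QuotientGroup.mk' _), fun y hy => by
    simp [(QuotientGroup.eq_one_iff (N := K.subgroupOf X) y).2 hy], hf⟩

theorem mem_comm_sub {X : Subgroup H} {x : X} : x ∈ commutator X ↔ (x : H) ∈ ⁅X, X⁆ := by
  rw [← map_subtype_commutator]
  exact (mem_map_iff_mem X.subtype_injective).symm

theorem sm_mul {X : Subgroup H} [X.Characteristic] (σ : MulAut H) (f g : X →* ℂˣ) :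
    σ • (f * g) = σ • f * σ • g := rfl

theorem sm_inv {X : Subgroup H} [X.Characteristic] (σ : MulAut H) (f : X →* ℂˣ) :
    σ • f⁻¹ = (σ • f)⁻¹ := rfl

theorem mi_one {f g : H →* ℂˣ} : f * g⁻¹ = 1 ↔ f = g := mul_inv_eq_one (G := H →* ℂˣ)

theorem mi_swap {Λ : Type*} [CommGroup Λ] {a b c d : Λ} (h : a * b = c * d) : a * c⁻¹ = d * b⁻¹ := by
  rw [mul_inv_eq_iff_eq_mul, mul_right_comm, eq_mul_inv_iff_mul_eq, h, mul_comm]

theorem mi_swap' {Λ : Type*} [CommGroup Λ] {a b c d : Λ} (h : a * c⁻¹ = b * d⁻¹) : a * b⁻¹ = c * d⁻¹ := by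
  rw [mul_inv_eq_iff_eq_mul.1 h, mul_right_comm, mul_right_comm b, mul_inv_cancel, one_mul, mul_comm]

/-- The split situation. -/
structure Hz (α : MulAut H) (r : ℕ) (E : Subgroup H) : Prop extends Hy α r where
  top : CC α ≠ ⊤
  nil : Group.IsNilpotent (commutator H)
  comm : ∀ a ∈ E, ∀ b ∈ E, a * b = b * a
  dec : ∀ n, ∃ u ∈ commutator H, ∃ e ∈ E, n = u * e

variable [Finite H] {α : MulAut H} {r : ℕ} {E : Subgroup H}

namespace Hz

variable (h : Hz α r E)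
include h

section

variable {X : Subgroup H} [X.Characteristic] (hX : X ≤ commutator H)
include hX

theorem fpf {x : H} (hx : x ∉ CC α) {f : X →* ℂˣ} (hf : f ∈ VS X) (h1 : cj x • f = f) : f = 1 := by
  obtain ⟨u, hu, e, he, rfl⟩ := h.dec x
  rw [cj_mul, VS.smul hf _ u hu] at h1
  have h2 : e ∉ CC α := fun k => hx (mul_mem (le_CC hu) k)
  have h3 : Function.Surjective fun u : 𝐐 => (⟨u * (e * u⁻¹ * e⁻¹), mul_mem u.2
      (Normal.conj_mem inferInstance _ (inv_mem u.2) e)⟩ : 𝐐) := fun k => by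
    obtain ⟨n, hn⟩ := h.toHy.conj h2 k.2
    obtain ⟨v, hv, d, hd, rfl⟩ := h.dec n
    refine ⟨⟨v, hv⟩, Subtype.ext ?_⟩
    change v * (e * v⁻¹ * e⁻¹) = k
    calc _ = v * (d * e * d⁻¹) * v⁻¹ * e⁻¹ := by rw [h.comm d hd e he]; group
      _ = v * d * e * (v * d)⁻¹ * e⁻¹ := by group
      _ = k := by rw [hn, mul_inv_cancel_right]
  have h4 : ∀ k ∈ X, e * k = k * e → k = 1 := fun k hk c => congrArg Subtype.val
    (Finite.injective_iff_surjective.2 h3 (a₁ := ⟨k, hX hk⟩) (a₂ := 1) (Subtype.ext (by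
      change k * (e * k⁻¹ * e⁻¹) = 1 * (e * 1⁻¹ * e⁻¹)
      rw [← mul_assoc, ← mul_assoc, ← c]; group)))
  ext1 w
  obtain ⟨v, hv, c⟩ := exists_conj_eq_mul_of_fpf h4 w.2
  have h5 : w = ⟨v, hv⟩ * ⟨e * v⁻¹ * e⁻¹, Normal.conj_mem inferInstance _ (inv_mem hv) e⟩ :=
    Subtype.ext (by change (w : H) = v * (e * v⁻¹ * e⁻¹); rw [← mul_assoc, ← mul_assoc, c]; group)
  have h6 := aut_apply (cj e) f (x := ⟨e * v⁻¹ * e⁻¹, Normal.conj_mem inferInstance _ (inv_mem hv) e⟩)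
    (y := ⟨v, hv⟩⁻¹) rfl
  rw [h1] at h6
  rw [h5, map_mul, h6, map_inv, mul_inv_cancel]
  rfl

theorem hx {n : H} {v : X →* ℂˣ} (hv : v ∈ VS X) (h1 : v ≠ 1) (h2 : α • v = v)
    (h3 : α • cj n • v = cj n • v) : n ∈ CC α := by
  refine h.toHy.mem (by_contra fun k => h1 ?_)
  have h4 := h.fpf hX k (VS.smul hv (cj n)) (by rw [← cj_mul, inv_mul_cancel_right, ← h3, aut_cj, h2])
  rw [← inv_smul_smul (cj n) v, h4]
  rfl

theorem cnt : Nat.card (VS X) + (CC α).index = 1 + (CC α).index * Nat.card ↥(VS X ⊓ fx _ α) :=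
  count MulAut.conj α (VS X) (CC α) (fun _ _ hv => VS.smul hv _) (fun n hn v hv e => by
    rw [aut_cj, e, ← inv_mul_cancel_right (α n) n, cj_mul, VS.smul hv _ _ (mem_CC.1 hn)])
    (fun _ _ hv h1 h2 h3 => h.hx hX hv h1 h2 h3) fun v _ => h.toHy.cover hX v

end

theorem inter {S T : Subgroup (𝐐 →* ℂˣ)} (hS : ∀ n : H, ∀ v ∈ S, cj n • v ∈ S)
    (hT : ∀ n : H, ∀ v ∈ T, cj n • v ∈ T) {v w : 𝐐 →* ℂˣ} (hv : v ∈ S) (hw : w ∈ T) (v1 : v ≠ 1)
    (w1 : w ≠ 1) : ∃ u ∈ S ⊓ T, u ≠ 1 := by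
  by_contra! H0
  have ne : ∀ (n : H) {u : 𝐐 →* ℂˣ}, u ≠ 1 → cj n • u ≠ 1 := fun n u hu e => hu (by
    rw [← inv_smul_smul (cj n) u, e]; rfl)
  obtain ⟨a, ha⟩ := h.toHy.cover le_rfl v
  obtain ⟨b, hb⟩ := h.toHy.cover le_rfl w
  obtain ⟨n, hn⟩ : ∃ n, n ∉ CC α := by
    by_contra! k
    exact h.top (eq_top_iff.2 fun x _ => k x)
  obtain ⟨m, hm⟩ := h.toHy.cover le_rfl (cj a • v * cj n • cj b • w)
  rw [sm_mul, sm_mul] at hm
  have h1 := hS m _ (hS a _ hv)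
  have h2 := hT m _ (hT n _ (hT b _ hw))
  obtain ⟨⟨c, hc⟩, -⟩ := h.toHy.orb le_rfl (cj m • cj a • v)
  obtain ⟨⟨d, hd⟩, -⟩ := h.toHy.orb le_rfl (cj m • cj n • cj b • w)
  have h3 : α • cj m • cj a • v * (cj m • cj a • v)⁻¹ =
      cj m • cj n • cj b • w * (α • cj m • cj n • cj b • w)⁻¹ := mi_swap (Λ := 𝐐 →* ℂˣ) hm
  have h4 := H0 (α • cj m • cj a • v * (cj m • cj a • v)⁻¹) ⟨S.mul_mem (hc ▸ hS c _ h1) (S.inv_mem h1),
    h3 ▸ T.mul_mem h2 (T.inv_mem (hd ▸ hT d _ h2))⟩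
  have h5 := h.hx le_rfl (mem_VS _) (ne a v1) ha (mi_one.1 h4)
  rw [h3, mi_one, ← cj_mul m n] at h4
  exact hn ((Subgroup.mul_mem_cancel_left _ h5).1 (h.hx le_rfl (mem_VS _) (ne b w1) hb h4.symm))

theorem exact_deg (v : 𝐐 →* ℂˣ) : ∃ χ, IsIrrCharacter H χ ∧ charDegree χ = (St v).index := by
  have := Fintype.ofFinite 𝐐
  have hv := isIrrCharacter_monoidHom_units v
  have hT : 𝐐 ≤ St v := le_inertia hv.isClassFunction
  have h1 : ⁅St v, St v⁆ ≤ v.ker.map (𝐐).subtype := commutator_le.2 fun a ha b hb => by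
    obtain ⟨u, hu, e, he, rfl⟩ := h.dec a
    obtain ⟨u', hu', e', he', rfl⟩ := h.dec b
    have k1 := mem_St.1 ((Subgroup.mul_mem_cancel_left _ (hT hu)).1 ha)
    have k2 := mem_St.1 ((Subgroup.mul_mem_cancel_left _ (hT hu')).1 hb)
    refine ⟨⟨u, hu⟩ * ⟨e * u' * e⁻¹, Normal.conj_mem inferInstance _ hu' e⟩ *
      ⟨e' * u⁻¹ * e'⁻¹, Normal.conj_mem inferInstance _ (inv_mem hu) e'⟩ * ⟨u', hu'⟩⁻¹, ?_, ?_⟩
    · have k3 := aut_apply (cj e) v (x := ⟨e * u' * e⁻¹, Normal.conj_mem inferInstance _ hu' e⟩)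
        (y := ⟨u', hu'⟩) rfl
      have k4 := aut_apply (cj e') v
        (x := ⟨e' * u⁻¹ * e'⁻¹, Normal.conj_mem inferInstance _ (inv_mem hu) e'⟩) (y := ⟨u, hu⟩⁻¹) rfl
      rw [k1] at k3
      rw [k2] at k4
      rw [SetLike.mem_coe, MonoidHom.mem_ker, map_mul, map_mul, map_mul, k3, k4, map_inv, map_inv,
        mul_inv_cancel_comm, mul_inv_cancel]
    · change u * (e * u' * e⁻¹) * (e' * u⁻¹ * e'⁻¹) * u'⁻¹ = u * e * (u' * e') * (u * e)⁻¹ * (u' * e')⁻¹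
      have c : e⁻¹ * e' = e' * e⁻¹ := h.comm _ (inv_mem he) _ he'
      calc _ = u * e * u' * (e⁻¹ * e') * u⁻¹ * e'⁻¹ * u'⁻¹ := by group
        _ = _ := by rw [c]; group
  obtain ⟨η, hη⟩ := exists_lin_extend hT v fun x hx => by
    obtain ⟨y, hy, e⟩ := h1 hx
    exact (Subtype.ext e : y = x) ▸ hy
  obtain ⟨χ, hχ, -, h2⟩ := deg12_exists_of_extends hv rfl hT (isCharacter_monoidHom_units η)
    (fun n => congrArg _ (hη n)) IsIrrCharacter.one (fun _ _ => IsCharacter.one.mem_charKer.2 rfl)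
  exact ⟨χ, hχ, by rw [h2, charDegree_one, charDegree_linear, mul_one, mul_one]⟩

theorem index_ne {v : 𝐐 →* ℂˣ} (hv : v ≠ 1) : (St v).index ≠ 1 := fun e => h.top (eq_top_iff.2 fun x _ =>
  by_contra fun hx => hv (h.fpf le_rfl hx (mem_VS v) (mem_St.1 ((index_eq_one.1 e).ge (mem_top x)))))

theorem stab {v : 𝐐 →* ℂˣ} (hv : v ≠ 1) (w : 𝐐 →* ℂˣ) : St v ≤ St w := fun e he => by
  by_contra hw
  let φ : (𝐐 →* ℂˣ) →* (𝐐 →* ℂˣ) := MulDistribMulAction.toMonoidHom _ (cj e) / MonoidHom.id _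
  have hφ : ∀ u, φ u = cj e • u * u⁻¹ := fun u => div_eq_mul_inv _ _
  obtain ⟨_, ⟨h1, u, rfl⟩, h2⟩ := h.inter (S := fx _ (cj e)) (T := φ.range)
    (fun n u hu => by rw [mem_fx, cj_comm, mem_fx.1 hu])
    (by rintro n _ ⟨u, rfl⟩; exact ⟨cj n • u, by rw [hφ, hφ, sm_mul, sm_inv, cj_comm]⟩)
    (mem_St.1 he) ⟨w, rfl⟩ hv (by rw [hφ, Ne, mi_one]; exact mt mem_St.2 hw)
  have h3 : St u ≤ St (φ u) := fun n hn => mem_St.2 (by
    rw [hφ, sm_mul, sm_inv, cj_comm, mem_St.1 hn])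
  obtain ⟨χ, hχ, e1⟩ := h.exact_deg (φ u)
  obtain ⟨ψ, hψ, e2⟩ := h.exact_deg u
  have h4 := h.nd χ ψ hχ hψ (e1 ▸ h.index_ne h2) (e1 ▸ e2 ▸ index_dvd_of_le h3)
  rw [e1, e2] at h4
  have h5 := deg12_eq_of_le_of_index_le h3 h4.ge
  exact h2 (by rw [hφ, mi_one]; exact mem_St.1 (h5.ge (mem_St.2 h1)))

theorem uniq {v : 𝐐 →* ℂˣ} {e : H} (he : e ∉ St v) {θ : 𝐐 → ℂ} {ν : 𝐐 →* ℂˣ}
    (h1 : conjChar e θ = θ) (h2 : conjChar e (fun n => ν n * θ n) = fun n => ν n * θ n) :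
    (fun n => ν n * θ n) = θ := by
  let S : Subgroup (𝐐 →* ℂˣ) :=
    { carrier := {μ | ∀ n, μ n * θ n = θ n}
      one_mem' := fun n => one_mul _
      mul_mem' := fun {a b} ha hb n => by
        rw [MonoidHom.mul_apply, Units.val_mul, mul_assoc, hb, ha]
      inv_mem' := fun {a} ha n => by
        rw [MonoidHom.inv_apply, ← ha n, ← mul_assoc, Units.inv_mul, one_mul, ha] }
  have h3 : ∀ a b : 𝐐 →* ℂˣ, linConj e a * a⁻¹ = linConj e b * b⁻¹ → a = b := fun a b c => by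
    by_contra k
    exact he (h.stab (v := a * b⁻¹) (mt mi_one.1 k) v (mem_inertia_lin.2 (mi_swap' (Λ := 𝐐 →* ℂˣ) c)))
  have h4 : ∀ a ∈ S, linConj e a ∈ S := fun a ha n => by
    rw [← h1]
    exact ha _
  have h5 : linConj e ν * ν⁻¹ ∈ S := fun n => by
    have k : (linConj e ν n : ℂ) * conjChar e θ n = ν n * θ n := congrFun h2 n
    rw [h1] at k
    rw [MonoidHom.mul_apply, MonoidHom.inv_apply, Units.val_mul, mul_right_comm, k, mul_right_comm,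
      Units.mul_inv, one_mul]
  obtain ⟨u, hu⟩ := (Finite.injective_iff_surjective (f := fun u : S =>
    (⟨linConj e u.1 * u.1⁻¹, S.mul_mem (h4 u u.2) (S.inv_mem u.2)⟩ : S))).1
    (fun a b c => Subtype.ext (h3 _ _ (congrArg Subtype.val c))) ⟨_, h5⟩
  exact funext (h3 _ _ (congrArg Subtype.val hu) ▸ u.2 : ν ∈ S)

theorem small (v : 𝐐 →* ℂˣ) {θ : 𝐐 → ℂ} (hθ : IsIrrCharacter 𝐐 θ) {ν : 𝐐 →* ℂˣ}
    (h1 : (fun n => ν n * θ n) ≠ θ) :
    ∃ θ', IsIrrCharacter 𝐐 θ' ∧ charDegree θ' = charDegree θ ∧ inertia 𝐐 θ' ≤ St v := by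
  by_cases h2 : inertia 𝐐 θ ≤ St v
  · exact ⟨θ, hθ, rfl, h2⟩
  obtain ⟨d, hd, hd'⟩ := SetLike.not_le_iff_exists.1 h2
  have h3 := hθ.monoidHom_mul ν
  refine ⟨_, h3, deg_lin_mul ν, fun e he => by_contra fun he' => h1 (h.uniq hd' hd ?_)⟩
  have h4 : conjChar d (fun n => ν n * θ n) = fun n => (linConj d ν * ν⁻¹) n * (ν n * θ n) := by
    funext n
    change (linConj d ν n : ℂ) * conjChar d θ n = _
    rw [mem_inertia'.1 hd, MonoidHom.mul_apply, MonoidHom.inv_apply, Units.val_mul, mul_assoc,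
      ← mul_assoc _ (ν n : ℂ), Units.inv_mul, one_mul]
  rw [h4]
  refine h.uniq he' he ?_
  rw [← h4, ← conjChar_mul, show d * e = (d * e * d⁻¹ * e⁻¹) * (e * d) by group, conjChar_mul,
    conjChar_of_mem h3.isClassFunction (g := d * e * d⁻¹ * e⁻¹) (commutator_mem_commutator trivial trivial),
    conjChar_mul, mem_inertia'.1 he]

theorem exists_k {v : 𝐐 →* ℂˣ} (hv : v ≠ 1) : ∃ k : 𝐐, k ∉ commutator 𝐐 ∧ α k * (k : H)⁻¹ ∈ ⁅𝐐, 𝐐⁆ := by
  obtain ⟨n, hn⟩ := h.toHy.cover le_rfl v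
  have h1 : cj n • v ≠ 1 := fun e => hv (by rw [← inv_smul_smul (cj n) v, e]; rfl)
  generalize cj n • v = w at hn h1
  by_contra! H0
  let β := MulAut.characteristic 𝐐 α
  let σ : Abelianization 𝐐 →* Abelianization 𝐐 := Abelianization.lift (tau β)
  have h2 : Function.Injective σ := (injective_iff_map_eq_one σ).2 fun a ha => by
    obtain ⟨k, rfl⟩ := QuotientGroup.mk_surjective a
    exact (QuotientGroup.eq_one_iff k).2 (by_contra fun hk => H0 k hk (mem_comm_sub.1 (mem_CC.1 ha)))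
  have : Finite (Abelianization 𝐐) := Quotient.finite _
  refine h1 (MonoidHom.ext fun x => ?_)
  obtain ⟨a, ha⟩ := Finite.injective_iff_surjective.1 h2 (Abelianization.of x)
  obtain ⟨k, rfl⟩ := QuotientGroup.mk_surjective a
  have h3 : Abelianization.of (β k * k⁻¹) = Abelianization.of x := (tau_apply β k).symm.trans ha
  have h4 := congrArg (Abelianization.lift w) h3
  rw [Abelianization.lift_apply_of, Abelianization.lift_apply_of, map_mul, map_inv, ← hn,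
    aut_apply α w (x := β k) (y := k) rfl, hn, mul_inv_cancel] at h4
  exact h4.symm

theorem not_camina {v : 𝐐 →* ℂˣ} (hv : v ≠ 1) (hn : ⁅𝐐, 𝐐⁆ ≠ ⊥)
    (H0 : ∀ θ, IsIrrCharacter 𝐐 θ → charDegree θ ≠ 1 → ∀ ν : 𝐐 →* ℂˣ, (fun n => ν n * θ n) = θ) : False := by
  obtain ⟨k, hk, hk'⟩ := h.exists_k hv
  have hle : ⁅𝐐, 𝐐⁆ ≤ 𝐐 := commutator_le_left _ _
  have van : ∀ θ, IsIrrCharacter 𝐐 θ → charDegree θ ≠ 1 → ∀ x ∉ commutator 𝐐, θ x = 0 := fun θ hθ h1 x hx => by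
    obtain ⟨f, hf⟩ := exists_monoidHom_units_ne_one hx
    exact (mul_left_eq_self₀.1 (congrFun (H0 θ hθ h1 f) x)).resolve_left fun e => hf (Units.ext e)
  have cm : ∀ {a b : H}, a ∈ 𝐐 → b ∈ 𝐐 → a * b * a⁻¹ * b⁻¹ ∈ ⁅𝐐, 𝐐⁆ := fun ha hb =>
    commutator_mem_commutator ha hb
  let j : VS ⁅𝐐, 𝐐⁆ →* (𝐐 →* ℂˣ) := MonoidHom.mk' (fun μ => MonoidHom.mk'
    (fun u => μ.1 ⟨u * k * (u : H)⁻¹ * (k : H)⁻¹, cm u.2 k.2⟩) fun u w => by
      rw [mul_comm, ← VS.conj μ.2 u.2 (x := ⟨w * k * (w : H)⁻¹ * (k : H)⁻¹, cm w.2 k.2⟩)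
        (y := ⟨_, Normal.conj_mem inferInstance _ (cm w.2 k.2) (u : H)⟩) rfl, ← map_mul]
      congr 1
      refine Subtype.ext ?_
      simp only [coe_mul]
      group) fun _ _ => rfl
  have hj : ∀ (μ : VS ⁅𝐐, 𝐐⁆) (u : 𝐐), j μ u = μ.1 ⟨u * k * (u : H)⁻¹ * (k : H)⁻¹, cm u.2 k.2⟩ :=
    fun _ _ => rfl
  have inj : Function.Injective j := (injective_iff_map_eq_one j).2 fun μ e => Subtype.ext (by
    ext1 w
    obtain ⟨u, hu⟩ := isConj_of_vanish (x := k) (k := ⟨w, hle w.2⟩) (mem_comm_sub.2 w.2) fun θ hθ h1 =>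
      ⟨van θ hθ h1 k hk, van θ hθ h1 _ fun c =>
        hk ((Subgroup.mul_mem_cancel_left _ (mem_comm_sub.2 w.2)).1 c)⟩
    have h1 : w = ⟨u * k * (u : H)⁻¹ * (k : H)⁻¹, cm u.2 k.2⟩ :=
      Subtype.ext (eq_mul_inv_of_mul_eq (congrArg Subtype.val hu).symm)
    rw [h1, ← hj, e]
    rfl)
  have eqv : ∀ μ : VS ⁅𝐐, 𝐐⁆, j ⟨α • μ.1, VS.smul μ.2 α⟩ = α • j μ := fun μ => by
    ext1 u
    obtain ⟨u, rfl⟩ := (MulAut.characteristic 𝐐 α).surjective u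
    have m1 : α u ∈ 𝐐 := (MulAut.characteristic 𝐐 α u).2
    have m2 : α k ∈ 𝐐 := (MulAut.characteristic 𝐐 α k).2
    rw [aut_apply α (j μ) (y := u) rfl, hj, hj,
      ← aut_apply α μ.1 (x := ⟨_, cm m1 m2⟩) (y := ⟨_, cm u.2 k.2⟩) (by simp)]
    have e : (⟨_, cm m1 m2⟩ : ↥⁅𝐐, 𝐐⁆) = ⟨_, Normal.conj_mem inferInstance _ hk' (α u)⟩ *
        ⟨α u * k * (α u)⁻¹ * (k : H)⁻¹, cm m1 k.2⟩ * ⟨_, hk'⟩⁻¹ := Subtype.ext (by
      simp only [coe_mul, coe_inv]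
      group)
    rw [e, map_mul, map_mul, VS.conj (VS.smul μ.2 α) m1 (x := ⟨_, hk'⟩)
      (y := ⟨_, Normal.conj_mem inferInstance _ hk' (α u)⟩) rfl, map_inv, mul_inv_cancel_comm]
    rfl
  have c1 := h.cnt (X := 𝐐) le_rfl
  have c2 := h.cnt hle
  rw [show VS 𝐐 = ⊤ from eq_top_iff.2 fun f _ => mem_VS f, top_inf_eq] at c1
  have c3 : Nat.card (VS ⁅𝐐, 𝐐⁆) = Nat.card j.range := Nat.card_congr (MonoidHom.ofInjective inj).toEquiv
  have c4 : Nat.card ↥(VS ⁅𝐐, 𝐐⁆ ⊓ fx _ α) = Nat.card (j.range.subgroupOf (fx _ α)) := by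
    rw [inf_comm, ← subgroupOf_map_subtype, card_map_of_injective (subtype_injective _),
      ← card_map_of_injective inj, ← card_map_of_injective (subtype_injective (fx _ α)),
      subgroupOf_map_subtype]
    congr 2
    ext f
    constructor
    · rintro ⟨μ, hμ, rfl⟩
      exact ⟨⟨μ, rfl⟩, mem_fx.2 (by rw [← eqv]; exact congrArg j (Subtype.ext hμ))⟩
    · rintro ⟨⟨μ, rfl⟩, hμ⟩
      exact ⟨μ, congrArg Subtype.val (inj ((eqv μ).trans hμ)), rfl⟩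
  rw [c3, c4] at c2
  have two : ∀ {n : ℕ}, n ≠ 0 → n ≠ 1 → 2 ≤ n := fun _ _ => by omega
  have : j.range.Normal := ⟨fun a ha b => by
    rwa [show b * a * b⁻¹ = a from mul_inv_cancel_comm (G := 𝐐 →* ℂˣ) b a]⟩
  refine arith c1 c2 (by rw [card_mul_index, card_top]) (card_mul_index _)
    (relIndex_dvd_index_of_normal _ _) (two index_ne_zero_of_finite fun e => ?_)
    (two index_ne_zero_of_finite (mt index_eq_one.1 h.top)) (two Nat.card_pos.ne' fun e => ?_)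
  · obtain ⟨f, hf⟩ := exists_monoidHom_units_ne_one hk
    obtain ⟨μ, rfl⟩ := (index_eq_one.1 e).ge (mem_top f)
    exact hf (by rw [hj]; simp [show ∀ p, (⟨1, p⟩ : ↥⁅𝐐, 𝐐⁆) = 1 from fun _ => rfl])
  · have := h.nil
    have h1 : commutator 𝐐 ≠ ⊥ := fun c => hn (by rw [← map_subtype_commutator, c, Subgroup.map_bot])
    obtain ⟨w, hw, hw'⟩ := SetLike.exists_of_lt (GT.PG.commutator_top_lt _ h1)
    obtain ⟨f, f1, f2⟩ := exists_lin (X := ⁅𝐐, 𝐐⁆) (K := ⁅⁅𝐐, 𝐐⁆, 𝐐⁆) (commutator_mono le_rfl hle)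
      (x := ⟨w, mem_comm_sub.1 hw⟩) fun c => hw' (by
        rw [← mem_map_iff_mem (subtype_injective _), map_commutator, map_subtype_commutator,
          ← MonoidHom.range_eq_map, range_subtype]
        exact c)
    have h2 : f ∈ VS ⁅𝐐, 𝐐⁆ := fun q hq => by
      ext1 x
      rw [aut_apply (cj q) f (y := ⟨q⁻¹ * x * q⁻¹⁻¹, Normal.conj_mem inferInstance _ x.2 _⟩) (by simp [mul_assoc]),
        eq_comm, ← mul_inv_eq_one, ← map_inv, ← map_mul]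
      refine f1 _ ?_
      have := commutator_mem_commutator x.2 (inv_mem hq)
      rw [commutatorElement_def] at this
      simpa [mul_assoc] using this
    rw [← c3, card_eq_one] at e
    rw [e, mem_bot] at h2
    exact f2 (by rw [h2]; rfl)

theorem two : ∃ a, ∀ ψ, IsIrrCharacter H ψ → charDegree ψ ≠ 1 → charDegree ψ = a := by
  have := Fintype.ofFinite H
  have := Fintype.ofFinite 𝐐
  have := h.nil
  have : Nontrivial 𝐐 := (nontrivial_iff_ne_bot _).2 h.ne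
  obtain ⟨x, -, hx⟩ := SetLike.exists_of_lt (Group.IsSolvable.commutator_lt_top_of_nontrivial 𝐐)
  obtain ⟨v, hv'⟩ := exists_monoidHom_units_ne_one hx
  have hv : v ≠ 1 := fun e => hv' (by rw [e]; rfl)
  obtain ⟨χ, hχ, e⟩ := h.exact_deg v
  have key : ∀ θ, IsIrrCharacter 𝐐 θ → inertia 𝐐 θ ≤ St v → ∀ ψ, IsIrrCharacter H ψ →
      classInner (fun n : 𝐐 => ψ n) θ ≠ 0 → charDegree ψ = (St v).index ∧ charDegree θ = 1 :=
    fun θ hθ h1 ψ hψ hne => by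
      have h2 := (Nat.mul_dvd_mul_right (index_dvd_of_le h1) _).trans (index_inertia_mul_dvd hψ hθ hne)
      have h3 := h.nd χ ψ hχ hψ (e ▸ h.index_ne hv) (e ▸ (Dvd.intro _ rfl).trans h2)
      rw [← h3, e] at h2
      refine ⟨h3 ▸ e, Nat.dvd_one.1 (Nat.dvd_of_mul_dvd_mul_left
        (Nat.pos_of_ne_zero (index_ne_zero_of_finite (H := St v))) (by rwa [mul_one]))⟩
  have lin : ∀ θ, IsIrrCharacter 𝐐 θ → charDegree θ = 1 := by
    by_contra! H0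
    obtain ⟨θ₀, h0, h0'⟩ := H0
    refine h.not_camina hv (fun c => h0' ((charDegree_eq_one_iff_commutator_le h0).2 fun y hy => ?_))
      fun θ hθ h1 ν => by_contra fun h2 => ?_
    · obtain rfl : y = 1 := Subtype.ext (mem_bot.1 (c ▸ mem_comm_sub.1 hy))
      exact one_mem _
    · obtain ⟨θ', h3, h4, h5⟩ := h.small v hθ h2
      obtain ⟨ψ, hψ, hne⟩ := exists_irr_over _ h3
      exact h1 (h4 ▸ (key θ' h3 h5 ψ hψ hne).2)
  refine ⟨(St v).index, fun ψ hψ h1 => ?_⟩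
  obtain ⟨θ, hθ, hne⟩ := exists_irr_under 𝐐 hψ
  obtain ⟨f, rfl⟩ := hθ.isCharacter.exists_monoidHom_of_apply_one
    (hθ.isCharacter.charDegree_eq_one_iff.1 (lin θ hθ))
  refine (key _ hθ (h.stab (fun c => h1 ?_) v) ψ hψ hne).1
  subst c
  exact (charDegree_eq_one_iff_commutator_le hψ).2 (hψ.le_charKer_of_classInner_one _ hne)

end Hz

/-- All nonlinear characters have one degree. -/
theorem Hy.two [Group.IsSolvable H] (h : Hy α r) (ht : CC α ≠ ⊤) :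
    ∃ a, ∀ ψ, IsIrrCharacter H ψ → charDegree ψ ≠ 1 → charDegree ψ = a := by
  obtain ⟨s, hs, h1⟩ := Nat.exists_prime_and_dvd (mt index_eq_one.1 ht)
  have h2 := degT_thompson hs fun χ hχ => h.dvd hs h1 hχ
  by_cases h3 : 𝐐 ≤ pResidual s H
  · obtain ⟨h4, E, h5, h6⟩ := h.exists_compl hs h1 fun e => h2 (e.trans (card_dvd_of_le h3))
    exact Hz.two ⟨h, ht, h4, h5, h6⟩
  · obtain ⟨b, hb⟩ := h.nd.two_of_pRes hs h2 h3
    exact ⟨_, hb⟩

end Cfsg.Agent.Deg.Nd
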