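import Mathlib
import Cfsg.Agent.Deg.GraphD
import Cfsg.Agent.Deg.Ito
import Cfsg.Agent.Ch.Deg12D
import Cfsg.Agent.GT.Fitting
import Cfsg.Agent.GT.Frattini
import Cfsg.Agent.GT.CoprimeFixed
import Cfsg.Agent.GT.PGroupChain
import Cfsg.Agent.GT.Supersolvable2

/-!
# Character degrees of solvable groups: small tools, squarefree degrees
-/

set_option autoImplicit false
set_option linter.style.haveILetI false

namespace Cfsg.Agent.Deg.Pal

open Cfsg Cfsg.Agent.Ch Cfsg.Agent.GT Cfsg.Agent.GT.CopAct Subgroup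
open scoped commutatorElement

variable {G : Type*} [Group G]

theorem comm_le_iff {A B N : Subgroup G} [N.Normal] : ⁅A, B⁆ ≤ N ↔
    A.map (QuotientGroup.mk' N) ≤
      centralizer ((B.map (QuotientGroup.mk' N) : Subgroup (G ⧸ N)) : Set (G ⧸ N)) := by
  rw [← commutator_eq_bot_iff_le_centralizer, ← map_commutator, Subgroup.map_eq_bot_iff,
    QuotientGroup.ker_mk']

theorem comm_iSup_le {ι κ : Sort*} {A : ι → Subgroup G} {B : κ → Subgroup G} {N : Subgroup G}
    [N.Normal] (h : ∀ i j, ⁅A i, B j⁆ ≤ N) : ⁅⨆ i, A i, ⨆ j, B j⁆ ≤ N := by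
  rw [comm_le_iff, Subgroup.map_iSup]
  refine iSup_le fun i => ?_
  rw [le_centralizer_iff, Subgroup.map_iSup]
  exact iSup_le fun j => le_centralizer_iff.1 (comm_le_iff.1 (h i j))

/-- Elements fixing every linear character of `D` act trivially on `D / D'`. -/
theorem comm_le_of_linConj [Finite G] {D S : Subgroup G} [hD : D.Normal]
    (h : ∀ g ∈ S, ∀ f : D →* ℂˣ, linConj g f = f) : ⁅D, S⁆ ≤ ⁅D, D⁆ := by
  rw [commutator_comm, commutator_le]
  intro g hg d hd
  have hm : ⁅g, d⁆ ∈ D := by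
    rw [commutatorElement_def]; exact D.mul_mem (hD.conj_mem d hd g) (D.inv_mem hd)
  have : (⟨_, hm⟩ : D) ∈ ⁅D, D⁆.subgroupOf D := by
    rw [Gr.subgroupOf_commutator_dgr]
    by_contra hc
    obtain ⟨f, hf⟩ := exists_monoidHom_units_ne_one hc
    apply hf
    have e : (⟨_, hm⟩ : D) = ⟨g * d * g⁻¹, hD.conj_mem d hd g⟩ * (⟨d, hd⟩ : D)⁻¹ :=
      Subtype.ext (commutatorElement_def g d)
    have := congrArg (fun φ : D →* ℂˣ => φ ⟨d, hd⟩) (h g hg f)
    simp only [linConj_apply] at this
    rw [e, map_mul, map_inv, this, mul_inv_cancel]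
  exact this

theorem le_cent_of_comm_le [Finite G] {D S : Subgroup G} [Group.IsNilpotent D]
    (hc : (Nat.card S).Coprime (Nat.card D)) (h : ⁅D, S⁆ ≤ ⁅D, D⁆) :
    S ≤ centralizer (D : Set G) := by
  refine le_centralizer_of_commutator_le_frattini' hc (h.trans ?_)
  have : ⁅D, D⁆ = (_root_.commutator D).map D.subtype := by
    rw [_root_.commutator_def, map_commutator, ← MonoidHom.range_eq_map, range_subtype]
  rw [this]
  exact map_mono commutator_le_frattini_of_isNilpotent

theorem relIndex_dvd_index_left [Finite G] (I X : Subgroup G) [X.Normal] :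
    I.relIndex X ∣ I.index := by
  obtain ⟨z, hz⟩ := relIndex_dvd_index_of_normal X I
  have h1 : I.relIndex X * X.index = X.relIndex I * I.index := by
    rw [← inf_relIndex_right, relIndex_mul_index inf_le_right, ← inf_relIndex_right X I,
      relIndex_mul_index inf_le_right, inf_comm]
  have h0 : X.relIndex I ≠ 0 := index_ne_zero_of_finite
  refine ⟨z, Nat.eq_of_mul_eq_mul_left (Nat.pos_of_ne_zero h0) ?_⟩
  rw [← h1, hz]; ring

theorem eq_of_sqfree_dvd {p k d : ℕ} (hp : p.Prime) (h : d ∣ p ^ k) (hs : Squarefree d)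
    (h1 : d ≠ 1) : d = p := by
  obtain ⟨j, -, rfl⟩ := (Nat.dvd_prime_pow hp).1 h
  rcases (Nat.squarefree_pow_iff hp.ne_one (by rintro rfl; simp at h1)).1 hs with ⟨-, rfl⟩
  exact pow_one p

variable [Finite G]

theorem sqf_fitting (h : ∀ χ, IsIrrCharacter G χ → Squarefree (charDegree χ)) :
    ⁅⁅fittingSubgroup G, fittingSubgroup G⁆, ⁅fittingSubgroup G, fittingSubgroup G⁆⁆ = ⊥ := by
  have hp : ∀ p q : Nat.Primes, p ≠ q → ⁅pCore (p : ℕ) G, pCore (q : ℕ) G⁆ = ⊥ := fun p q hpq =>
    commutator_eq_bot_of_inf_eq_bot (pCore_inf_pCore p.2 q.2 fun e => hpq (Subtype.ext e))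
  have h1 : ⁅fittingSubgroup G, fittingSubgroup G⁆ ≤
      ⨆ p : Nat.Primes, ⁅pCore (p : ℕ) G, pCore (p : ℕ) G⁆ := by
    rw [fitting_eq_iSup_pCore]
    refine comm_iSup_le fun p q => ?_
    by_cases e : p = q
    · subst e; exact le_iSup (fun p : Nat.Primes => ⁅pCore (p : ℕ) G, pCore (p : ℕ) G⁆) p
    · rw [hp p q e]; exact bot_le
  refine le_bot_iff.1 ((commutator_mono h1 h1).trans (comm_iSup_le fun p q => ?_))
  by_cases e : p = q
  · subst e
    haveI := Fact.mk p.2
    refine (deg12_comm_comm (m := p) _ fun θ hθ h1 => ?_).le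
    obtain ⟨k, hk⟩ := exists_charDegree_eq_pow (isPGroup_pCore (G := G) p) hθ
    obtain ⟨χ, hχ, hd⟩ := exists_dvd_charDegree_of_subgroup _ hθ
    exact eq_of_sqfree_dvd p.2 hk.dvd ((h χ hχ).squarefree_of_dvd hd) h1
  · exact (commutator_mono (commutator_le_left _ _) (commutator_le_left _ _)).trans (hp p q e).le

/-- A normal subgroup `K ≥ F(G)` with `K / F(G)` a `p`-group fixing all linear characters of
`O_{p'}(F(G))` equals `F(G)`. -/
theorem le_fitting_of_fix {p k : ℕ} (hp : p.Prime) {K : Subgroup G} [K.Normal]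
    (hF : fittingSubgroup G ≤ K) (hk : (fittingSubgroup G).relIndex K = p ^ k)
    (h : ∀ g ∈ K, ∀ f : (fittingSubgroup G ⊓ pPrimeCore p G : Subgroup G) →* ℂˣ,
      linConj g f = f) : K ≤ fittingSubgroup G := by
  haveI := Fact.mk hp
  set F := fittingSubgroup G
  set D : Subgroup G := F ⊓ pPrimeCore p G
  haveI : Group.IsNilpotent D := isNilpotent_of_le (inf_le_left : D ≤ F)
  have hD : ¬ p ∣ Nat.card D := fun h1 =>
    not_dvd_card_pPrimeCore hp (h1.trans (card_dvd_of_le inf_le_right))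
  obtain ⟨S⟩ : Nonempty (Sylow p K) := inferInstance
  let S' : Subgroup G := (S : Subgroup K).map K.subtype
  have hS : IsPGroup p S' := S.isPGroup'.map _
  have hSK : S' ≤ K := map_subtype_le _
  have hc : S' ≤ centralizer (D : Set G) :=
    le_cent_of_comm_le (coprime_of_isPGroup_left hS hD)
      (comm_le_of_linConj fun g hg => h g (hSK hg))
  have hFD : F = pCore p G ⊔ D := by
    refine le_antisymm ?_ (sup_le (pCore_le_fitting hp) inf_le_left)
    have := fitting_le_pCore_sup (G := G) p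
    intro x hx
    obtain ⟨a, ha, b, hb, rfl⟩ := (mem_sup_of_normal_left).1 (this hx)
    exact mul_mem (mem_sup_left ha) (mem_sup_right ⟨by
      simpa using F.mul_mem (F.inv_mem (pCore_le_fitting hp ha)) hx, hb⟩)
  have h1 : D.relIndex K ∣ Nat.card (pCore p G) * p ^ k := by
    rw [← relIndex_mul_relIndex D F K inf_le_left hF, hk]
    refine Nat.mul_dvd_mul_right ?_ _
    conv_lhs => rw [hFD]
    rw [relIndex_sup_right]
    exact relIndex_dvd_card _ _
  obtain ⟨a, ha⟩ := IsPGroup.iff_card.1 (isPGroup_pCore (G := G) p)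
  rw [ha, ← pow_add] at h1
  have h2 : (S' ⊔ D).relIndex K = 1 := by
    have d1 := (relIndex_dvd_of_le_left K (le_sup_right : D ≤ S' ⊔ D)).trans h1
    have d2 := relIndex_dvd_of_le_left K (le_sup_left : S' ≤ S' ⊔ D)
    have e : S'.relIndex K = (S : Subgroup K).index := by
      rw [relIndex, subgroupOf_map_subtype_self]
    rw [e] at d2
    exact Nat.eq_one_of_dvd_coprimes
      (((Nat.Prime.coprime_iff_not_dvd hp).2 S.not_dvd_index).pow_left _) d1 d2
  haveI : Group.IsNilpotent S' := hS.isNilpotent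
  haveI : Group.IsNilpotent (S' ⊔ D : Subgroup G) := isNilpotent_sup_of_le_centralizer hc
  haveI : Group.IsNilpotent K := isNilpotent_of_le (relIndex_eq_one.1 h2)
  exact le_fitting K

theorem sqf_card_pCore (h : ∀ χ, IsIrrCharacter G χ → Squarefree (charDegree χ)) {p : ℕ}
    (hp : p.Prime) : Nat.card (pCore p (G ⧸ fittingSubgroup G)) ∣ p := by
  haveI := Fact.mk hp
  set F := fittingSubgroup G
  set D : Subgroup G := F ⊓ pPrimeCore p G
  set X : Subgroup G := (pCore p (G ⧸ F)).comap (QuotientGroup.mk' F)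
  have hFX : F ≤ X := fun x hx => by
    simp only [X, mem_comap, QuotientGroup.mk'_apply, (QuotientGroup.eq_one_iff x).2 hx, one_mem]
  have hcard : F.relIndex X = Nat.card (pCore p (G ⧸ F)) := by
    conv_lhs => rw [← QuotientGroup.ker_mk' F]
    rw [relIndex_ker, map_comap_eq_self_of_surjective (QuotientGroup.mk'_surjective F)]
  obtain ⟨k, hk⟩ := IsPGroup.iff_card.1 (isPGroup_pCore (G := G ⧸ F) p)
  have hD : ¬ p ∣ Nat.card D := fun h1 =>
    not_dvd_card_pPrimeCore hp (h1.trans (card_dvd_of_le inf_le_right))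
  have hFI : ∀ f : D →* ℂˣ, F ≤ inertia D fun n => (f n : ℂ) := by
    intro f x hx
    obtain ⟨a, ha, b, hb, rfl⟩ := (mem_sup_of_normal_left).1 (fitting_le_pCore_sup (G := G) p hx)
    have hb' : b ∈ D := ⟨by simpa using F.mul_mem (F.inv_mem (pCore_le_fitting hp ha)) hx, hb⟩
    refine mul_mem (mem_inertia_lin.2 (MonoidHom.ext fun n => ?_))
      (mem_inertia_lin.2 (linConj_of_mem hb' f))
    have := pCore_le_centralizer (N := D) ((Nat.Prime.coprime_iff_not_dvd hp).2 hD).symm ha n n.2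
    rw [linConj_apply]
    congr 1
    exact Subtype.ext (by simp only [← this]; group)
  let T : (D →* ℂˣ) → Subgroup X := fun f => (inertia D fun n => (f n : ℂ)).subgroupOf X
  have hT : ∀ f, T f ≠ ⊤ → (T f).index = p ∧ (T f).Normal := by
    intro f hf
    have h1 : (T f).index = p := by
      refine eq_of_sqfree_dvd (k := k) hp ?_ ?_ (mt index_eq_one.1 hf)
      · rw [← hk, ← hcard]; exact relIndex_dvd_of_le_left X (hFI f)
      · obtain ⟨χ, hχ, hl⟩ := Gr.exists_lies_over (isIrrCharacter_monoidHom_units f)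
        exact (h χ hχ).squarefree_of_dvd ((relIndex_dvd_index_left _ X).trans
          ((Dvd.intro _ rfl).trans (hl.dvd hχ (isIrrCharacter_monoidHom_units f))))
    refine ⟨h1, ?_⟩
    have hle : F.subgroupOf X ≤ T f := subgroupOf_mono X (hFI f)
    have hP : IsPGroup p (X ⧸ F.subgroupOf X) := IsPGroup.of_card (n := k) (by
      rw [← hk, ← hcard]; rfl)
    have h2 : ((T f).map (QuotientGroup.mk' (F.subgroupOf X))).index = p := by
      rw [index_map_eq _ (QuotientGroup.mk'_surjective _) (by rwa [QuotientGroup.ker_mk']), h1]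
    have := PG.normal_of_index_prime hP h2
    rw [← comap_map_eq_self (f := QuotientGroup.mk' (F.subgroupOf X)) (H := T f)
      (by rwa [QuotientGroup.ker_mk'])]
    infer_instance
  letI := Gr.linAct D
  let K : Subgroup G := X ⊓ (MulAction.toPermHom G (D →* ℂˣ)).ker
  have hK : ∀ {g : G}, g ∈ K ↔ g ∈ X ∧ ∀ f : D →* ℂˣ, linConj g f = f := by
    intro g
    rw [← X.inv_mem_iff, ← K.inv_mem_iff]
    simp only [K, mem_inf, MonoidHom.mem_ker, Equiv.ext_iff, MulAction.toPermHom_apply,
      MulAction.toPerm_apply, Equiv.Perm.coe_one, id]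
    refine and_congr_right fun _ => forall_congr' fun f => ?_
    show linConj g⁻¹⁻¹ f = f ↔ _
    rw [inv_inv]
  have hFK : F ≤ K := fun x hx => hK.2 ⟨hFX hx, fun f => mem_inertia_lin.1 (hFI f hx)⟩
  obtain ⟨j, -, hj⟩ := (Nat.dvd_prime_pow hp).1
    ((Dvd.intro _ (relIndex_mul_relIndex F K X hFK inf_le_left)).trans (hcard.trans hk).dvd)
  have hKF : K ≤ F := le_fitting_of_fix hp hFK hj fun g hg => (hK.1 hg).2
  rw [← hcard]
  by_cases hall : ∀ f, T f = ⊤
  · have : X ≤ F := fun x hx => hKF (hK.2 ⟨hx, fun f => mem_inertia_lin.1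
      (show (⟨x, hx⟩ : X) ∈ T f by rw [hall f]; trivial)⟩)
    rw [relIndex_eq_one.2 this]; exact one_dvd _
  · push Not at hall
    obtain ⟨f, hf⟩ := hall
    have hle : ∀ f', T f ≤ T f' := deg12_stab_le (G := X) (fun x => linConj (x : G))
      (fun a b f => linConj_mul _ _ f) T (fun {g f} => mem_inertia_lin)
      (k := p ^ k) (n := Nat.card D) (fun g f => mem_inertia_lin.1 (hFI f (by
        rw [← hk, ← hcard]; exact pow_relIndex_mem F g.2)))
      (fun f => MonoidHom.ext fun n => by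
        rw [MonoidHom.pow_apply, ← map_pow, pow_card_eq_one', map_one]; rfl)
      (((Nat.Prime.coprime_iff_not_dvd hp).2 hD).symm.pow_right _) hT hf
    rw [← (hT f hf).1]
    exact index_dvd_of_le fun x hx => hKF (hK.2 ⟨x.2, fun f' => mem_inertia_lin.1 (hle f' hx)⟩)

theorem sqf_derived [Group.IsSolvable G]
    (h : ∀ χ, IsIrrCharacter G χ → Squarefree (charDegree χ)) : derivedSeries G 4 = ⊥ := by
  set F := fittingSubgroup G
  have h1 : _root_.commutator (G ⧸ F) ≤ centralizer (fittingSubgroup (G ⧸ F) : Set (G ⧸ F)) := by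
    rw [le_centralizer_iff, fitting_le_iff]
    intro p hp
    haveI := Fact.mk hp
    haveI : IsCyclic (pCore p (G ⧸ F)) := isCyclic_of_card_dvd_prime (sqf_card_pCore h hp)
    exact le_centralizer_iff.1 (SS.commutator_le_centralizer_of_isCyclic _)
  have h2 : ⁅_root_.commutator G, _root_.commutator G⁆ ≤ F := by
    rw [comm_le_iff, ← deg12_commutator_quotient]
    exact h1.trans (centralizer_le (h1.trans centralizer_fitting_le))
  have h3 := commutator_mono h2 h2
  exact le_bot_iff.1 ((commutator_mono h3 h3).trans (sqf_fitting h).le)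

end Cfsg.Agent.Deg.Pal
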