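import Mathlib
import Cfsg.Agent.GT.CoprimeAct
import Cfsg.Agent.GT.FrobeniusComplement
import Cfsg.Agent.GT.Fitting
import Cfsg.Agent.GT.MinNormal
import Cfsg.Agent.Flav.HHSDefs
import Cfsg.Agent.NT.Zsigmondy
import Cfsg.Agent.S4345

/-!
# Solvable groups of automorphisms in which every vector is fixed by a unique Sylow subgroup
-/

set_option autoImplicit false
set_option linter.unusedSectionVars false

namespace Cfsg.Agent.Deg.Pal

open Cfsg Cfsg.Agent.GT Cfsg.Agent.GT.CopAct Subgroup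
open scoped commutatorElement Pointwise

theorem le_of_not_dvd {G : Type*} [Group G] [Finite G] {u : ℕ} (hu : u.Prime) {P C : Subgroup G}
    [C.Normal] (hP : IsPGroup u P) (h : ¬ u ∣ C.index) : P ≤ C := by
  have := Fact.mk hu
  obtain ⟨k, hk⟩ := IsPGroup.iff_card.1 hP
  have h1 : C.relIndex P ∣ u ^ k := hk ▸ relIndex_dvd_card C P
  have h2 : C.relIndex P ∣ C.index := relIndex_dvd_index_of_normal C P
  exact relIndex_eq_one.1 (Nat.eq_one_of_dvd_coprimes
    (((Nat.Prime.coprime_iff_not_dvd hu).2 h).pow_left k) h1 h2)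

theorem index_dvd_card_of_sup {G : Type*} [Group G] [Finite G] {N O : Subgroup G} [O.Normal]
    (h : N ⊔ O = ⊤) : N.index ∣ Nat.card O := by
  have h1 : O.relIndex N = O.index := by rw [← relIndex_sup_right, h, relIndex_top_right]
  obtain ⟨c, hc⟩ := h1 ▸ relIndex_dvd_card O N
  have h2 := N.card_mul_index
  rw [← O.card_mul_index, hc] at h2
  refine ⟨c, Nat.eq_of_mul_eq_mul_right (Nat.pos_of_ne_zero O.index_ne_zero_of_finite) ?_⟩
  rw [← h2]; ring

/-- With cyclic Sylow `t`-subgroups, `t` divides the number of Sylow `u`-subgroups of a solvable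
group only if `u ∣ t - 1`. -/
theorem dvd_sub_one {H : Type*} [Group H] [Finite H] [Group.IsSolvable H] {t u : ℕ} (ht : t.Prime)
    [hu : Fact u.Prime] (hne : u ≠ t) (hc : ∀ T : Subgroup H, IsPGroup t T → IsCyclic T)
    (h : t ∣ Nat.card (Sylow u H)) : u ∣ t - 1 := by
  have := Fact.mk ht
  by_contra hn
  obtain ⟨P⟩ : Nonempty (Sylow u H) := inferInstance
  have h1 : ¬ u ∣ (pPrimeCore t H).index := by
    intro hd
    have hF := fitting_eq_pCore ht (pPrimeCore_quotient_pPrimeCore (p := t) (G := H))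
    have hC := centralizer_fitting_le (G := H ⧸ pPrimeCore t H)
    rw [hF] at hC
    have hp := isPGroup_pCore (G := H ⧸ pPrimeCore t H) t
    generalize hE : pCore t (H ⧸ pPrimeCore t H) = F at hC hp
    have : F.Normal := hE ▸ inferInstance
    have hcyc : IsCyclic F := by
      obtain ⟨Q, hQ⟩ := hp.exists_le_sylow
      obtain ⟨Q', rfl⟩ := Sylow.mapSurjective_surjective
        (QuotientGroup.mk'_surjective (pPrimeCore t H)) t Q
      have := hc Q' Q'.2
      have : IsCyclic ((Q' : Subgroup H).map (QuotientGroup.mk' (pPrimeCore t H))) :=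
        isCyclic_of_surjective _ ((QuotientGroup.mk' _).subgroupMap_surjective _)
      rw [Sylow.coe_mapSurjective] at hQ
      exact isCyclic_of_injective (inclusion hQ) (inclusion_injective hQ)
    obtain ⟨k, hk⟩ := IsPGroup.iff_card.1 hp
    have h2 : (MulAut.conjNormal : _ →* MulAut F).ker ≤ F := fun g hg => hC fun x hx => by
      have := congrArg Subtype.val (MulEquiv.congr_fun (MonoidHom.mem_ker.1 hg) ⟨x, hx⟩)
      exact (mul_inv_eq_iff_eq_mul.1 this).symm
    have h3 := (MulAut.conjNormal : _ →* MulAut F).ker.card_mul_index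
    rw [index_ker] at h3
    rw [index_eq_card, ← h3] at hd
    have hut : ∀ j, ¬ u ∣ t ^ j := fun j h4 =>
      hne ((Nat.prime_dvd_prime_iff_eq hu.out ht).1 (hu.out.dvd_of_dvd_pow h4))
    rcases (Nat.Prime.dvd_mul hu.out).1 hd with h4 | h4
    · exact hut k (hk ▸ h4.trans (card_dvd_of_le h2))
    · have h5 := h4.trans (card_subgroup_dvd_card _)
      rw [hcyc.card_mulAut, hk] at h5
      rcases Nat.eq_zero_or_pos k with rfl | h0
      · exact hut 0 (by simpa using h5)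
      · rw [Nat.totient_prime_pow ht h0] at h5
        exact ((Nat.Prime.dvd_mul hu.out).1 h5).elim (hut _) hn
  have h2 := index_dvd_card_of_sup (P.normalizer_sup_eq_top' (le_of_not_dvd hu.out P.2 h1))
  rw [← P.card_eq_index_normalizer] at h2
  exact not_dvd_card_pPrimeCore ht (h.trans h2)

theorem val_eq {p x y : ℤ} (hp : p ≠ 0) {i j : ℕ} (hx : ¬ p ∣ x) (hy : ¬ p ∣ y)
    (h : p ^ i * x = p ^ j * y) : i = j := by
  wlog hij : i ≤ j generalizing i j x y
  · exact (this hy hx h.symm (by omega)).symm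
  obtain ⟨d, rfl⟩ := Nat.exists_eq_add_of_le hij
  rw [pow_add, mul_assoc] at h
  rcases d with _ | d
  · rfl
  · exact absurd ⟨p ^ d * y, by rw [mul_left_cancel₀ (pow_ne_zero i hp) h]; ring⟩ hx

theorem arith {p N n m a b c d : ℕ} (hp' : p.Prime) (hN : N ≠ 1) (hn : n ≠ 0) (hca : c < a) (hdb : d ≤ b)
    (h1 : p ^ n + N * 1 = N * p ^ m + 1) (h2 : p ^ a + N * p ^ d = N * p ^ b + p ^ c) : a = c + n := by
  have hp := hp'.two_le
  have hq := Nat.prime_iff_prime_int.1 hp'
  have hp0 : (p : ℤ) ≠ 0 := by omega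
  have nd : ∀ k : ℕ, k ≠ 0 → ¬ (p : ℤ) ∣ p ^ k - 1 := fun k hk h => by
    have := (dvd_sub_right (dvd_pow_self (p : ℤ) hk)).1 h
    have := Int.le_of_dvd one_pos this
    omega
  have key : ∀ {n m : ℕ}, n ≠ 0 → (N : ℤ) * (p ^ m - 1) = p ^ n - 1 →
      ∃ x y : ℤ, ¬ (p : ℤ) ∣ x ∧ ¬ (p : ℤ) ∣ y ∧ (N - 1) * x = p ^ m * y := by
    intro n m hn h
    have hm : m ≠ 0 := by
      rintro rfl
      exact nd n hn (by rw [← h]; simp)
    have hN0 : N ≠ 0 := by
      rintro rfl
      exact nd n hn (by rw [← h]; simp)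
    have h3 : (p : ℤ) ^ m < p ^ n := by
      have : (1 : ℤ) < p ^ m := one_lt_pow₀ (by omega) hm
      have : (2 : ℤ) ≤ N := by omega
      nlinarith
    obtain ⟨e, rfl⟩ := Nat.exists_eq_add_of_lt ((pow_lt_pow_iff_right₀ (by omega)).1 h3)
    exact ⟨_, _, nd m hm, nd (e + 1) (by omega), by linear_combination h⟩
  obtain ⟨a', rfl⟩ := Nat.exists_eq_add_of_lt hca
  obtain ⟨b', rfl⟩ := Nat.exists_eq_add_of_le hdb
  have e1 : (N : ℤ) * (p ^ m - 1) = p ^ n - 1 := by zify at h1; linear_combination -h1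
  have e2 : (p : ℤ) ^ d * (N * (p ^ b' - 1)) = p ^ c * (p ^ (a' + 1) - 1) := by
    zify at h2; linear_combination -h2
  have hpN : ∀ k, ¬ (p : ℤ) ∣ p ^ k - 1 → ¬ (p : ℤ) ∣ N * (p ^ k - 1) := fun k hk h =>
    (hq.dvd_or_dvd h).elim (fun h4 => nd n hn (e1 ▸ h4.mul_right _)) hk
  have hb : b' ≠ 0 := by
    rintro rfl
    have : (p : ℤ) ^ (a' + 1) - 1 = 0 := by
      refine (mul_eq_zero.1 (by rw [← e2]; simp)).resolve_left (pow_ne_zero c hp0)
    exact nd (a' + 1) (by omega) (this ▸ dvd_zero _)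
  obtain rfl := val_eq hp0 (hpN _ (nd _ hb)) (nd _ (by omega)) e2
  have e3 := mul_left_cancel₀ (pow_ne_zero d hp0) e2
  obtain ⟨x, y, hx, hy, h5⟩ := key hn e1
  obtain ⟨x', y', hx', hy', h6⟩ := key (by omega) e3
  obtain rfl : m = b' := val_eq (x := y * x') (y := y' * x) hp0
    (fun h => (hq.dvd_or_dvd h).elim hy hx') (fun h => (hq.dvd_or_dvd h).elim hy' hx)
    (by linear_combination x * h6 - x' * h5)
  have e4 : (p : ℤ) ^ n = p ^ (a' + 1) := by linear_combination e3 - e1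
  have := pow_right_injective₀ (by omega) (by omega) e4
  omega

variable {H Λ : Type*} [Group H] [CommGroup Λ] (φ : H →* MulAut Λ)

/-- The vectors fixed by `P`. -/
abbrev fx (P : Subgroup H) : Subgroup Λ := actFixed (φ.comp P.subtype)

variable {φ} in
theorem mem_fx {P : Subgroup H} {v : Λ} : v ∈ fx φ P ↔ ∀ g ∈ P, φ g v = v :=
  ⟨fun h g hg => h ⟨g, hg⟩, fun h g => h g g.2⟩

/-- Every vector outside `D` is fixed by a unique Sylow `u`-subgroup. -/
def NP (u : ℕ) (D : Subgroup Λ) : Prop := ∀ v ∉ D, ∃! P : Sylow u H, v ∈ fx φ P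

theorem fx_smul {u : ℕ} (g : H) (P : Sylow u H) {v : Λ} (h : v ∈ fx φ P) :
    φ g v ∈ fx φ (g • P : Sylow u H) := by
  rw [mem_fx] at h ⊢
  intro x hx
  rw [Sylow.coe_subgroup_smul, mem_smul_pointwise_iff_exists] at hx
  obtain ⟨y, hy, rfl⟩ := hx
  change φ (g * y * g⁻¹) (φ g v) = _
  rw [← MulAut.mul_apply, ← map_mul, inv_mul_cancel_right, map_mul, MulAut.mul_apply, h y hy]

theorem fx_inv {P : Subgroup H} {g : H} (hg : g ∈ normalizer (P : Set H)) {v : Λ}
    (h : v ∈ fx φ P) : φ g v ∈ fx φ P := by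
  rw [mem_fx] at h ⊢
  intro x hx
  have := h _ ((mem_normalizer_iff''.1 hg x).1 hx)
  rw [← MulAut.mul_apply, ← map_mul, show x * g = g * (g⁻¹ * x * g) by group, map_mul,
    MulAut.mul_apply, this]

variable [Finite H] [Finite Λ]

theorem count {u : ℕ} [Fact u.Prime] {D : Subgroup Λ} (hD : ActInv φ D) (h : NP φ u D)
    (P : Sylow u H) : Nat.card Λ + Nat.card (Sylow u H) * Nat.card ↥(fx φ P ⊓ D) =
      Nat.card (Sylow u H) * Nat.card (fx φ P) + Nat.card D := by
  classical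
  have := Fintype.ofFinite Λ
  have := Fintype.ofFinite (Sylow u H)
  have h1 : ∀ A : Subgroup Λ, Nat.card ↥(A ⊓ D) +
      (Finset.univ.filter fun v => v ∈ A ∧ v ∉ D).card = Nat.card A := fun A => by
    rw [← Set.ncard_coe_finset, ← SetLike.coe_sort_coe, ← SetLike.coe_sort_coe, Nat.card_coe_set_eq,
      Nat.card_coe_set_eq, ← Set.ncard_inter_add_ncard_sdiff_eq_ncard (A : Set Λ) D]
    congr 2
    ext v
    simp
  have le : ∀ P Q : Sylow u H, (Finset.univ.filter fun v => v ∈ fx φ P ∧ v ∉ D).card ≤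
      (Finset.univ.filter fun v => v ∈ fx φ Q ∧ v ∉ D).card := fun P Q => by
    obtain ⟨g, rfl⟩ := MulAction.exists_smul_eq H P Q
    refine Finset.card_le_card_of_injOn (φ g) (fun v hv => ?_) (φ g).injective.injOn
    rw [Finset.mem_coe, Finset.mem_filter] at hv ⊢
    exact ⟨Finset.mem_univ _, fx_smul φ g P hv.2.1, fun h => hv.2.2 ((hD.mem_iff g).1 h)⟩
  have h2 : (Finset.univ.filter fun v => v ∈ (⊤ : Subgroup Λ) ∧ v ∉ D) =
      Finset.univ.biUnion fun Q : Sylow u H => Finset.univ.filter fun v => v ∈ fx φ Q ∧ v ∉ D := by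
    ext v
    simp only [Finset.mem_filter, Finset.mem_univ, true_and, Finset.mem_biUnion, mem_top]
    exact ⟨fun hv => (h v hv).exists.imp fun Q hQ => ⟨hQ, hv⟩, fun ⟨_, hv⟩ => hv.2⟩
  have h3 := h1 ⊤
  rw [h2, Finset.card_biUnion (fun Q _ R _ hne => Finset.disjoint_left.2 fun v h1 h2 => by
    rw [Finset.mem_filter] at h1 h2
    exact hne ((h v h1.2.2).unique h1.2.1 h2.2.1)),
    Finset.sum_congr rfl fun Q _ => le_antisymm (le Q P) (le P Q), Finset.sum_const, smul_eq_mul,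
    Finset.card_univ, ← Nat.card_eq_fintype_card, top_inf_eq, card_top] at h3
  rw [← h3, ← h1 (fx φ P)]
  ring

theorem modEq_fix {t : ℕ} (ht : t.Prime) {x : H} (hx : x ^ t = 1) {W : Subgroup Λ}
    (hW : ∀ v ∈ W, φ x v ∈ W) : Nat.card W ≡ Nat.card ↥(W ⊓ fx φ (zpowers x)) [MOD t] := by
  classical
  have := Fact.mk ht
  have := Fintype.ofFinite W
  let f : Function.End W := fun v => ⟨φ x v, hW v v.2⟩
  have h1 : ∀ n : ℕ, ∀ v, ((f ^ n) v : Λ) = φ (x ^ n) v := by
    intro n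
    induction n with
    | zero => intro v; simp [Function.End.one_def]
    | succ n ih => intro v; rw [pow_succ, pow_succ, map_mul, MulAut.mul_apply]; exact ih _
  have h2 := Equiv.Perm.card_fixedPoints_modEq (f := f) (p := t) (n := 1)
    (by funext v; refine Subtype.ext ?_; rw [pow_one, h1, hx, map_one]; rfl)
  rw [← Nat.card_eq_fintype_card, ← Nat.card_eq_fintype_card] at h2
  refine h2.trans (congrArg (· % t) ?_)
  refine Nat.card_congr ⟨fun v => ⟨v.1.1, v.1.2, mem_fx.2 ?_⟩, fun v => ⟨⟨v.1, v.2.1⟩,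
    Subtype.ext (mem_fx.1 v.2.2 x (mem_zpowers x))⟩, fun _ => rfl, fun _ => rfl⟩
  have h3 : zpowers x ≤ (MulAction.stabilizer (MulAut Λ) (v.1.1 : Λ)).comap φ :=
    zpowers_le.2 (congrArg Subtype.val v.2 :)
  exact fun g hg => h3 hg

/-- The data of a primitive prime divisor. -/
structure Zs (s n t : ℕ) : Prop where
  hs : s.Prime
  ht : t.Prime
  hn : 2 ≤ n
  dvd : t ∣ s ^ n - 1
  nd : ∀ k, 0 < k → k < n → ¬ t ∣ s ^ k - 1
  inj : Function.Injective φ
  ex : ∀ v : Λ, v ^ s = 1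
  card : Nat.card Λ = s ^ n

variable {φ} {s n t : ℕ}

theorem Zs.ne (h : Zs φ s n t) : ¬ t ∣ s := fun h1 => by
  have h2 : t ∣ s ^ n := h1.trans (dvd_pow_self s (by have := h.hn; omega))
  have h3 := (Nat.dvd_sub_iff_right (Nat.one_le_pow n s h.hs.pos) h2).1 h.dvd
  exact h.ht.one_lt.ne' (Nat.dvd_one.1 h3)

theorem Zs.fpf (h : Zs φ s n t) {x : H} (hx : x ^ t = 1) (h1 : x ≠ 1) : fx φ (zpowers x) = ⊥ := by
  have h2 := modEq_fix φ h.ht hx (W := ⊤) fun _ _ => trivial
  rw [top_inf_eq, card_top, h.card] at h2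
  obtain ⟨k, hk, e⟩ := (Nat.dvd_prime_pow h.hs).1 (h.card ▸ card_subgroup_dvd_card (fx φ (zpowers x)))
  rcases hk.eq_or_lt with rfl | hk
  · have := (card_eq_iff_eq_top _).1 (e.trans h.card.symm)
    refine absurd (h.inj (MulEquiv.ext fun v => ?_)) h1
    rw [map_one]
    exact mem_fx.1 (this ▸ mem_top v) x (mem_zpowers x)
  · obtain ⟨d, rfl⟩ := Nat.exists_eq_add_of_lt hk
    rw [e, add_assoc, pow_add] at h2
    have h3 : s ^ (d + 1) ≡ 1 [MOD t] := Nat.ModEq.cancel_left_of_coprime (c := s ^ k)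
      (((Nat.Prime.coprime_iff_not_dvd h.ht).2 h.ne).pow_right k) (by rwa [mul_one])
    have h4 := (Nat.modEq_iff_dvd' (Nat.one_le_pow _ _ h.hs.pos)).1 h3.symm
    rcases Nat.eq_zero_or_pos k with rfl | h0
    · exact card_eq_one.1 e
    · exact absurd h4 (h.nd _ (by omega) (by omega))

theorem Zs.irr (h : Zs φ s n t) {x : H} (hx : x ^ t = 1) (h1 : x ≠ 1) {W : Subgroup Λ}
    (hW : ∀ v ∈ W, φ x v ∈ W) : W = ⊥ ∨ W = ⊤ := by
  have h2 := modEq_fix φ h.ht hx hW
  obtain ⟨k, hk, e⟩ := (Nat.dvd_prime_pow h.hs).1 (h.card ▸ card_subgroup_dvd_card W)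
  rw [h.fpf hx h1, inf_bot_eq, card_bot, e] at h2
  have h4 := (Nat.modEq_iff_dvd' (Nat.one_le_pow _ _ h.hs.pos)).1 h2.symm
  rcases Nat.eq_zero_or_pos k with rfl | h0
  · exact Or.inl (card_eq_one.1 e)
  · rcases hk.eq_or_lt with rfl | hk
    · exact Or.inr ((card_eq_iff_eq_top _).1 (e.trans h.card.symm))
    · exact absurd h4 (h.nd _ h0 hk)

theorem Zs.nontriv (h : Zs φ s n t) : Nontrivial Λ := by
  rw [← Finite.one_lt_card_iff_nontrivial, h.card]
  exact one_lt_pow₀ h.hs.one_lt (by have := h.hn; omega)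

theorem Zs.cyc (h : Zs φ s n t) (T : Subgroup H) (hT : IsPGroup t T) : IsCyclic T := by
  have := h.nontriv
  have := Fact.mk h.ht
  have h2 : t ≠ 2 := by
    rintro rfl
    refine h.nd 1 one_pos h.hn ?_
    have := (h.hs.eq_two_or_odd).resolve_left fun e => h.ne (e ▸ dvd_rfl)
    rw [pow_one]
    omega
  have h3 := Frob.hasFpfAction_of_finite (φ.comp T.subtype) fun a ha v hv => by
    obtain ⟨k, hk⟩ := IsPGroup.iff_orderOf.1 hT a
    rcases k with _ | k
    · exact absurd (orderOf_eq_one_iff.1 hk) ha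
    have h4 := h.fpf (x := (a : H) ^ t ^ k)
      (by rw [← pow_mul, ← pow_succ, ← hk, ← orderOf_coe, pow_orderOf_eq_one]) (fun e => by
        have := Nat.le_of_dvd (pow_pos h.ht.pos k) (orderOf_dvd_of_pow_eq_one e)
        rw [orderOf_coe, hk] at this
        exact absurd this (not_le.2 (pow_lt_pow_right₀ h.ht.one_lt k.lt_succ_self)))
    have h5 : zpowers ((a : H) ^ t ^ k) ≤ (MulAction.stabilizer (MulAut Λ) v).comap φ :=
      zpowers_le.2 (pow_mem (show (a : H) ∈ (MulAction.stabilizer (MulAut Λ) v).comap φ from hv) _)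
    exact mem_bot.1 (h4 ▸ mem_fx.2 fun g hg => h5 hg)
  have := h3.isCyclic_of_isPGroup h2 (P := ⊤) (hT.to_subgroup _)
  exact isCyclic_of_surjective topEquiv topEquiv.surjective

theorem Zs.normal [Group.IsSolvable H] (h : Zs φ s n t) (hd : t ∣ Nat.card H)
    (hF : ¬ ∃ m, t = 2 ^ m + 1) : ∃ X : Subgroup H, X.Normal ∧ Nat.card X = t := by
  have := Fact.mk h.ht
  by_cases h0 : pCore t H = ⊥
  swap
  · obtain ⟨X, hX, hle⟩ := exists_isMinNormal_le h0
    have hp := (isPGroup_pCore t).to_le hle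
    have hc := h.cyc X hp
    refine ⟨X, hX.normal, ((Nat.dvd_prime h.ht).1 ?_).resolve_left fun e => hX.ne_bot (card_eq_one.1 e)⟩
    rw [← hc.exponent_eq_card]
    exact Monoid.exponent_dvd_of_forall_pow_eq_one fun g =>
      Subtype.ext ((hX.elementary_of_isPGroup h.ht hp).2 g g.2)
  exfalso
  obtain ⟨x, hx⟩ := exists_prime_orderOf_dvd_card' t hd
  have hx1 : x ≠ 1 := by
    rintro rfl
    exact h.ht.one_lt.ne (orderOf_one.symm.trans hx)
  have hxt : x ^ t = 1 := hx ▸ pow_orderOf_eq_one x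
  have hc : Nat.card (zpowers x) = t := by rw [Nat.card_zpowers, hx]
  have h1 : ¬ fittingSubgroup H ≤ centralizer (zpowers x : Set H) := fun h2 => by
    have := le_pCore_of_le_fitting (IsPGroup.of_card (n := 1) (hc.trans (pow_one t).symm))
      ((le_centralizer_iff.1 h2).trans centralizer_fitting_le)
    rw [h0, le_bot_iff, zpowers_eq_bot] at this
    exact hx1 this
  rw [fitting_eq_iSup_pCore, iSup_le_iff, not_forall] at h1
  obtain ⟨⟨u, hu⟩, h1⟩ := h1
  change ¬ pCore u H ≤ _ at h1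
  have hA := isPGroup_pCore (G := H) u
  have hut : u ≠ t := by
    rintro rfl
    exact h1 (h0 ▸ bot_le)
  have := Fact.mk hu
  obtain ⟨k, hk⟩ := IsPGroup.iff_card.1 hA
  have hn : zpowers x ≤ normalizer (pCore u H : Set H) := le_normalizer_of_normal
  have hV : IsElementaryAbelian s (sdL φ ⊤) :=
    ⟨isMulCommutative_sdL φ inferInstance, by
      rintro _ ⟨v, -, rfl⟩
      rw [← map_pow, h.ex, map_one]⟩
  have hus : u ≠ s := by
    rintro rfl
    have h2 := PG.inf_centralizer_ne_bot_of_isPGroup (isPGroup_of_isElementaryAbelian hV)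
      ((isPGroup_sdR_iff φ _).2 hA) (sdR_le_normalizer_top φ _) (fun e => by
        have := h.nontriv
        exact top_ne_bot (sdL_injective φ (e.trans (Subgroup.map_bot _).symm)))
    rw [sdL_inf_centralizer, top_inf_eq] at h2
    rcases h.irr hxt hx1 (W := fx φ (pCore u H)) (fun v hv => fx_inv φ (hn (mem_zpowers x)) hv)
      with e | e
    · exact h2 ((congrArg (sdL φ) e).trans (Subgroup.map_bot _))
    · refine h1 fun g hg => ?_
      rw [h.inj (MulEquiv.ext fun v => (mem_fx.1 (e ▸ mem_top v) g hg).trans (by simp) : φ g = φ 1)]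
      exact one_mem _
  have hn' : sdR φ (zpowers x) ≤ normalizer (sdR φ (pCore u H) : Set _) :=
    (map_mono hn).trans (le_normalizer_map _)
  have H : Flav.Hyp s t (sdR φ (pCore u H)) (sdR φ (zpowers x)) (sdL φ ⊤) :=
    { hp := h.hs, hr := h.ht, card := (card_sdR φ _).trans hc
      cop := by
        rw [card_sdR, hk]
        exact fun e => hut ((Nat.prime_dvd_prime_iff_eq h.ht hu).1 (h.ht.dvd_of_dvd_pow e)).symm
      rg := hn', ea := hV, gv := sdR_le_normalizer_top φ _, rv := sdR_le_normalizer_top φ _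
      fix := by rw [sdL_inf_centralizer, top_inf_eq]; exact (congrArg _ (h.fpf hxt hx1)).trans (Subgroup.map_bot _) }
  refine hF (H.fermat hu hus le_rfl ((isPGroup_sdR_iff φ _).2 hA) hn' fun e => h1 ?_).2.1
  rw [← map_commutator, sdR_le_centralizer_iff] at e
  rw [← commutator_eq_bot_iff_le_centralizer, eq_bot_iff]
  exact fun g hg => h.inj (MulEquiv.ext fun v => (e g hg v trivial).trans (by simp))

theorem NP.exists_card {u : ℕ} [Fact u.Prime] (h : NP φ u ⊥) (hs : s.Prime) (hc : Nat.card Λ = s ^ n)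
    (hn : n ≠ 0) {P : Sylow u H} (hP : fx φ P ≠ ⊤) : ∃ m, 0 < m ∧ m < n ∧ fx φ P ≠ ⊥ ∧
      s ^ n + Nat.card (Sylow u H) * 1 = Nat.card (Sylow u H) * s ^ m + 1 := by
  have h1 := count φ (actInv_bot φ) h P
  obtain ⟨m, hm, e⟩ := (Nat.dvd_prime_pow hs).1 (hc ▸ card_subgroup_dvd_card (fx φ P))
  rw [inf_bot_eq, card_bot, e, hc] at h1
  have h0 : m ≠ 0 := by
    rintro rfl
    have := one_lt_pow₀ hs.one_lt hn
    rw [pow_zero] at h1
    omega
  refine ⟨m, Nat.pos_of_ne_zero h0, lt_of_le_of_ne hm ?_, fun h2 => ?_, h1⟩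
  · rintro rfl
    exact hP ((card_eq_iff_eq_top _).1 (e.trans hc.symm))
  · rw [h2, card_bot] at e
    exact (one_lt_pow₀ hs.one_lt h0).ne e

theorem nlem_inj [Group.IsSolvable H] [Nontrivial Λ] (hi : Function.Injective φ) {q r : ℕ}
    (hs : s.Prime) [hq : Fact q.Prime] [hr : Fact r.Prime] (hqr : q ≠ r) (hrs : r ≠ s)
    (he : ∀ v : Λ, v ^ s = 1) (h1 : NP φ q ⊥) (h2 : NP φ r ⊥) {Q : Sylow q H} {R : Sylow r H}
    (hQ : fx φ Q ≠ ⊤) (hR : fx φ R ≠ ⊤) : ∃ X : Subgroup H, X.Normal ∧ (Nat.card X).Prime ∧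
      q ∣ (centralizer (X : Set H)).index ∧ r ∣ (centralizer (X : Set H)).index := by
  have := Fact.mk hs
  obtain ⟨n, hc⟩ := IsPGroup.iff_card.1 (show IsPGroup s Λ from fun v => ⟨1, by rw [pow_one, he]⟩)
  have hn : n ≠ 0 := by
    rintro rfl
    exact (Finite.one_lt_card (α := Λ)).ne' hc
  obtain ⟨a, a0, an, hQ', ea⟩ := h1.exists_card hs hc hn hQ
  obtain ⟨b, b0, bn, hR', eb⟩ := h2.exists_card hs hc hn hR
  have m1 := card_sylow_modEq_one r H
  have hex1 : ¬ (s = 2 ∧ n = 6) := by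
    rintro ⟨rfl, rfl⟩
    have m2 := S4345.result (G := H) inferInstance r 7 (by norm_num)
    have f1 : Nat.factorization 63 7 = 1 := by
      rw [show 63 = 7 * 9 from rfl, Nat.factorization_mul (by norm_num) (by norm_num)]
      simp [Nat.Prime.factorization_self (show Nat.Prime 7 by norm_num),
        Nat.factorization_eq_zero_of_not_dvd (show ¬ 7 ∣ 9 by norm_num)]
    have f2 : Nat.factorization 21 7 = 1 := by
      rw [show 21 = 7 * 3 from rfl, Nat.factorization_mul (by norm_num) (by norm_num)]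
      simp [Nat.Prime.factorization_self (show Nat.Prime 7 by norm_num),
        Nat.factorization_eq_zero_of_not_dvd (show ¬ 7 ∣ 3 by norm_num)]
    have fin : ∀ k, r ∣ k → k ∣ 2 ^ 3 → False := fun k h3 h4 =>
      hrs ((Nat.prime_dvd_prime_iff_eq hr.out Nat.prime_two).1 (hr.out.dvd_of_dvd_pow (h3.trans h4)))
    generalize Nat.card (Sylow r H) = N at eb m1 m2
    have hN : N = 63 ∨ N = 21 ∨ N = 9 := by interval_cases b <;> omega
    rcases hN with rfl | rfl | rfl
    · rw [f1] at m2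
      exact fin _ (Nat.dvd_gcd ((Nat.modEq_iff_dvd' (by norm_num)).1 m1.symm)
        ((Nat.modEq_iff_dvd' (by norm_num)).1 m2.symm)) (by norm_num)
    · rw [f2] at m2
      exact fin _ (Nat.dvd_gcd ((Nat.modEq_iff_dvd' (by norm_num)).1 m1.symm)
        ((Nat.modEq_iff_dvd' (by norm_num)).1 m2.symm)) (by norm_num)
    · exact fin _ ((Nat.modEq_iff_dvd' (by norm_num)).1 m1.symm) (by norm_num)
  have hex2 : ¬ (n = 2 ∧ ∃ m, s + 1 = 2 ^ m) := by
    rintro ⟨rfl, -⟩
    obtain rfl : b = 1 := by omega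
    generalize Nat.card (Sylow r H) = N at eb m1
    obtain ⟨s, rfl⟩ := Nat.exists_eq_add_of_lt hs.one_lt
    obtain rfl : N = 1 + s + 1 + 1 := Nat.eq_of_mul_eq_mul_right (show 0 < s + 1 by omega) (by nlinarith)
    exact hrs ((Nat.prime_dvd_prime_iff_eq hr.out hs).1 ((Nat.modEq_iff_dvd' (by omega)).1 m1.symm))
  obtain ⟨t, ht, t1, t2⟩ := NT.zsigmondy hs.one_lt (show 1 < n by omega) hex1 hex2
  have Z : Zs φ s n t := ⟨hs, ht, by omega, t1, t2, hi, he, hc⟩
  have dv : ∀ {N m : ℕ}, 0 < m → m < n → s ^ n + N * 1 = N * s ^ m + 1 → t ∣ N := by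
    intro N m m0 mn e
    have : s ^ n - 1 = N * (s ^ m - 1) := by
      have := Nat.one_le_pow m s hs.pos
      have := Nat.one_le_pow n s hs.pos
      zify [*] at e ⊢
      linear_combination e
    exact ((Nat.Prime.dvd_mul ht).1 (this ▸ t1)).resolve_right (t2 m m0 mn)
  have da := dv a0 an ea
  have db := dv b0 bn eb
  have odd : ∀ (u : ℕ) [Fact u.Prime], t ∣ Nat.card (Sylow u H) → u ∣ t - 1 := fun u hu h =>
    dvd_sub_one ht (by
      rintro rfl
      have := (Nat.modEq_zero_iff_dvd.2 h).symm.trans (card_sylow_modEq_one u H)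
      exact ht.one_lt.ne' (Nat.dvd_one.1 ((Nat.modEq_iff_dvd' (Nat.zero_le 1)).1 this))) Z.cyc h
  obtain ⟨X, hX, hXc⟩ := Z.normal (db.trans (R.card_dvd_index.trans (index_dvd_card _))) (by
    rintro ⟨m, rfl⟩
    exact hqr (((Nat.prime_dvd_prime_iff_eq hq.out Nat.prime_two).1
      (hq.out.dvd_of_dvd_pow (odd q da))).trans ((Nat.prime_dvd_prime_iff_eq hr.out
        Nat.prime_two).1 (hr.out.dvd_of_dvd_pow (odd r db))).symm))
  have := Fact.mk ht
  obtain ⟨x, hx⟩ := exists_prime_orderOf_dvd_card' (G := X) t (hXc ▸ dvd_rfl)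
  have fin : ∀ (u : ℕ) (P : Subgroup H), u.Prime → IsPGroup u P → fx φ P ≠ ⊥ → fx φ P ≠ ⊤ →
      u ∣ (centralizer (X : Set H)).index := fun u P hu hP h3 h4 => by
    by_contra h5
    have h6 := le_centralizer_iff.1 (le_of_not_dvd hu hP h5) x.2
    refine (Z.irr (x := x) ?_ ?_ fun v hv => fx_inv φ (centralizer_le_normalizer _ h6) hv).elim h3 h4
    · rw [← hx, ← orderOf_coe, pow_orderOf_eq_one]
    · intro e
      rw [← orderOf_coe, e, orderOf_one] at hx
      exact ht.one_lt.ne hx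
  exact ⟨X, hX, hXc ▸ ht, fin q Q hq.out Q.2 hQ' hQ, fin r R hr.out R.2 hR' hR⟩

theorem fx_range {u : ℕ} [Fact u.Prime] (P : Sylow u H) :
    fx φ.range.subtype (P.mapSurjective φ.rangeRestrict_surjective) = fx φ P := by
  ext v
  rw [mem_fx, mem_fx, Sylow.coe_mapSurjective]
  exact ⟨fun h g hg => h _ ⟨g, hg, rfl⟩, by rintro h _ ⟨g, hg, rfl⟩; exact h g hg⟩

theorem NP.range {u : ℕ} [Fact u.Prime] {D : Subgroup Λ} (h : NP φ u D) :
    NP φ.range.subtype u D := fun v hv => by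
  obtain ⟨P, h1, h2⟩ := h v hv
  refine ⟨P.mapSurjective φ.rangeRestrict_surjective, (fx_range P).ge h1, fun Q hQ => ?_⟩
  obtain ⟨Q, rfl⟩ := Sylow.mapSurjective_surjective φ.rangeRestrict_surjective u Q
  rw [h2 Q ((fx_range Q).le hQ)]

end Cfsg.Agent.Deg.Pal
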