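import Mathlib
import Cfsg.Agent.Deg.PalA
import Cfsg.Agent.Deg.PalN

/-!
# Degrees of solvable groups: inertia groups in a complement, the case of a nonnormal Sylow subgroup
-/

set_option autoImplicit false
set_option linter.unusedSectionVars false

namespace Cfsg.Agent.Deg.Pal

open Cfsg Cfsg.Agent.Ch Cfsg.Agent.GT Cfsg.Agent.GT.CopAct Cfsg.Agent.Deg.Gr Subgroup
open scoped commutatorElement Pointwise

/-- Some irreducible degree is divisible by `a` and by `b`. -/
def Adj (G : Type*) [Group G] (a b : ℕ) : Prop :=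
  ∃ χ, IsIrrCharacter G χ ∧ a ∣ charDegree χ ∧ b ∣ charDegree χ

variable {G : Type*} [Group G] [Finite G]

theorem Adj.symm {a b : ℕ} (h : Adj G a b) : Adj G b a := h.imp fun _ h => ⟨h.1, h.2.2, h.2.1⟩

theorem Adj.of_surj {K : Type*} [Group K] {f : G →* K} (hf : Function.Surjective f) {a b : ℕ}
    (h : Adj K a b) : Adj G a b := by
  obtain ⟨χ, h1, h2⟩ := h
  refine ⟨_, h1.comp_surjective f hf, ?_⟩
  rwa [charDegree_congr (ψ := χ) (by rw [map_one])]

theorem not_adj_self {A : Subgroup G} [A.Normal] (h : ∀ a ∈ A, ∀ b ∈ A, a * b = b * a) {u : ℕ}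
    (hu : ¬ u ∣ A.index) : ¬ Adj G u u := fun ⟨_, h1, h2, _⟩ =>
  hu (h2.trans (h1.charDegree_dvd_index_of_comm A h))

theorem exists_sylow_le {u : ℕ} [hu : Fact u.Prime] {C : Subgroup G} (h : ¬ u ∣ C.index) :
    ∃ P : Sylow u G, (P : Subgroup G) ≤ C := by
  obtain ⟨S⟩ : Nonempty (Sylow u C) := inferInstance
  refine ⟨(S.2.map C.subtype).toSylow ?_, map_subtype_le _⟩
  rw [index_map_subtype]
  exact Nat.Prime.not_dvd_mul hu.out S.not_dvd_index h

theorem nlem {Λ : Type*} [CommGroup Λ] [Finite Λ] [Nontrivial Λ] [Group.IsSolvable G]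
    {φ : G →* MulAut Λ} {s q r : ℕ} (hs : s.Prime) [hq : Fact q.Prime] [hr : Fact r.Prime]
    (hqr : q ≠ r) (hrs : r ≠ s) (he : ∀ v : Λ, v ^ s = 1) (h1 : NP φ q ⊥) (h2 : NP φ r ⊥)
    {Q : Sylow q G} {R : Sylow r G} (hQ : fx φ Q ≠ ⊤) (hR : fx φ R ≠ ⊤) : Adj G q r := by
  have := Group.isSolvable_of_surjective φ.rangeRestrict_surjective
  obtain ⟨X, hX, hp, h3, h4⟩ := nlem_inj φ.range.subtype_injective hs hqr hrs he h1.range h2.range
    ((fx_range Q).trans_ne hQ) ((fx_range R).trans_ne hR)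
  refine Adj.of_surj φ.rangeRestrict_surjective ?_
  have := Fact.mk hp
  have hc := isCyclic_of_prime_card (p := Nat.card X) rfl
  have := Finite.one_lt_card_iff_nontrivial.1 hp.one_lt
  obtain ⟨x, hx⟩ := exists_ne (1 : X)
  obtain ⟨f, hf⟩ := exists_monoidHom_units_ne_one_of_comm (IsCyclic.commGroup (α := X)).mul_comm hx
  have hi : Function.Injective f := (MonoidHom.ker_eq_bot_iff f).1
    (f.ker.eq_bot_or_eq_top_of_prime_card.resolve_right fun e => hf (MonoidHom.mem_ker.1 (e ▸ mem_top x)))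
  have h5 : inertia X (fun n => (f n : ℂ)) ≤ centralizer (X : Set φ.range) := fun g hg y hy => by
    have := congrArg Subtype.val (hi (DFunLike.congr_fun (mem_inertia_lin.1 hg) ⟨y, hy⟩))
    exact (mul_inv_eq_iff_eq_mul.1 this).symm
  have hf' := isIrrCharacter_monoidHom_units f
  obtain ⟨χ, hχ, h6⟩ := exists_lies_over hf'
  have h7 := (index_dvd_of_le h5).trans ((Dvd.intro _ rfl).trans (h6.dvd hχ hf'))
  exact ⟨χ, hχ, h3.trans h7, h4.trans h7⟩

theorem NP.normal {H Λ : Type*} [Group H] [CommGroup Λ] {φ : H →* MulAut Λ} {u : ℕ} {D : Subgroup Λ}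
    (h : NP φ u D) (hD : D ≠ ⊤) {P : Sylow u H} (hP : fx φ P = ⊤) : (P : Subgroup H).Normal := by
  obtain ⟨v, hv⟩ : ∃ v, v ∉ D := by simpa [eq_top_iff'] using hD
  refine normal_of_top_le_normalizer fun g _ => Sylow.smul_eq_iff_mem_normalizer.1
    ((h v hv).unique ?_ (hP ▸ mem_top v))
  have := fx_smul φ g P (v := φ g⁻¹ v) (hP ▸ mem_top _)
  rwa [← MulAut.mul_apply, ← map_mul, mul_inv_cancel, map_one] at this

/-- The action of a subgroup on the linear characters of a normal subgroup. -/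
def act (M : Subgroup G) [M.Normal] (H : Subgroup G) : H →* MulAut (M →* ℂˣ) :=
  (@MulDistribMulAction.toMulAut G _ _ _ (linAct M)).comp H.subtype

/-- The linear characters of `M` fixed by `P`. -/
abbrev fa (M : Subgroup G) [M.Normal] {H : Subgroup G} (P : Subgroup H) : Subgroup (M →* ℂˣ) :=
  fx (Λ := M →* ℂˣ) (act M H) P

/-- The property `NP` for the action on linear characters. -/
abbrev NA (M : Subgroup G) [M.Normal] (H : Subgroup G) (u : ℕ) (D : Subgroup (M →* ℂˣ)) : Prop :=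
  NP (Λ := M →* ℂˣ) (act M H) u D

theorem mem_fx_act {M H : Subgroup G} [M.Normal] {P : Subgroup H} {f : M →* ℂˣ} :
    f ∈ fa M P ↔ ∀ g ∈ P, (g : G) ∈ inertia M fun n => (f n : ℂ) := by
  rw [mem_fx]
  refine forall₂_congr fun g _ => ?_
  rw [← Subgroup.inv_mem_iff (inertia M _), mem_inertia_lin]
  rfl

/-- The projection onto a complement. -/
structure Proj (N H : Subgroup G) (π : G →* H) : Prop where
  id : ∀ h : H, π h = h
  ker : ∀ g, π g = 1 ↔ g ∈ N

theorem exists_proj {N H : Subgroup G} [N.Normal] (h : IsComplement' H N) : ∃ π, Proj N H π :=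
  ⟨h.QuotientMulEquiv.toMonoidHom.comp (QuotientGroup.mk' N),
    fun x => h.QuotientMulEquiv.apply_symm_apply x, fun g =>
      (h.QuotientMulEquiv.map_eq_one_iff).trans (QuotientGroup.eq_one_iff g)⟩

namespace Proj

variable {N H : Subgroup G} {π : G →* H} (h : Proj N H π)
include h

theorem surj : Function.Surjective π := fun x => ⟨x, h.id x⟩

theorem mem (g : G) : g * (π g : G)⁻¹ ∈ N := by
  rw [← h.ker, map_mul, map_inv, h.id, mul_inv_cancel]

theorem mem_iff {T : Subgroup G} (hT : N ≤ T) {g : G} : (π g : G) ∈ T ↔ g ∈ T :=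
  ⟨fun h1 => by simpa using mul_mem (hT (h.mem g)) h1,
    fun h1 => by simpa using mul_mem (inv_mem (hT (h.mem g))) h1⟩

theorem index {T : Subgroup G} (hT : N ≤ T) : (T.subgroupOf H).index = T.index := by
  rw [← index_comap_of_surjective _ h.surj]
  congr 1
  ext g
  exact h.mem_iff hT

variable [hN : N.Normal]

theorem ext_lin (f : N →* ℂˣ) : ∃ η : inertia N (fun n => (f n : ℂ)) →* ℂˣ,
    ∀ (n : N) hn, η ⟨n, hn⟩ = f n := by
  have hT := le_inertia (isCharacter_monoidHom_units f).isClassFunction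
  refine ⟨MonoidHom.mk' (fun g => f ⟨_, h.mem g⟩) fun a b => ?_, fun n _ => ?_⟩
  · have := DFunLike.congr_fun (mem_inertia_lin.1 ((h.mem_iff hT).2 a.2)) ⟨_, h.mem b⟩
    rw [← this, linConj_apply, ← map_mul]
    congr 1
    ext
    simp only [coe_mul, map_mul]
    group
  · change f _ = f n
    congr 1
    ext
    simp [(h.ker n).2 n.2]

theorem uniq [Group.IsSolvable G] {θ : N → ℂ} (hθ : IsIrrCharacter N θ) {η : inertia N θ → ℂ}
    (hη : IsCharacter _ η) (he : ∀ (n : N) hn, η ⟨n, hn⟩ = θ n) {u : ℕ} [Fact u.Prime]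
    (hu : ∀ χ, IsIrrCharacter G χ → (inertia N θ).index * charDegree θ ∣ charDegree χ →
      ¬ u ∣ charDegree χ) :
    (∃! P : Sylow u H, ∀ g ∈ P, (g : G) ∈ inertia N θ) ∧ ∀ P : Sylow u H,
      (∀ g ∈ P, (g : G) ∈ inertia N θ) → ∀ a ∈ P, ∀ b ∈ P, a * b = b * a := by
  have := Fintype.ofFinite N
  have hT := le_inertia hθ.isCharacter.isClassFunction
  let ρ : inertia N θ →* (inertia N θ).subgroupOf H :=
    (π.comp (inertia N θ).subtype).codRestrict _ fun g => (h.mem_iff hT).2 g.2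
  have hρ : Function.Surjective ρ := fun c => ⟨⟨c.1, c.2⟩, Subtype.ext (h.id _)⟩
  have key : ∀ β, IsIrrCharacter ((inertia N θ).subgroupOf H) β →
      ¬ u ∣ (inertia N θ).index * charDegree β := fun β hβ hd => by
    have h1 := hβ.comp_surjective ρ hρ
    obtain ⟨χ, h2, -, h3⟩ := deg12_exists_of_extends hθ rfl hT hη (fun n => he n _) h1
      (fun n hn => h1.mem_charKer.2 (by
        rw [map_one, show ρ n = 1 from Subtype.ext ((h.ker _).2 hn)]))
    rw [charDegree_congr (χ := fun x => β (ρ x)) (ψ := β) (by rw [map_one])] at h3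
    exact hu χ h2 ⟨charDegree β, by rw [h3]; ring⟩ (hd.trans ⟨charDegree θ, by rw [h3]; ring⟩)
  have h1 : ¬ u ∣ ((inertia N θ).subgroupOf H).index := fun hd =>
    key _ (isIrrCharacter_monoidHom_units 1) ((h.index hT ▸ hd).mul_right _)
  have h2 : ∀ β, IsIrrCharacter ((inertia N θ).subgroupOf H) β → ¬ u ∣ charDegree β :=
    fun β hβ hd => key β hβ (hd.mul_left _)
  have hs : IsPSolvable u ((inertia N θ).subgroupOf H) := isPSolvable_of_isSolvable inferInstance
  obtain ⟨P, hP⟩ := exists_sylow_le h1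
  refine ⟨⟨P, hP, fun Q hQ => ?_⟩, fun Q hQ a ha b hb => ?_⟩
  · have := Sylow.unique_of_normal _ (ito_normal hs h2 (P.subtype hP))
    exact Sylow.subtype_injective (hP := hQ) (hQ := hP) (Subsingleton.elim _ _)
  · exact congrArg (fun x => x.1.1) (ito_comm hs h2 (Q.subtype (N := (inertia N θ).subgroupOf H) hQ)
      ⟨⟨a, hQ a ha⟩, ha⟩ ⟨⟨b, hQ b hb⟩, hb⟩)

end Proj

theorem eq_one_of_fix {M K : Subgroup G} [M.Normal] {f : M →* ℂˣ} (hM : M ≤ ⁅M, K⁆)
    (h : K ≤ inertia M fun n => (f n : ℂ)) : f = 1 := by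
  have : ⁅M, K⁆ ≤ f.ker.map M.subtype := commutator_le.2 fun v hv k hk => by
    have h1 := DFunLike.congr_fun (mem_inertia_lin.1 (h hk)) ⟨v, hv⟩⁻¹
    refine ⟨⟨v, hv⟩ * ⟨k * v⁻¹ * k⁻¹, Normal.conj_mem inferInstance _ (inv_mem hv) k⟩, ?_, by
      simp [commutatorElement_def, mul_assoc]⟩
    rw [SetLike.mem_coe, MonoidHom.mem_ker, map_mul]
    exact (congrArg (f ⟨v, hv⟩ * ·) h1).trans (by simp)
  ext v
  obtain ⟨w, h1, h2⟩ := this (hM v.2)
  rw [← show w = v from Subtype.ext h2, show f w = 1 from h1]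
  rfl

theorem lin_nontrivial {V : Subgroup G} (h : IsMulCommutative V) (h1 : V ≠ ⊥) :
    Nontrivial (V →* ℂˣ) := by
  rw [← Finite.one_lt_card_iff_nontrivial, card_monoidHom_units_of_comm' h.is_comm.comm]
  exact (one_lt_card_iff_ne_bot V).2 h1

theorem lin_pow {V : Subgroup G} {s : ℕ} (h : IsElementaryAbelian s V) (f : V →* ℂˣ) : f ^ s = 1 := by
  ext v
  rw [MonoidHom.pow_apply, ← map_pow, show v ^ s = 1 from Subtype.ext (h.2 v v.2), map_one]
  rfl

theorem cent_of_top {V H : Subgroup G} [V.Normal] (h : IsMulCommutative V) {U : Subgroup H}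
    (hU : fa V U = ⊤) {g : H} (hg : g ∈ U) : (g : G) ∈ centralizer (V : Set G) :=
  mem_centralizer_of_linConj (fun a ha b hb => congrArg Subtype.val (h.is_comm.comm ⟨a, ha⟩ ⟨b, hb⟩))
    fun f => mem_inertia_lin.1 (mem_fx_act.1 (hU ▸ mem_top f) g hg)

theorem caseB [Group.IsSolvable G] {V : Subgroup G} (hV : IsMinNormal V) {s p q r : ℕ} (hs : s.Prime)
    (he : IsElementaryAbelian s V) [hp : Fact p.Prime] [Fact q.Prime] [Fact r.Prime] (hqr : q ≠ r)
    (hrs : r ≠ s) (hq : Adj G q q) (hr : Adj G r r) (h1 : ¬ Adj G p q) (h2 : ¬ Adj G p r)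
    (P : Sylow p G) (hK : ((P : Subgroup G) ⊔ V).Normal) (hP : ¬ (P : Subgroup G).Normal) :
    Adj G q r := by
  have := hV.normal
  have hab : ∀ a ∈ V, ∀ b ∈ V, a * b = b * a := fun a ha b hb =>
    congrArg Subtype.val (he.1.is_comm.comm ⟨a, ha⟩ ⟨b, hb⟩)
  have htop : normalizer ((P : Subgroup G) : Set G) ⊔ V = ⊤ := by
    have : normalizer ((P : Subgroup G) : Set G) ⊔ ((P : Subgroup G) ⊔ V) = ⊤ :=
      P.normalizer_sup_eq_top' (N := (P : Subgroup G) ⊔ V) le_sup_left
    rwa [← sup_assoc, sup_eq_left.2 le_normalizer] at this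
  have hnle : ¬ V ≤ normalizer ((P : Subgroup G) : Set G) := fun h =>
    hP (normalizer_eq_top_iff.1 ((sup_eq_left.2 h).symm.trans htop))
  have hbot : normalizer ((P : Subgroup G) : Set G) ⊓ V = ⊥ := by
    have : (normalizer ((P : Subgroup G) : Set G) ⊓ V).Normal := normal_of_top_le_normalizer (htop ▸ sup_le
      (le_normalizer_iff.2 fun g hg x hx => mem_inf.2 ⟨mul_mem (mul_mem hg (mem_inf.1 hx).1) (inv_mem hg),
        this.conj_mem x hx.2 g⟩)
      (le_normalizer_iff.2 fun g hg x hx => by rwa [hab g hg x hx.2, mul_inv_cancel_right]))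
    exact (hV.eq_bot_or_eq inf_le_right).resolve_right fun e => hnle (inf_eq_right.1 e)
  obtain ⟨π, hπ⟩ := exists_proj (isComplement'_of_disjoint_and_mul_eq_univ (disjoint_iff.2 hbot)
    (by rw [← mul_normal, htop, coe_top]))
  have hf : ∀ f : V →* ℂˣ, f ≠ 1 → p ∣ (inertia V fun n => (f n : ℂ)).index := fun f hf => by
    by_contra hn
    obtain ⟨k, hk⟩ := IsPGroup.iff_card.1 P.2
    obtain ⟨j, -, hj⟩ := (Nat.dvd_prime_pow hp.out).1 (hk ▸ relIndex_dvd_card V P)
    have h3 := le_of_not_dvd_index hp.out (K := (P : Subgroup G) ⊔ V)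
      (le_inertia (isCharacter_monoidHom_units f).isClassFunction)
      ((relIndex_sup_right _ _).trans hj) hn
    refine hf (eq_one_of_fix (((hV.eq_bot_or_eq (commutator_le_left V _)).resolve_left fun e =>
      hnle ?_).ge) h3)
    exact (commutator_eq_bot_iff_le_centralizer.1 e).trans
      ((centralizer_le (SetLike.coe_subset_coe.2 le_sup_left)).trans (centralizer_le_normalizer _))
  have := lin_nontrivial he.1 hV.ne_bot
  have key : ∀ (u : ℕ) [Fact u.Prime], Adj G u u → ¬ Adj G p u →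
      NA V (normalizer ((P : Subgroup G) : Set G)) u ⊥ ∧
        ∀ U : Sylow u (normalizer ((P : Subgroup G) : Set G)), fa V U.1 ≠ ⊤ := fun u _ h3 h4 => by
    have k1 := fun (f : V →* ℂˣ) (h : f ≠ 1) => hπ.uniq (u := u) (isIrrCharacter_monoidHom_units f)
      (isCharacter_monoidHom_units (hπ.ext_lin f).choose)
      (fun n hn => congrArg Units.val ((hπ.ext_lin f).choose_spec n hn))
      fun χ h5 h6 h7 => h4 ⟨χ, h5, ((hf f h).mul_right _).trans h6, h7⟩
    have k2 : NA V (normalizer ((P : Subgroup G) : Set G)) u ⊥ := fun f h => by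
      simp only [mem_fx_act]
      exact (k1 f h).1
    refine ⟨k2, fun U hU => ?_⟩
    have := k2.normal bot_ne_top hU
    obtain ⟨f, h⟩ := exists_ne (1 : V →* ℂˣ)
    have k3 := (k1 f h).2 U (mem_fx_act.1 (hU ▸ mem_top f))
    refine not_adj_self (A := (U : Subgroup _).comap π) (fun a ha b hb => ?_)
      (by rw [index_comap_of_surjective _ hπ.surj]; exact U.not_dvd_index) h3
    have c1 : Commute (a * (π a : G)⁻¹) (b * (π b : G)⁻¹) := hab _ (hπ.mem a) _ (hπ.mem b)
    have c2 : Commute (a * (π a : G)⁻¹) (π b) := cent_of_top he.1 hU hb _ (hπ.mem a)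
    have c3 : Commute (b * (π b : G)⁻¹) (π a) := cent_of_top he.1 hU ha _ (hπ.mem b)
    have c4 : Commute (π a : G) (π b) := congrArg Subtype.val (k3 _ ha _ hb)
    simpa using ((c1.mul_right c2).mul_left (c3.symm.mul_right c4)).eq
  obtain ⟨Q⟩ : Nonempty (Sylow q (normalizer ((P : Subgroup G) : Set G))) := inferInstance
  obtain ⟨R⟩ : Nonempty (Sylow r (normalizer ((P : Subgroup G) : Set G))) := inferInstance
  exact (nlem hs hqr hrs (lin_pow he) (key q hq h1).1 (key r hr h2).1 ((key q hq h1).2 Q)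
    ((key r hr h2).2 R)).of_surj hπ.surj

end Cfsg.Agent.Deg.Pal
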