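import Mathlib
import Cfsg.Agent.Deg.PalB
import Cfsg.Agent.Ch.CoprimeChar
import Cfsg.Agent.Ch.RealChar3

/-!
# Degrees of solvable groups: the case of a normal nonabelian Sylow subgroup; three primes
-/

set_option autoImplicit false
set_option linter.unusedSectionVars false

namespace Cfsg.Agent.Deg.Pal

open Cfsg Cfsg.Agent.Ch Cfsg.Agent.GT Cfsg.Agent.GT.CopAct Cfsg.Agent.Deg.Gr Subgroup
open scoped commutatorElement Pointwise

variable {G : Type*} [Group G] [Finite G]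

/-- A normal Sylow subgroup whose derived subgroup is minimal normal, with a complement. -/
structure CA (p : ℕ) (P V H : Subgroup G) (π : G →* H) : Prop where
  hp : p.Prime
  pg : IsPGroup p P
  nd : ¬ p ∣ P.index
  min : IsMinNormal V
  eq : ⁅P, P⁆ = V
  proj : Proj P H π

namespace CA

variable {p : ℕ} {P V H : Subgroup G} {π : G →* H} [P.Normal] [V.Normal] (h : CA p P V H π)
include h

theorem le : V ≤ P := h.eq ▸ commutator_le_left P P

theorem nilp : Group.IsNilpotent P := have := Fact.mk h.hp; h.pg.isNilpotent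

theorem cen : P ≤ centralizer (V : Set G) := have := h.nilp; h.min.le_centralizer_of_isNilpotent P

theorem ea : IsElementaryAbelian p V := h.min.elementary_of_isPGroup h.hp (h.pg.to_le h.le)

theorem cop : (Nat.card P).Coprime P.index := by
  have := Fact.mk h.hp
  obtain ⟨k, hk⟩ := IsPGroup.iff_card.1 h.pg
  exact hk ▸ ((Nat.Prime.coprime_iff_not_dvd h.hp).2 h.nd).pow_left k

theorem card_H : Nat.card H = P.index := by
  rw [show P = π.ker from Subgroup.ext fun g => (h.proj.ker g).symm, index_ker,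
    MonoidHom.range_eq_top.2 h.proj.surj, card_top]

theorem index_H : H.index = Nat.card P :=
  Nat.eq_of_mul_eq_mul_left (Nat.card_pos (α := H))
    (by rw [card_mul_index, h.card_H, mul_comm, card_mul_index])

theorem cop' (U : Subgroup H) : (Nat.card (U.map H.subtype)).Coprime (Nat.card P) :=
  (h.card_H ▸ h.cop.symm).coprime_dvd_left (card_dvd_of_le (map_subtype_le U))

theorem le_in (f : V →* ℂˣ) : P ≤ inertia V fun n => (f n : ℂ) := fun g hg =>
  mem_inertia.2 fun n => by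
    congr 2
    exact Subtype.ext (by simp [← h.cen hg n n.2])

theorem ne_one {θ : P → ℂ} (hθ : IsIrrCharacter P θ) {f : V →* ℂˣ} (hf : f ≠ 1)
    (e : ∀ v : V, θ ⟨v, h.le v.2⟩ = θ 1 * f v) : θ 1 ≠ 1 := fun h1 => hf (by
  ext v
  have h2 : (⟨v, h.le v.2⟩ : P) ∈ _root_.commutator P := by
    rw [← subgroupOf_commutator_dgr, h.eq]; exact v.2
  have h3 := apply_eq_of_mem_charKer (hθ.isCharacter.commutator_le_charKer_of_apply_one h1 h2)
  rw [e, h1, one_mul] at h3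
  exact h3)

theorem ex_inv (f : V →* ℂˣ) : ∃ θ : P → ℂ, IsIrrCharacter P θ ∧
    (∀ v : V, θ ⟨v, h.le v.2⟩ = θ 1 * f v) ∧ inertia P θ = inertia V fun n => (f n : ℂ) := by
  have := Fintype.ofFinite V
  have hf := isIrrCharacter_monoidHom_units f
  obtain ⟨θ, h1, h2, h3⟩ := exists_inv_over_of_comm (S := inertia V fun n => (f n : ℂ)) h.le h.eq.le
    le_normalizer_of_normal le_normalizer_of_normal
    ((h.cop.coprime_dvd_left (relIndex_dvd_card V P)).coprime_dvd_right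
      (relIndex_dvd_index_of_normal _ _)) hf (fun s hs g g' e => by
        rw [← mem_inertia.1 hs g]
        congr 2
        exact Subtype.ext e)
  have h4 := res_eq_smul_of_le_inertia h.le hf (h.le_in f) h1 h2
  generalize classInner (fun n : V => θ ⟨n, h.le n.2⟩) _ = c at h4
  have h5 : ∀ v : V, θ ⟨v, h.le v.2⟩ = θ 1 * f v := fun v => by
    have a := congrFun h4 v
    have b := congrFun h4 1
    simp only [Pi.smul_apply, smul_eq_mul, map_one, Units.val_one, mul_one] at a b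
    rw [a, ← b]
    rfl
  refine ⟨θ, h1, h5, le_antisymm (fun g hg => mem_inertia.2 fun n => ?_)
    fun g hg => mem_inertia.2 fun n => h3 g hg _ _ rfl⟩
  refine mul_left_cancel₀ h1.apply_one_ne_zero ?_
  rw [← h5, ← h5]
  exact mem_inertia.1 hg ⟨n, h.le n.2⟩

variable [Group.IsSolvable G]

theorem nl {θ : P → ℂ} (hθ : IsIrrCharacter P θ) (h1 : θ 1 ≠ 1) {u : ℕ} [Fact u.Prime]
    (hu : ¬ Adj G p u) : (∃! U : Sylow u H, ∀ g ∈ U, (g : G) ∈ inertia P θ) ∧ ∀ U : Sylow u H,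
      (∀ g ∈ U, (g : G) ∈ inertia P θ) → ∀ a ∈ U, ∀ b ∈ U, a * b = b * a := by
  have := Fact.mk h.hp
  obtain ⟨η, h2, h3⟩ := deg12_extends_of_coprime h.cop hθ le_rfl
    (le_inertia hθ.isCharacter.isClassFunction)
  refine h.proj.uniq hθ h2.isCharacter (fun n _ => h3 n) fun χ h4 h5 h6 => hu ⟨χ, h4, ?_, h6⟩
  obtain ⟨k, hk⟩ := exists_charDegree_eq_pow h.pg hθ
  refine ((prime_dvd_of_dvd_pow_of_ne_one h.hp hk.dvd ?_).mul_left _).trans h5
  exact mt hθ.isCharacter.charDegree_eq_one_iff.1 h1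

theorem lam {u : ℕ} [Fact u.Prime] (hu : ¬ Adj G p u) : NA V H u ⊥ := fun f hf => by
  obtain ⟨θ, h1, h2, h3⟩ := h.ex_inv f
  simp only [mem_fx_act, ← h3]
  exact (h.nl h1 (h.ne_one h1 hf h2) hu).1

theorem nt : Nontrivial (V →* ℂˣ) := lin_nontrivial h.ea.1 h.min.ne_bot

theorem normal {u : ℕ} [Fact u.Prime] (hu : ¬ Adj G p u) {U : Sylow u H} (hU : fa V U.1 = ⊤) :
    (U : Subgroup H).Normal := have := h.nt; (h.lam hu).normal bot_ne_top hU

theorem not_comm {u : ℕ} [hu' : Fact u.Prime] (hu : ¬ Adj G p u) (hne : u ≠ p) (ha : Adj G u u)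
    {U : Sylow u H} (hU : fa V U.1 = ⊤) : ¬ ⁅P, U.1.map H.subtype⁆ ≤ V := fun h0 => by
  have := h.nilp
  have := Fact.mk h.hp
  have hc := le_cent_of_comm_le (h.cop' U) (h0.trans h.eq.ge)
  have hn := h.normal hu hU
  have := h.nt
  obtain ⟨f, hf⟩ := exists_ne (1 : V →* ℂˣ)
  obtain ⟨θ, h1, h2, h3⟩ := h.ex_inv f
  have h4 := (h.nl h1 (h.ne_one h1 hf h2) hu).2 U (h3 ▸ mem_fx_act.1 (hU ▸ mem_top f))
  have : (U.1.map H.subtype).Normal := ⟨by
    rintro _ ⟨x, hx, rfl⟩ g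
    have h5 : (π g * x * (π g)⁻¹ : H).1 ∈ U.1.map H.subtype := ⟨_, hn.conj_mem x hx _, rfl⟩
    have h6 := hc h5 _ (h.proj.mem g)
    convert h5 using 1
    rw [← mul_inv_eq_iff_eq_mul.2 h6]
    simp [mul_assoc]⟩
  refine not_adj_self (A := U.1.map H.subtype) ?_ ?_ ha
  · rintro _ ⟨a, h5, rfl⟩ _ ⟨b, h6, rfl⟩
    exact congrArg Subtype.val (h4 a h5 b h6)
  · obtain ⟨k, hk⟩ := IsPGroup.iff_card.1 h.pg
    rw [index_map_subtype, h.index_H, hk]
    exact Nat.Prime.not_dvd_mul hu'.out U.not_dvd_index fun e =>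
      hne ((Nat.prime_dvd_prime_iff_eq hu'.out h.hp).1 (hu'.out.dvd_of_dvd_pow e))

theorem ne_top {U : Subgroup H} (h0 : ¬ ⁅P, U.map H.subtype⁆ ≤ V) : fa P U ≠ ⊤ := fun e => by
  refine h0 (h.eq ▸ comm_le_of_linConj ?_)
  rintro _ ⟨g, hg, rfl⟩ f
  exact mem_inertia_lin.1 (mem_fx_act.1 (e ▸ mem_top f) g hg)

theorem surj {u : ℕ} [Fact u.Prime] (hu : ¬ Adj G p u) {U : Sylow u H} (hU : fa V U.1 = ⊤) {x : P}
    {g : H} (hg : g ∈ U) (hx : ⁅(g : G), (x : G)⁆ ∉ V) {c : P →* V} (hc : ∀ y, (c y : G) = ⁅(y : G), (x : G)⁆) :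
    c.range = ⊤ := by
  by_contra hn
  have := Fintype.ofFinite P
  obtain ⟨v, hv⟩ : ∃ v, v ∉ c.range := by simpa [eq_top_iff'] using hn
  have hab := h.ea.1.is_comm.comm
  have : c.range.Normal := ⟨fun a ha b => by rwa [hab b a, mul_inv_cancel_right]⟩
  obtain ⟨f, hf⟩ := exists_monoidHom_units_ne_one_of_comm (G := V ⧸ c.range)
    (fun a b => by
      obtain ⟨a, rfl⟩ := QuotientGroup.mk_surjective a
      obtain ⟨b, rfl⟩ := QuotientGroup.mk_surjective b
      rw [← QuotientGroup.mk_mul, hab, QuotientGroup.mk_mul])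
    (g := (v : V ⧸ c.range)) (mt (QuotientGroup.eq_one_iff v).1 hv)
  obtain ⟨θ, h1, h2, -⟩ := h.ex_inv (f.comp (QuotientGroup.mk' _))
  have h3 := h.ne_one h1 (fun e => hf (DFunLike.congr_fun e v)) h2
  have h4 : θ x ≠ 0 := fun e => by
    have h5 := sum_conj_mul h1 x x⁻¹
    have h6 : ∀ b : P, θ (b * x * b⁻¹ * x⁻¹) = θ 1 := fun b => by
      have := h2 (c b)
      rw [MonoidHom.comp_apply, QuotientGroup.mk'_apply, (QuotientGroup.eq_one_iff (c b)).2 (show c b ∈ c.range from ⟨b, rfl⟩),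
        map_one, Units.val_one, mul_one] at this
      rw [← this]
      congr 1
      exact Subtype.ext (hc b).symm
    simp [h6, e, h1.apply_one_ne_zero] at h5
  have := Sylow.unique_of_normal U (h.normal hu hU)
  have h5 : ∀ ψ : P → ℂ, IsIrrCharacter P ψ → ψ 1 ≠ 1 → (g : G) ∈ inertia P ψ := fun ψ a b => by
    obtain ⟨W, hW, -⟩ := (h.nl a b hu).1
    exact hW g (Subsingleton.elim U W ▸ hg)
  have h6 : (⟨g * x * (g : G)⁻¹, Normal.conj_mem inferInstance _ x.2 _⟩ * x⁻¹ : P) ∉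
      _root_.commutator P := by
    rw [← subgroupOf_commutator_dgr, h.eq]; exact hx
  obtain ⟨μ, hμ⟩ := exists_monoidHom_units_ne_one h6
  have h7 := mem_inertia.1 (h5 _ (h1.monoidHom_mul μ) (by simpa using h3)) x
  simp only [mem_inertia.1 (h5 _ h1 h3) x] at h7
  rw [map_mul, Units.ext (mul_right_cancel₀ h4 h7), map_inv, mul_inv_cancel] at hμ
  exact hμ rfl

theorem card_lt {u : ℕ} [Fact u.Prime] (hu : ¬ Adj G p u) {U : Sylow u H} (hU : fa V U.1 = ⊤)
    (h0 : ¬ ⁅P, U.1.map H.subtype⁆ ≤ V) :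
    Nat.card (fa P U.1) * Nat.card (V →* ℂˣ) < Nat.card (P →* ℂˣ) := by
  obtain ⟨Q, hQ⟩ : ∃ Q, Q = U.1.map H.subtype := ⟨_, rfl⟩
  rw [← hQ] at h0
  have hc : (Nat.card Q).Coprime (Nat.card P) := hQ ▸ h.cop' U
  have hQV : V ≤ centralizer (Q : Set G) := by
    rw [le_centralizer_iff, hQ]
    rintro _ ⟨g, hg, rfl⟩
    exact cent_of_top h.ea.1 hU hg
  obtain ⟨C, hC⟩ : ∃ C, C = P ⊓ centralizer (Q : Set G) := ⟨_, rfl⟩
  have hCP : C ≤ P := hC ▸ inf_le_left
  have hVC : V ≤ C := hC ▸ le_inf h.le hQV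
  have hs := commutator_sup_centralizer (K := P) le_normalizer_of_normal hc (Or.inr inferInstance)
  rw [← hC] at hs
  have h1 : Nat.card (fa P U.1) ≤ V.relIndex C := by
    refine le_trans (Nat.card_le_card_of_injective (fun μ : fa P U.1 =>
      (⟨μ.1.comp (inclusion hCP), fun x hx => Abelianization.commutator_subset_ker μ.1 (by
        rw [← subgroupOf_commutator_dgr, h.eq]; exact hx)⟩ :
        {f : C →* ℂˣ // ∀ x ∈ V.subgroupOf C, f x = 1})) fun μ ν e => ?_) (RC.card_hom_trivial_le _)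
    have e1 : ∀ x : C, μ.1 (inclusion hCP x) = ν.1 (inclusion hCP x) := fun x =>
      DFunLike.congr_fun (congrArg Subtype.val e) x
    have e2 := mem_fx_act.1 (mul_mem μ.2 (inv_mem ν.2))
    have e3 : P ≤ (μ.1 * ν.1⁻¹).ker.map P.subtype := by
      refine hs.ge.trans (sup_le (commutator_le.2 fun y hy k hk => ?_) fun x hx =>
        ⟨⟨x, hCP hx⟩, ?_, rfl⟩)
      · obtain ⟨k, hk', rfl⟩ := hQ ▸ hk
        have e4 := DFunLike.congr_fun (mem_inertia_lin.1 (e2 k hk')) ⟨y, hy⟩⁻¹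
        refine ⟨⟨y, hy⟩ * ⟨k * y⁻¹ * (k : G)⁻¹, Normal.conj_mem inferInstance _ (inv_mem hy) _⟩, ?_, by
          simp [commutatorElement_def, mul_assoc]⟩
        rw [SetLike.mem_coe, MonoidHom.mem_ker, map_mul]
        exact (congrArg ((μ.1 * ν.1⁻¹) ⟨y, hy⟩ * ·) e4).trans (by rw [map_inv, mul_inv_cancel])
      · exact mul_inv_eq_one.2 (e1 ⟨x, hx⟩)
    refine Subtype.ext (mul_inv_eq_one.1 (MonoidHom.ext fun y => ?_))
    obtain ⟨w, a, b⟩ := e3 y.2
    rwa [← show w = y from Subtype.ext b]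
  obtain ⟨x, hx, g, hg, hxg⟩ : ∃ x ∈ ⁅P, Q⁆, ∃ g ∈ Q, ⁅g, x⁆ ∉ V := by
    by_contra! hn
    refine h0 ?_
    rw [← commutator_commutator_eq le_normalizer_of_normal hc, Subgroup.commutator_comm]
    exact commutator_le.2 fun g hg x hx => hn x hx g hg
  have hxP : x ∈ P := commutator_le_left P Q hx
  have hm : ∀ y : P, ⁅(y : G), x⁆ ∈ V := fun y => h.eq ▸ commutator_mem_commutator y.2 hxP
  let c : P →* V := MonoidHom.mk' (fun y => ⟨_, hm y⟩) fun a b => Subtype.ext (by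
    have := h.cen a.2 _ (hm b)
    change ⁅(a : G) * b, x⁆ = ⁅(a : G), x⁆ * ⁅(b : G), x⁆
    rw [h.cen (h.le (hm b)) _ (hm a), show ⁅(a : G) * b, x⁆ = a * ⁅(b : G), x⁆ * (a : G)⁻¹ * ⁅(a : G), x⁆ by
      simp only [commutatorElement_def]; group, ← this, mul_inv_cancel_right])
  obtain ⟨g, hg', rfl⟩ := hQ ▸ hg
  have h2 := h.surj hu hU (x := ⟨x, hxP⟩) hg' hxg (c := c) fun _ => rfl
  have h3 : ⁅⁅P, Q⁆, C⁆ = ⊥ := commutator_commutator_eq_bot_of_rotate
    (by rw [commutator_eq_bot_iff_le_centralizer.2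
      (le_centralizer_iff.1 (hC.le.trans inf_le_right)), commutator_bot_left])
    (commutator_eq_bot_iff_le_centralizer.2
      (((commutator_mono hCP le_rfl).trans h.eq.le).trans hQV))
  have h4 : C.subgroupOf P < c.ker := by
    refine lt_of_le_of_ne (fun y hy => Subtype.ext ?_) fun e => hxg ?_
    · exact commutatorElement_eq_one_iff_mul_comm.2
        (commutator_eq_bot_iff_le_centralizer.1 h3 hx y hy)
    · have : (⟨x, hxP⟩ : P) ∈ C.subgroupOf P := e ▸ Subtype.ext (commutatorElement_self x)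
      rw [hC] at this
      exact (commutatorElement_eq_one_iff_mul_comm.2 (this.2 _ hg)).symm ▸ one_mem V
  have h5 := card_lt_of_lt h4
  have h6 := c.ker.card_mul_index
  rw [index_ker, h2, card_top] at h6
  rw [card_subgroupOf_eq hCP, ← card_mul_relIndex_eq hVC] at h5
  rw [card_monoidHom_units_of_comm' h.ea.1.is_comm.comm, card_lin, h.eq]
  rw [← card_mul_relIndex_eq h.le, mul_comm] at h6
  rw [← Nat.eq_of_mul_eq_mul_left Nat.card_pos h6, mul_comm]
  exact lt_of_le_of_lt (Nat.mul_le_mul_left _ h1) h5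

theorem triv_case {q r : ℕ} [hq' : Fact q.Prime] [hr' : Fact r.Prime] (hqp : q ≠ p) (hrp : r ≠ p)
    (hq : Adj G q q) (hr : Adj G r r) (h1 : ¬ Adj G p q) (h2 : ¬ Adj G p r) {Q : Sylow q H}
    (hQ : fa V Q.1 = ⊤) : Adj G q r := by
  by_contra h3
  have := Fact.mk h.hp
  have c1 := h.not_comm h1 hqp hq hQ
  have n1 := h.normal h1 hQ
  have u1 := Sylow.unique_of_normal Q n1
  have hN : NA P H r (fa P Q.1) := fun μ hμ => by
    have hμ' := isIrrCharacter_monoidHom_units μ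
    have hT := le_inertia hμ'.isCharacter.isClassFunction
    obtain ⟨η, hη⟩ := h.proj.ext_lin μ
    simp only [mem_fx_act]
    refine (h.proj.uniq hμ' (isCharacter_monoidHom_units η)
      (fun n hn => congrArg Units.val (hη n hn)) fun χ a b c => h3 ⟨χ, a, ?_, c⟩).1
    refine (Dvd.dvd.mul_right ?_ _).trans b
    by_contra hn
    obtain ⟨W, hW⟩ := exists_sylow_le (h.proj.index hT ▸ hn)
    exact hμ (mem_fx_act.2 fun g hg => hW (Subsingleton.elim Q W ▸ hg))
  obtain ⟨R⟩ : Nonempty (Sylow r H) := inferInstance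
  by_cases hR : fa V R.1 = ⊤
  · have u2 := Sylow.unique_of_normal R (h.normal h2 hR)
    have k : ∀ μ ∉ fa P Q.1, μ ∈ fa P R.1 := fun μ hμ => by
      obtain ⟨W, hW, -⟩ := hN μ hμ
      exact Subsingleton.elim W R ▸ hW
    obtain ⟨ν, hν⟩ : ∃ ν, ν ∉ fa P Q.1 := by simpa [eq_top_iff'] using h.ne_top c1
    refine h.ne_top (h.not_comm h2 hrp hr hR) (eq_top_iff.2 fun μ _ => ?_)
    by_cases hμ : μ ∈ fa P Q.1
    · exact (mul_mem_cancel_right (k ν hν)).1 (k _ fun e => hν ((mul_mem_cancel_left hμ).1 e))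
    · exact k μ hμ
  have := h.nt
  obtain ⟨n, hn⟩ := IsPGroup.iff_card.1
    (show IsPGroup p (V →* ℂˣ) from fun f => ⟨1, by rw [pow_one, lin_pow h.ea]⟩)
  have hn0 : n ≠ 0 := by
    rintro rfl
    exact (Finite.one_lt_card (α := V →* ℂˣ)).ne' hn
  obtain ⟨m, -, hm, -, e1⟩ := (h.lam h2).exists_card h.hp hn hn0 hR
  have e2 := count _ (fun g μ hμ => fx_inv _ (le_normalizer_of_normal (mem_top g)) hμ) hN R
  obtain ⟨k, hk⟩ := IsPGroup.iff_card.1 h.pg
  have pw : ∀ A : Subgroup (P →* ℂˣ), ∃ j, Nat.card A = p ^ j := fun A => by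
    have := (card_subgroup_dvd_card A).trans
      ((card_lin (N := P)).dvd.trans (relIndex_dvd_card ⁅P, P⁆ P))
    obtain ⟨j, -, e⟩ := (Nat.dvd_prime_pow h.hp).1 (hk ▸ this)
    exact ⟨j, e⟩
  obtain ⟨a, ha⟩ := pw ⊤
  obtain ⟨b, hb⟩ := pw (fa P R.1)
  obtain ⟨c, hc⟩ := pw (fa P Q.1)
  obtain ⟨d, hd⟩ := pw (fa P R.1 ⊓ fa P Q.1)
  rw [card_top] at ha
  have l1 := h.card_lt h1 hQ c1
  have l2 : p ^ d ≤ p ^ b := hd ▸ hb ▸ card_le_of_le inf_le_left
  rw [ha, hb, hc, hd] at e2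
  rw [ha, hc, hn, ← pow_add, pow_lt_pow_iff_right₀ h.hp.one_lt] at l1
  refine l1.ne' (arith h.hp (fun e => ?_) hn0 (by omega) ((pow_le_pow_iff_right₀ h.hp.one_lt).1 l2) e1 e2)
  rw [e, one_mul, one_mul, add_left_inj] at e1
  exact hm.ne' (Nat.pow_right_injective h.hp.two_le e1)

theorem main {q r : ℕ} [Fact q.Prime] [Fact r.Prime] (hqr : q ≠ r) (hqp : q ≠ p) (hrp : r ≠ p)
    (hq : Adj G q q) (hr : Adj G r r) (h1 : ¬ Adj G p q) (h2 : ¬ Adj G p r) : Adj G q r := by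
  obtain ⟨Q⟩ : Nonempty (Sylow q H) := inferInstance
  obtain ⟨R⟩ : Nonempty (Sylow r H) := inferInstance
  by_cases hQ : fa V Q.1 = ⊤
  · exact h.triv_case hqp hrp hq hr h1 h2 hQ
  by_cases hR : fa V R.1 = ⊤
  · exact (h.triv_case hrp hqp hr hq h2 h1 hR).symm
  have := h.nt
  exact (nlem h.hp hqr hrp (lin_pow h.ea) (h.lam h1) (h.lam h2) hQ hR).of_surj h.proj.surj

end CA

theorem step [Group.IsSolvable G] {V : Subgroup G} [V.Normal] (hV : IsMinNormal V) {s p q r : ℕ}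
    (hs : s.Prime) (he : IsElementaryAbelian s V) (hp' : p.Prime) (hq' : q.Prime) (hr' : r.Prime)
    (hqr : q ≠ r) (hqp : q ≠ p) (hrp : r ≠ p) (hp : Adj G p p) (hq : Adj G q q) (hr : Adj G r r)
    (h1 : ¬ Adj G p q) (h2 : ¬ Adj G p r) (h0 : ¬ Adj (G ⧸ V) p p) : Adj G q r := by
  have := Fact.mk hp'
  have := Fact.mk hq'
  have := Fact.mk hr'
  obtain ⟨P⟩ : Nonempty (Sylow p G) := inferInstance
  obtain ⟨a1, a2⟩ := (ito_iff (isPSolvable_of_isSolvable inferInstance)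
    (P.mapSurjective (QuotientGroup.mk'_surjective V))).2 fun χ a b => h0 ⟨χ, a, b, b⟩
  rw [Sylow.coe_mapSurjective] at a1 a2
  by_cases hP : (P : Subgroup G).Normal
  · have h3 : ⁅(P : Subgroup G), (P : Subgroup G)⁆ ≤ V :=
      comm_le_iff.2 (le_centralizer_iff_isMulCommutative.2 a2)
    rcases hV.eq_bot_or_eq h3 with e | e
    · exact absurd hp (not_adj_self (fun a ha b hb =>
        (commutator_eq_bot_iff_le_centralizer.1 e hb a ha)) P.not_dvd_index)
    · obtain ⟨H, hH⟩ := exists_left_complement'_of_coprime P.card_coprime_index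
      obtain ⟨π, hπ⟩ := exists_proj hH
      exact CA.main ⟨hp', P.2, P.not_dvd_index, hV, e, hπ⟩ hqr hqp hrp hq hr h1 h2
  · have hK : ((P : Subgroup G) ⊔ V).Normal := by
      have := a1.comap (QuotientGroup.mk' V)
      rwa [comap_map_eq, QuotientGroup.ker_mk'] at this
    by_cases hrs : r = s
    · exact (caseB hV hs he hqr.symm (hrs ▸ hqr) hr hq h2 h1 P hK hP).symm
    · exact caseB hV hs he hqr hrs hq hr h1 h2 P hK hP

universe u

/-- Three primes dividing degrees of a solvable group. -/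
theorem three_primes (G : Type u) [Group G] [Finite G] [Group.IsSolvable G] {p q r : ℕ}
    (hp : p.Prime) (hq : q.Prime) (hr : r.Prime) (hpq : p ≠ q) (hqr : q ≠ r) (hpr : p ≠ r) :
    Adj G p p → Adj G q q → Adj G r r → Adj G p q ∨ Adj G q r ∨ Adj G p r := by
  refine solvable_induction (P := fun G _ _ _ => Adj G p p → Adj G q q → Adj G r r →
    Adj G p q ∨ Adj G q r ∨ Adj G p r) ?_ ?_ G
  · rintro G _ _ _ _ ⟨χ, h1, h2, -⟩
    have := h2.trans h1.charDegree_dvd_card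
    rw [Nat.card_unique] at this
    exact absurd (Nat.dvd_one.1 this) hp.one_lt.ne'
  · intro G _ _ _ V _ s hs hV he ih h1 h2 h3
    by_contra! hn
    obtain ⟨n1, n2, n3⟩ := hn
    by_cases a1 : Adj (G ⧸ V) p p
    · by_cases a2 : Adj (G ⧸ V) q q
      · by_cases a3 : Adj (G ⧸ V) r r
        · rcases ih a1 a2 a3 with e | e | e
          exacts [n1 (e.of_surj (QuotientGroup.mk'_surjective V)),
            n2 (e.of_surj (QuotientGroup.mk'_surjective V)),
            n3 (e.of_surj (QuotientGroup.mk'_surjective V))]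
        · exact n1 (step hV hs he hr hp hq hpq hpr hqr h3 h1 h2 (mt Adj.symm n3) (mt Adj.symm n2) a3)
      · exact n3 (step hV hs he hq hp hr hpr hpq hqr.symm h2 h1 h3 (mt Adj.symm n1) n2 a2)
    · exact n2 (step hV hs he hp hq hr hqr hpq.symm hpr.symm h1 h2 h3 n1 n3 a1)

end Cfsg.Agent.Deg.Pal
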